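import Mathlib
import Cfsg.Prelude.Def_KGroupFacts

set_option autoImplicit false
open scoped commutatorElement

namespace Cfsg.Agent.Lib.Helper66.Stem

universe u v

/-- If `σ '' S` generates the target, then `S` together with the kernel generates the source. -/
theorem closure_union_ker_eq_top {Γ : Type*} {G : Type*} [Group Γ] [Group G] (σ : Γ →* G) (S : Set Γ)
    (hS : Subgroup.closure (σ '' S) = ⊤) : Subgroup.closure (S ∪ (σ.ker : Set Γ)) = ⊤ := by
  rw [eq_top_iff]
  intro g _
  have hmap : (Subgroup.closure S).map σ = ⊤ := by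
    rw [MonoidHom.map_closure, hS]
  have hg : σ g ∈ (Subgroup.closure S).map σ := hmap ▸ Subgroup.mem_top _
  obtain ⟨h, hh, hhg⟩ := hg
  have hk : h⁻¹ * g ∈ σ.ker := by
    rw [MonoidHom.mem_ker, map_mul, map_inv, hhg, inv_mul_cancel]
  have h1 : h ∈ Subgroup.closure (S ∪ (σ.ker : Set Γ)) :=
    Subgroup.closure_mono Set.subset_union_left hh
  have h2 : h⁻¹ * g ∈ Subgroup.closure (S ∪ (σ.ker : Set Γ)) :=
    Subgroup.subset_closure (Or.inr hk)
  have := Subgroup.mul_mem _ h1 h2
  rwa [mul_inv_cancel_left] at this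

/-- If a generating set commutes pairwise modulo a normal subgroup `N`, the commutator subgroup is in `N`. -/
theorem commutator_le_of_closure {Γ : Type*} [Group Γ] (T : Set Γ) (hT : Subgroup.closure T = ⊤)
    (N : Subgroup Γ) [hN : N.Normal] (h : ∀ s ∈ T, ∀ t ∈ T, ⁅s, t⁆ ∈ N) : commutator Γ ≤ N := by
  -- step 1: every g commutes with every t ∈ T modulo N
  have step1 : ∀ t ∈ T, ∀ g : Γ, ⁅g, t⁆ ∈ N := by
    intro t ht g
    have hg : g ∈ Subgroup.closure T := hT ▸ Subgroup.mem_top g
    induction hg using Subgroup.closure_induction with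
    | mem x hx => exact h x hx t ht
    | one => simp
    | mul x y _ _ hx hy =>
      have : ⁅x * y, t⁆ = x * ⁅y, t⁆ * x⁻¹ * ⁅x, t⁆ := by
        simp only [commutatorElement_def]; group
      rw [this]
      exact N.mul_mem (hN.conj_mem _ hy x) hx
    | inv x _ hx =>
      have : ⁅x⁻¹, t⁆ = x⁻¹ * (⁅x, t⁆)⁻¹ * x⁻¹⁻¹ := by
        simp only [commutatorElement_def]; group
      rw [this]
      exact hN.conj_mem _ (N.inv_mem hx) x⁻¹
  have step2 : ∀ g k : Γ, ⁅g, k⁆ ∈ N := by
    intro g k
    have hk : k ∈ Subgroup.closure T := hT ▸ Subgroup.mem_top k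
    induction hk using Subgroup.closure_induction with
    | mem x hx => exact step1 x hx g
    | one => simp
    | mul x y _ _ hx hy =>
      have : ⁅g, x * y⁆ = ⁅g, x⁆ * (x * ⁅g, y⁆ * x⁻¹) := by
        simp only [commutatorElement_def]; group
      rw [this]
      exact N.mul_mem hx (hN.conj_mem _ hy x)
    | inv x _ hx =>
      have : ⁅g, x⁻¹⁆ = x⁻¹ * (⁅g, x⁆)⁻¹ * x⁻¹⁻¹ := by
        simp only [commutatorElement_def]; group
      rw [this]
      exact hN.conj_mem _ (N.inv_mem hx) x⁻¹
  rw [commutator_def, Subgroup.commutator_le]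
  intro g _ k _
  exact step2 g k

/-- Conjugation by `t` sending `w` to `w` or `w⁻¹` normalizes `zpowers w`. -/
theorem mem_normalizer_zpowers {Γ : Type*} [Group Γ] (t w : Γ)
    (h : t * w * t⁻¹ = w ∨ t * w * t⁻¹ = w⁻¹) : t ∈ Subgroup.normalizer (Subgroup.zpowers w : Set Γ) := by
  rw [Subgroup.mem_normalizer_iff]
  intro n
  have hconj : ∀ k : ℤ, t * w ^ k * t⁻¹ = (t * w * t⁻¹) ^ k := by
    intro k
    have := map_zpow (MulAut.conj t) w k
    simpa [MulAut.conj_apply] using this
  constructor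
  · rintro ⟨k, rfl⟩
    show t * w ^ k * t⁻¹ ∈ Subgroup.zpowers w
    rw [hconj]
    rcases h with h | h
    · rw [h]; exact ⟨k, rfl⟩
    · rw [h]; exact ⟨-k, by simp⟩
  · rintro ⟨k, hk⟩
    have hk' : t * n * t⁻¹ = w ^ k := hk.symm
    rcases h with h | h
    · refine ⟨k, ?_⟩
      have : t * w ^ k * t⁻¹ = t * n * t⁻¹ := by rw [hconj, h, hk']
      have h3 := mul_left_cancel (mul_right_cancel this)
      exact h3
    · refine ⟨-k, ?_⟩
      have : t * w ^ (-k) * t⁻¹ = t * n * t⁻¹ := by rw [hconj, h, hk']; simp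
      have h3 := mul_left_cancel (mul_right_cancel this)
      exact h3

/-- Main tool: in a central extension, if the commutators of the lifts of generators lie in a
cyclic subgroup `zpowers w` that is stable (up to inversion of `w`) under these lifts, then the whole
commutator subgroup lies in `zpowers w`. -/
theorem commutator_le_zpowers {Γ : Type*} {G : Type*} [Group Γ] [Group G] (σ : Γ →* G)
    (hcent : σ.ker ≤ Subgroup.center Γ) (S : Set Γ) (hS : Subgroup.closure (σ '' S) = ⊤) (w : Γ)
    (hconj : ∀ s ∈ S, s * w * s⁻¹ = w ∨ s * w * s⁻¹ = w⁻¹)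
    (hcomm : ∀ s ∈ S, ∀ t ∈ S, ⁅s, t⁆ ∈ Subgroup.zpowers w) : commutator Γ ≤ Subgroup.zpowers w := by
  have hT := closure_union_ker_eq_top σ S hS
  have hnorm : (Subgroup.zpowers w).Normal := by
    rw [← Subgroup.normalizer_eq_top_iff, eq_top_iff, ← hT, Subgroup.closure_le]
    rintro t (ht | ht)
    · exact mem_normalizer_zpowers t w (hconj t ht)
    · apply mem_normalizer_zpowers t w
      left
      have hc := hcent ht
      rw [Subgroup.mem_center_iff] at hc
      rw [← hc w]; group
  apply commutator_le_of_closure _ hT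
  rintro s (hs | hs) t (ht | ht)
  · exact hcomm s hs t ht
  · have hc := hcent ht
    rw [Subgroup.mem_center_iff] at hc
    have : ⁅s, t⁆ = 1 := by
      rw [commutatorElement_def, hc s]; group
    rw [this]; exact Subgroup.one_mem _
  · have hc := hcent hs
    rw [Subgroup.mem_center_iff] at hc
    have : ⁅s, t⁆ = 1 := by
      rw [commutatorElement_def, ← hc t]; group
    rw [this]; exact Subgroup.one_mem _
  · have hc := hcent hs
    rw [Subgroup.mem_center_iff] at hc
    have : ⁅s, t⁆ = 1 := by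
      rw [commutatorElement_def, ← hc t]; group
    rw [this]; exact Subgroup.one_mem _

/-- A subgroup of a cyclic subgroup generated by an element `z` with `z ^ n = 1` is a homomorphic
image of `ZMod n`. -/
theorem exists_surjective_zmod_of_le_zpowers {Γ : Type*} [Group Γ] (K : Subgroup Γ) (z : Γ) (n : ℕ)
    (hz : z ^ n = 1) (hK : K ≤ Subgroup.zpowers z) :
    ∃ π : Multiplicative (ZMod n) →* K, Function.Surjective π := by
  -- K is cyclic
  have hKc : IsCyclic K := by
    have e : K.subgroupOf (Subgroup.zpowers z) ≃* K := Subgroup.subgroupOfEquivOfLe hK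
    exact isCyclic_of_surjective e.toMonoidHom e.surjective
  obtain ⟨k₀, hk₀⟩ := hKc.exists_generator
  have hk₀n : k₀ ^ n = 1 := by
    obtain ⟨i, hi⟩ := hK k₀.2
    apply Subtype.ext
    have hi' : z ^ i = (k₀ : Γ) := hi
    rw [Subgroup.coe_pow, ← hi', ← zpow_natCast, ← zpow_mul, mul_comm, zpow_mul, zpow_natCast, hz, one_zpow]
    rfl
  let f0 : ℤ →+ Additive K := zmultiplesHom (Additive K) (Additive.ofMul k₀)
  have hf0 : f0 n = 0 := by
    show (zmultiplesHom (Additive K) (Additive.ofMul k₀)) (n : ℤ) = 0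
    rw [zmultiplesHom_apply, natCast_zsmul, ← ofMul_pow, hk₀n]
    rfl
  let f1 : ZMod n →+ Additive K := ZMod.lift n ⟨f0, hf0⟩
  refine ⟨AddMonoidHom.toMultiplicativeLeft f1, ?_⟩
  intro k
  obtain ⟨i, hi⟩ := hk₀ k
  refine ⟨Multiplicative.ofAdd ((i : ℤ) : ZMod n), ?_⟩
  show Additive.toMul (f1 ((i : ℤ) : ZMod n)) = k
  have : f1 ((i : ℤ) : ZMod n) = f0 i := ZMod.lift_coe n ⟨f0, hf0⟩ i
  rw [this]
  show Additive.toMul ((zmultiplesHom (Additive K) (Additive.ofMul k₀)) i) = k
  rw [zmultiplesHom_apply, ← hi]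
  rfl

/-- Trivial multiplier from triviality of the kernels of all finite stem extensions. -/
theorem hasCyclicSchurMultiplier_one {G : Type u} [Group G] [Finite G]
    (h : ∀ (Γ : Type u) [Group Γ] [Finite Γ] (σ : Γ →* G), Cfsg.IsStemExtension σ → σ.ker = ⊥) :
    Cfsg.HasCyclicSchurMultiplier G 1 := by
  constructor
  · refine ⟨G, inferInstance, inferInstance, MonoidHom.id G, ?_, ?_⟩
    · refine ⟨Function.surjective_id, ?_, ?_⟩ <;> simp [MonoidHom.ker_id]
    · refine ⟨?_⟩
      have h1 : (MonoidHom.id G).ker = ⊥ := MonoidHom.ker_id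
      rw [h1]
      haveI : Unique (Multiplicative (ZMod 1)) := by
        change Unique (ZMod 1)
        infer_instance
      exact MulEquiv.ofUnique
  · intro Γ _ _ σ hσ
    have hk := h Γ σ hσ
    refine ⟨1, ?_⟩
    intro x
    refine ⟨1, ?_⟩
    have hx : (x : Γ) ∈ (⊥ : Subgroup Γ) := hk ▸ x.2
    rw [Subgroup.mem_bot] at hx
    apply Subtype.ext
    simp [hx]

/-- Conversely a trivial multiplier forces the kernel of every finite stem extension to be trivial. -/
theorem ker_eq_bot_of_hasCyclicSchurMultiplier_one {G : Type u} [Group G]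
    (h : Cfsg.HasCyclicSchurMultiplier G 1) (Γ : Type u) [Group Γ] [Finite Γ] (σ : Γ →* G)
    (hσ : Cfsg.IsStemExtension σ) : σ.ker = ⊥ := by
  obtain ⟨π, hπ⟩ := h.2 Γ σ hσ
  rw [eq_bot_iff]
  intro x hx
  obtain ⟨y, hy⟩ := hπ ⟨x, hx⟩
  have hy1 : y = 1 := by
    have : Subsingleton (Multiplicative (ZMod 1)) := by
      change Subsingleton (ZMod 1)
      infer_instance
    exact Subsingleton.elim _ _
  rw [hy1, map_one] at hy
  rw [Subgroup.mem_bot]
  have := congrArg Subtype.val hy
  simpa using this.symm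

end Cfsg.Agent.Lib.Helper66.Stem
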