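import Mathlib
import Cfsg.Prelude.Def_KGroupFacts
import Cfsg.Agent.Lib.Helper66.Stem

set_option autoImplicit false
open scoped commutatorElement

namespace Cfsg.Agent.Lib.Helper66.DihedralStem

open Cfsg.Agent.Lib.Helper66.Stem

/-- Core computation: `S R S⁻¹ = c R⁻¹` with `c` central. -/
theorem core_conj_pow {Γ : Type*} [Group Γ] (R S c : Γ) (hc : c ∈ Subgroup.center Γ)
    (h : S * R * S⁻¹ = c * R⁻¹) (k : ℕ) : S * R ^ k * S⁻¹ = c ^ k * (R ^ k)⁻¹ := by
  rw [Subgroup.mem_center_iff] at hc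
  have hconj : S * R ^ k * S⁻¹ = (S * R * S⁻¹) ^ k := by
    have := map_pow (MulAut.conj S) R k
    simpa [MulAut.conj_apply] using this
  rw [hconj, h]
  have hcomm : Commute c R⁻¹ := (hc R⁻¹).symm
  rw [hcomm.mul_pow, inv_pow]

theorem core_w_pow {Γ : Type*} [Group Γ] (R c : Γ) (hc : c ∈ Subgroup.center Γ) (k : ℕ) :
    (c * R⁻¹ * R⁻¹) ^ k = c ^ k * (R ^ k)⁻¹ * (R ^ k)⁻¹ := by
  rw [Subgroup.mem_center_iff] at hc
  have h1 : Commute c R⁻¹ := (hc R⁻¹).symm
  have h2 : Commute (c * R⁻¹) R⁻¹ := (h1.mul_left (Commute.refl _))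
  rw [h2.mul_pow, h1.mul_pow, inv_pow]

theorem core_facts {Γ : Type*} [Group Γ] (R S c : Γ) (hc : ∀ g : Γ, g * c = c * g)
    (h : S * R * S⁻¹ = c * R⁻¹) :
    R * (c * R⁻¹ * R⁻¹) * R⁻¹ = c * R⁻¹ * R⁻¹ ∧
    S * (c * R⁻¹ * R⁻¹) * S⁻¹ = (c * R⁻¹ * R⁻¹)⁻¹ ∧ ⁅S, R⁆ = c * R⁻¹ * R⁻¹ := by
  have e1 : c * R = R * c := (hc R).symm
  refine ⟨?_, ?_, ?_⟩
  · calc R * (c * R⁻¹ * R⁻¹) * R⁻¹ = (R * c) * R⁻¹ * R⁻¹ * R⁻¹ := by group
      _ = (c * R) * R⁻¹ * R⁻¹ * R⁻¹ := by rw [e1]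
      _ = c * R⁻¹ * R⁻¹ := by group
  · have h1 : S * (c * R⁻¹ * R⁻¹) * S⁻¹ = (S * c * S⁻¹) * (S * R * S⁻¹)⁻¹ * (S * R * S⁻¹)⁻¹ := by group
    have h2 : S * c * S⁻¹ = c := by rw [hc S]; group
    rw [h1, h2, h]
    calc c * (c * R⁻¹)⁻¹ * (c * R⁻¹)⁻¹ = (c * R) * c⁻¹ * R * c⁻¹ := by group
      _ = (R * c) * c⁻¹ * R * c⁻¹ := by rw [e1]
      _ = R * R * c⁻¹ := by simp
      _ = (c * R⁻¹ * R⁻¹)⁻¹ := by simp [mul_assoc]
  · rw [commutatorElement_def, h]

/-- Core: the commutator subgroup of a central extension generated (mod kernel) by `R, S` with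
`S R S⁻¹ R` central is contained in `zpowers (c R⁻²)`. -/
theorem core_commutator_le {Γ : Type*} {G : Type*} [Group Γ] [Group G] (σ : Γ →* G)
    (hcent : σ.ker ≤ Subgroup.center Γ) (R S : Γ)
    (hgen : Subgroup.closure ({σ R, σ S} : Set G) = ⊤)
    (hc : S * R * S⁻¹ * R ∈ σ.ker) :
    commutator Γ ≤ Subgroup.zpowers (S * R * S⁻¹ * R * R⁻¹ * R⁻¹) := by
  have hcc := hcent hc
  rw [Subgroup.mem_center_iff] at hcc
  have hSR : S * R * S⁻¹ = (S * R * S⁻¹ * R) * R⁻¹ := by group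
  obtain ⟨hRw, hSw, hSRw⟩ := core_facts R S (S * R * S⁻¹ * R) hcc hSR
  have hRSw : ⁅R, S⁆ = (S * R * S⁻¹ * R * R⁻¹ * R⁻¹)⁻¹ := by
    rw [← hSRw, commutatorElement_inv]
  apply commutator_le_zpowers σ hcent ({R, S} : Set Γ)
  · have : σ '' ({R, S} : Set Γ) = {σ R, σ S} := by
      rw [Set.image_pair]
    rw [this]; exact hgen
  · rintro s (rfl | rfl)
    · left; exact hRw
    · right; exact hSw
  · rintro s (rfl | rfl) t (rfl | rfl)
    · rw [commutatorElement_self]; exact Subgroup.one_mem _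
    · rw [hRSw]; exact Subgroup.inv_mem _ (Subgroup.mem_zpowers _)
    · rw [hSRw]; exact Subgroup.mem_zpowers _
    · rw [commutatorElement_self]; exact Subgroup.one_mem _

/-- The dihedral group is generated by `r 1` and `sr 0`. -/
theorem dihedral_closure (n : ℕ) :
    Subgroup.closure ({DihedralGroup.r 1, DihedralGroup.sr 0} : Set (DihedralGroup n)) = ⊤ := by
  rw [eq_top_iff]
  have hr : ∀ i : ZMod n, DihedralGroup.r i ∈ Subgroup.closure ({DihedralGroup.r 1, DihedralGroup.sr 0} : Set (DihedralGroup n)) := by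
    intro i
    have : DihedralGroup.r i = (DihedralGroup.r 1 : DihedralGroup n) ^ (ZMod.cast i : ℤ) := by
      rw [DihedralGroup.r_one_zpow, ZMod.intCast_zmod_cast]
    rw [this]
    exact Subgroup.zpow_mem _ (Subgroup.subset_closure (by simp)) _
  rintro (i | i) _
  · exact hr i
  · have : DihedralGroup.sr i = DihedralGroup.sr 0 * DihedralGroup.r i := by simp
    rw [this]
    exact Subgroup.mul_mem _ (Subgroup.subset_closure (by simp)) (hr i)

theorem quaternion_a_one_zpow (n : ℕ) (k : ℤ) :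
    (QuaternionGroup.a 1 : QuaternionGroup n) ^ k = QuaternionGroup.a k := by
  induction k using Int.induction_on with
  | zero => simp
  | succ i ih =>
    rw [zpow_add_one, ih, QuaternionGroup.a_mul_a]
    congr 1
    push_cast
    rfl
  | pred i ih =>
    rw [zpow_sub_one, ih]
    have : (QuaternionGroup.a 1 : QuaternionGroup n)⁻¹ = QuaternionGroup.a (-1) := rfl
    rw [this, QuaternionGroup.a_mul_a]
    congr 1
    push_cast
    ring

/-- The dicyclic group is generated by `a 1` and `xa 0`. -/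
theorem quaternion_closure (n : ℕ) :
    Subgroup.closure ({QuaternionGroup.a 1, QuaternionGroup.xa 0} : Set (QuaternionGroup n)) = ⊤ := by
  rw [eq_top_iff]
  have hr : ∀ i : ZMod (2 * n), QuaternionGroup.a i ∈ Subgroup.closure ({QuaternionGroup.a 1, QuaternionGroup.xa 0} : Set (QuaternionGroup n)) := by
    intro i
    have : QuaternionGroup.a i = (QuaternionGroup.a 1 : QuaternionGroup n) ^ (ZMod.cast i : ℤ) := by
      rw [quaternion_a_one_zpow, ZMod.intCast_zmod_cast]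
    rw [this]
    exact Subgroup.zpow_mem _ (Subgroup.subset_closure (by simp)) _
  rintro (i | i) _
  · exact hr i
  · have : QuaternionGroup.xa i = QuaternionGroup.xa 0 * QuaternionGroup.a i := by simp
    rw [this]
    exact Subgroup.mul_mem _ (Subgroup.subset_closure (by simp)) (hr i)

/-- Every stem extension of a dihedral group has kernel inside a cyclic group `zpowers w`
with `w ^ n = 1` and `w` mapping to `r (-2)`. -/
theorem dihedral_main (n : ℕ) {Γ : Type*} [Group Γ] (σ : Γ →* DihedralGroup n)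
    (hσ : Cfsg.IsStemExtension σ) :
    ∃ w : Γ, w ^ n = 1 ∧ σ w = DihedralGroup.r (-2) ∧ σ.ker ≤ Subgroup.zpowers w := by
  obtain ⟨hsurj, hcent, hcomm⟩ := hσ
  obtain ⟨R, hR⟩ := hsurj (DihedralGroup.r 1)
  obtain ⟨S, hS⟩ := hsurj (DihedralGroup.sr 0)
  have hc : S * R * S⁻¹ * R ∈ σ.ker := by
    rw [MonoidHom.mem_ker]
    simp only [map_mul, map_inv, hR, hS]
    simp
  have hcc := hcent hc
  have hgen : Subgroup.closure ({σ R, σ S} : Set (DihedralGroup n)) = ⊤ := by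
    rw [hR, hS]; exact dihedral_closure n
  have hle := core_commutator_le σ hcent R S hgen hc
  set c := S * R * S⁻¹ * R with hcdef
  have hSR : S * R * S⁻¹ = c * R⁻¹ := by rw [hcdef]; group
  refine ⟨c * R⁻¹ * R⁻¹, ?_, ?_, le_trans hcomm hle⟩
  · -- w ^ n = 1
    rw [core_w_pow R c hcc n]
    have he : R ^ n ∈ σ.ker := by
      rw [MonoidHom.mem_ker, map_pow, hR]
      exact DihedralGroup.r_one_pow_n
    have hec := hcent he
    rw [Subgroup.mem_center_iff] at hec
    have h1 := core_conj_pow R S c hcc hSR n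
    have h2 : S * R ^ n * S⁻¹ = R ^ n := by rw [hec S]; group
    rw [h2] at h1
    -- R^n = c^n (R^n)⁻¹
    have h3 : c ^ n = R ^ n * R ^ n := by
      calc c ^ n = c ^ n * (R ^ n)⁻¹ * R ^ n := by group
        _ = R ^ n * R ^ n := by rw [← h1]
    rw [h3]; group
  · simp only [map_mul, map_inv, hR]
    have : σ c = 1 := hc
    rw [this]
    simp
    ring

/-- Every stem extension of a dicyclic group has kernel inside a cyclic group `zpowers w`
with `w ^ n = 1` and `w` mapping to `a (-2)`. -/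
theorem quaternion_main (n : ℕ) {Γ : Type*} [Group Γ] (σ : Γ →* QuaternionGroup n)
    (hσ : Cfsg.IsStemExtension σ) :
    ∃ w : Γ, w ^ n = 1 ∧ σ w = QuaternionGroup.a (-2) ∧ σ.ker ≤ Subgroup.zpowers w := by
  obtain ⟨hsurj, hcent, hcomm⟩ := hσ
  obtain ⟨R, hR⟩ := hsurj (QuaternionGroup.a 1)
  obtain ⟨S, hS⟩ := hsurj (QuaternionGroup.xa 0)
  have hinvxa : (QuaternionGroup.xa (0 : ZMod (2 * n)) : QuaternionGroup n)⁻¹ = QuaternionGroup.xa (n + 0) := rfl
  have hinva : ∀ k : ZMod (2 * n), (QuaternionGroup.a k : QuaternionGroup n)⁻¹ = QuaternionGroup.a (-k) := fun k => rfl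
  have h2n : ((n : ℕ) : ZMod (2 * n)) + n = 0 := by
    rw [← Nat.cast_add, ZMod.natCast_eq_zero_iff]
    exact ⟨1, by ring⟩
  have hc : S * R * S⁻¹ * R ∈ σ.ker := by
    rw [MonoidHom.mem_ker]
    simp only [map_mul, map_inv, hR, hS, hinvxa]
    simp only [QuaternionGroup.xa_mul_a, QuaternionGroup.xa_mul_xa, QuaternionGroup.a_mul_a]
    rw [QuaternionGroup.one_def]
    congr 1
    linear_combination h2n
  have hcc := hcent hc
  have hgen : Subgroup.closure ({σ R, σ S} : Set (QuaternionGroup n)) = ⊤ := by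
    rw [hR, hS]; exact quaternion_closure n
  have hle := core_commutator_le σ hcent R S hgen hc
  set c := S * R * S⁻¹ * R with hcdef
  have hSR : S * R * S⁻¹ = c * R⁻¹ := by rw [hcdef]; group
  refine ⟨c * R⁻¹ * R⁻¹, ?_, ?_, le_trans hcomm hle⟩
  · -- w ^ n = 1
    rw [core_w_pow R c hcc n]
    -- d := S^2 (R^n)⁻¹ is in the kernel
    have hd : S * S * (R ^ n)⁻¹ ∈ σ.ker := by
      rw [MonoidHom.mem_ker]
      simp only [map_mul, map_inv, map_pow, hR, hS]
      rw [QuaternionGroup.a_one_pow, hinva]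
      simp only [QuaternionGroup.xa_mul_xa, QuaternionGroup.a_mul_a]
      rw [QuaternionGroup.one_def]
      congr 1
      ring
    have hdc := hcent hd
    rw [Subgroup.mem_center_iff] at hdc
    have h1 := core_conj_pow R S c hcc hSR n
    -- S d S⁻¹ = d, i.e. S (S S (R^n)⁻¹) S⁻¹ = S S (R^n)⁻¹
    have h2 : S * (S * S * (R ^ n)⁻¹) * S⁻¹ = S * S * (R ^ n)⁻¹ := by rw [hdc S]; group
    have h3 : S * (S * S * (R ^ n)⁻¹) * S⁻¹ = S * S * (S * R ^ n * S⁻¹)⁻¹ := by group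
    rw [h3, h1] at h2
    -- (c^n (R^n)⁻¹)⁻¹ = (R^n)⁻¹
    have h4 : (c ^ n * (R ^ n)⁻¹)⁻¹ = (R ^ n)⁻¹ := mul_left_cancel h2
    have h5 : c ^ n = R ^ n * R ^ n := by
      have := congrArg (fun x => x⁻¹) h4
      simp only [inv_inv] at this
      calc c ^ n = c ^ n * (R ^ n)⁻¹ * R ^ n := by group
        _ = R ^ n * R ^ n := by rw [this]
    rw [h5]; group
  · simp only [map_mul, map_inv, hR]
    have : σ c = 1 := hc
    rw [this, hinva]
    simp
    ring

end Cfsg.Agent.Lib.Helper66.DihedralStem
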