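import Mathlib
import Cfsg.Agent.Lib.Helper42.SL2Odd

/-!
Elements of order 3 in `PSL(2, F)` for a finite field `F` of characteristic 3:
there are exactly `q ^ 2 - 1` of them (`q = |F|`).
-/

set_option autoImplicit false

namespace Cfsg.Agent.Lib.Helper66.PSL2Ord3

open Matrix Cfsg.Agent.Lib.Helper42.SL2Odd

section field

variable {F : Type*} [Field F]

lemma cube_entries (a b c d : F) (hdet : a * d - b * c = 1) (ht : a + d = -1) :
    (a * a + b * c) * a + (a * b + b * d) * c = 1 ∧
    (a * a + b * c) * b + (a * b + b * d) * d = 0 ∧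
    (c * a + d * c) * a + (c * b + d * d) * c = 0 ∧
    (c * a + d * c) * b + (c * b + d * d) * d = 1 := by
  have hd : d = -1 - a := by linear_combination ht
  subst hd
  have h' : b * c = -a ^ 2 - a - 1 := by linear_combination -hdet
  refine ⟨by linear_combination (a - 1) * h', by linear_combination b * h',
    by linear_combination c * h', by linear_combination (-(a + 2)) * h'⟩

lemma trace_of_cube [CharP F 3] (a b c d : F) (hdet : a * d - b * c = 1)
    (E00 : (a * a + b * c) * a + (a * b + b * d) * c = 1)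
    (E01 : (a * a + b * c) * b + (a * b + b * d) * d = 0)
    (E10 : (c * a + d * c) * a + (c * b + d * d) * c = 0)
    (E11 : (c * a + d * c) * b + (c * b + d * d) * d = 1) : a + d = -1 := by
  have h3 : (3 : F) = 0 := by
    have := CharP.cast_eq_zero F 3
    exact_mod_cast this
  have h01 : ((a + d) ^ 2 - 1) * b = 0 := by linear_combination E01 + b * hdet
  have h10 : ((a + d) ^ 2 - 1) * c = 0 := by linear_combination E10 + c * hdet
  have h00 : ((a + d) ^ 2 - 1) * a = (a + d) + 1 := by
    linear_combination E00 + (2 * a + d) * hdet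
  have h11 : ((a + d) ^ 2 - 1) * d = (a + d) + 1 := by
    linear_combination E11 + (a + 2 * d) * hdet
  by_cases hs : (a + d) ^ 2 - 1 = 0
  · rw [hs, zero_mul] at h00
    linear_combination -h00
  · exfalso
    have hb : b = 0 := by
      rcases mul_eq_zero.1 h01 with h | h
      · exact absurd h hs
      · exact h
    have hc : c = 0 := by
      rcases mul_eq_zero.1 h10 with h | h
      · exact absurd h hs
      · exact h
    have had : a = d := by
      have : ((a + d) ^ 2 - 1) * (a - d) = 0 := by linear_combination h00 - h11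
      rcases mul_eq_zero.1 this with h | h
      · exact absurd h hs
      · linear_combination h
    subst had
    subst hb
    subst hc
    apply hs
    linear_combination 4 * hdet + h3

end field

variable {F : Type*} [Field F] [Fintype F] [CharP F 3]

local notation "SL2F" => Matrix.SpecialLinearGroup (Fin 2) F
local notation "PSL2F" => Matrix.ProjectiveSpecialLinearGroup (Fin 2) F

omit [Fintype F] [CharP F 3] in
lemma cube_entries_SL (x : SL2F) :
    (x ^ 3) 0 0 = (x 0 0 * x 0 0 + x 0 1 * x 1 0) * x 0 0 +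
        (x 0 0 * x 0 1 + x 0 1 * x 1 1) * x 1 0 ∧
    (x ^ 3) 0 1 = (x 0 0 * x 0 0 + x 0 1 * x 1 0) * x 0 1 +
        (x 0 0 * x 0 1 + x 0 1 * x 1 1) * x 1 1 ∧
    (x ^ 3) 1 0 = (x 1 0 * x 0 0 + x 1 1 * x 1 0) * x 0 0 +
        (x 1 0 * x 0 1 + x 1 1 * x 1 1) * x 1 0 ∧
    (x ^ 3) 1 1 = (x 1 0 * x 0 0 + x 1 1 * x 1 0) * x 0 1 +
        (x 1 0 * x 0 1 + x 1 1 * x 1 1) * x 1 1 := by
  have h3 : x ^ 3 = x * x * x := by
    rw [pow_succ, pow_two]
  rw [h3]
  obtain ⟨a00, a01, a10, a11⟩ := mul_entries x x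
  obtain ⟨b00, b01, b10, b11⟩ := mul_entries (x * x) x
  rw [b00, b01, b10, b11, a00, a01, a10, a11]
  exact ⟨rfl, rfl, rfl, rfl⟩

omit [Fintype F] in
lemma cube_eq_one_iff (x : SL2F) : x ^ 3 = 1 ↔ x 0 0 + x 1 1 = -1 := by
  obtain ⟨c00, c01, c10, c11⟩ := cube_entries_SL x
  constructor
  · intro h
    have e00 : (x ^ 3) 0 0 = 1 := by rw [h]; simp
    have e01 : (x ^ 3) 0 1 = 0 := by rw [h]; simp
    have e10 : (x ^ 3) 1 0 = 0 := by rw [h]; simp
    have e11 : (x ^ 3) 1 1 = 1 := by rw [h]; simp
    rw [c00] at e00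
    rw [c01] at e01
    rw [c10] at e10
    rw [c11] at e11
    exact trace_of_cube _ _ _ _ (det_eq x) e00 e01 e10 e11
  · intro h
    obtain ⟨e00, e01, e10, e11⟩ := cube_entries _ _ _ _ (det_eq x) h
    apply ext_entries
    · rw [c00, e00]; simp
    · rw [c01, e01]; simp
    · rw [c10, e10]; simp
    · rw [c11, e11]; simp

omit [Fintype F] in
lemma three_eq_zero : (3 : F) = 0 := by
  have := CharP.cast_eq_zero F 3
  exact_mod_cast this

/-- lower unitriangular -/
def par0 (c : F) : SL2F := ⟨!![1, 0; c, 1], by rw [Matrix.det_fin_two_of]; ring⟩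

/-- the trace `-1` element with first row `(a, b)`, `b ≠ 0` -/
noncomputable def par1 (b a : F) (hb : b ≠ 0) : SL2F :=
  ⟨!![a, b; -(a ^ 2 + a + 1) / b, -1 - a], by
    rw [Matrix.det_fin_two_of]
    field_simp
    ring⟩

open Classical in
/-- the parametrisation of the trace `-1` elements by `F × F` -/
noncomputable def par (p : F × F) : SL2F :=
  if h : p.1 = 0 then par0 p.2 else par1 p.1 p.2 h

omit [Fintype F] [CharP F 3] in
lemma par_zero (p : F × F) (h : p.1 = 0) :
    par p 0 0 = 1 ∧ par p 0 1 = 0 ∧ par p 1 0 = p.2 ∧ par p 1 1 = 1 := by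
  have e : par p = par0 p.2 := dif_pos h
  rw [e]
  exact ⟨rfl, rfl, rfl, rfl⟩

omit [Fintype F] [CharP F 3] in
lemma par_ne (p : F × F) (h : p.1 ≠ 0) :
    par p 0 0 = p.2 ∧ par p 0 1 = p.1 ∧ par p 1 0 = -(p.2 ^ 2 + p.2 + 1) / p.1 ∧
      par p 1 1 = -1 - p.2 := by
  have e : par p = par1 p.1 p.2 h := dif_neg h
  rw [e]
  exact ⟨rfl, rfl, rfl, rfl⟩

omit [Fintype F] in
lemma par_trace (p : F × F) : par p 0 0 + par p 1 1 = -1 := by
  by_cases h : p.1 = 0
  · obtain ⟨h00, -, -, h11⟩ := par_zero p h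
    rw [h00, h11]
    linear_combination (three_eq_zero (F := F))
  · obtain ⟨h00, -, -, h11⟩ := par_ne p h
    rw [h00, h11]
    ring

omit [Fintype F] [CharP F 3] in
lemma par_injective : Function.Injective (par (F := F)) := by
  intro p p' hpp
  by_cases h : p.1 = 0
  · by_cases h' : p'.1 = 0
    · obtain ⟨-, -, h10, -⟩ := par_zero p h
      obtain ⟨-, -, h10', -⟩ := par_zero p' h'
      apply Prod.ext
      · rw [h, h']
      · rw [← h10, ← h10', hpp]
    · exfalso
      obtain ⟨-, h01, -, -⟩ := par_zero p h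
      obtain ⟨-, h01', -, -⟩ := par_ne p' h'
      apply h'
      rw [← h01', ← hpp, h01]
  · by_cases h' : p'.1 = 0
    · exfalso
      obtain ⟨-, h01, -, -⟩ := par_ne p h
      obtain ⟨-, h01', -, -⟩ := par_zero p' h'
      apply h
      rw [← h01, hpp, h01']
    · obtain ⟨h00, h01, -, -⟩ := par_ne p h
      obtain ⟨h00', h01', -, -⟩ := par_ne p' h'
      apply Prod.ext
      · rw [← h01, ← h01', hpp]
      · rw [← h00, ← h00', hpp]

omit [Fintype F] in
lemma par_surj (x : SL2F) (hx : x 0 0 + x 1 1 = -1) : ∃ p : F × F, par p = x := by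
  have hdet := det_eq x
  have h3 := three_eq_zero (F := F)
  by_cases h : x 0 1 = 0
  · refine ⟨(0, x 1 0), ?_⟩
    obtain ⟨h00, h01, h10, h11⟩ := par_zero ((0 : F), x 1 0) rfl
    have hd : x 1 1 = -1 - x 0 0 := by linear_combination hx
    have ha : (x 0 0 - 1) ^ 2 = 0 := by
      rw [h, hd] at hdet
      linear_combination -hdet - x 0 0 * h3
    have ha1 : x 0 0 = 1 := by
      have := pow_eq_zero_iff (two_ne_zero) |>.1 ha
      linear_combination this
    apply ext_entries
    · rw [h00, ha1]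
    · rw [h01, h]
    · rw [h10]
    · rw [h11, hd, ha1]
      linear_combination h3
  · refine ⟨(x 0 1, x 0 0), ?_⟩
    obtain ⟨h00, h01, h10, h11⟩ := par_ne ((x 0 1, x 0 0) : F × F) h
    have hd : x 1 1 = -1 - x 0 0 := by linear_combination hx
    apply ext_entries
    · rw [h00]
    · rw [h01]
    · rw [h10]
      rw [hd] at hdet
      field_simp
      linear_combination hdet
    · rw [h11, hd]

/-- the number of solutions of `x ^ 3 = 1` in `SL(2, F)` is `q ^ 2` -/
theorem card_cube_eq_one :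
    Nat.card {x : SL2F // x ^ 3 = 1} = Fintype.card F ^ 2 := by
  have e1 : Nat.card {x : SL2F // x ^ 3 = 1} = Nat.card {x : SL2F // x 0 0 + x 1 1 = -1} :=
    Nat.card_congr (Equiv.subtypeEquivRight cube_eq_one_iff)
  rw [e1]
  let Φ : F × F → {x : SL2F // x 0 0 + x 1 1 = -1} := fun p => ⟨par p, par_trace p⟩
  have hbij : Function.Bijective Φ := by
    constructor
    · intro p p' h
      exact par_injective (congrArg Subtype.val h)
    · rintro ⟨x, hx⟩
      obtain ⟨p, hp⟩ := par_surj x hx
      exact ⟨p, Subtype.ext hp⟩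
  rw [← Nat.card_congr (Equiv.ofBijective Φ hbij), Nat.card_prod, Nat.card_eq_fintype_card,
    pow_two]

omit [Fintype F] in
lemma neg_one_ne_one : (-1 : SL2F) ≠ 1 := by
  intro h
  have h3 := three_eq_zero (F := F)
  have h00 : (-1 : SL2F) 0 0 = (1 : SL2F) 0 0 := by rw [h]
  rw [neg_entries] at h00
  have h1 : ((1 : SL2F) 0 0 : F) = 1 := by simp
  rw [h1] at h00
  have : (1 : F) = 0 := by linear_combination h00 + h3
  exact one_ne_zero this

omit [Fintype F] [CharP F 3] in
lemma neg_one_cube : (-1 : SL2F) ^ 3 = -1 := by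
  rw [Odd.neg_pow (by decide), one_pow]

/-- the number of elements of order 3 of `PSL(2, F)` is `q ^ 2 - 1` -/
theorem card_orderOf_three :
    Nat.card {z : PSL2F // orderOf z = 3} = Fintype.card F ^ 2 - 1 := by
  classical
  have hp3 : Fact (Nat.Prime 3) := ⟨Nat.prime_three⟩
  have hproj1 : ∀ x : SL2F, proj x = 1 ↔ x = 1 ∨ x = -1 := by
    intro x
    rw [← mem_center_iff']
    exact QuotientGroup.eq_one_iff x
  have hnegproj : ∀ x : SL2F, proj (-x) = proj x := by
    intro x
    have : -x = x * (-1) := by rw [mul_neg_one]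
    rw [this, map_mul, (hproj1 (-1)).2 (Or.inr rfl), mul_one]
  let Φ : {x : SL2F // x ^ 3 = 1 ∧ x ≠ 1} → {z : PSL2F // orderOf z = 3} := fun x =>
    ⟨proj x.1, by
      apply orderOf_eq_prime
      · rw [← map_pow, x.2.1, map_one]
      · intro h
        rcases (hproj1 x.1).1 h with h1 | h1
        · exact x.2.2 h1
        · have := x.2.1
          rw [h1, neg_one_cube] at this
          exact neg_one_ne_one this⟩
  have hbij : Function.Bijective Φ := by
    constructor
    · rintro ⟨x, hx3, hx1⟩ ⟨y, hy3, hy1⟩ h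
      have h' : proj x = proj y := congrArg Subtype.val h
      have h2 : proj (x⁻¹ * y) = 1 := by rw [map_mul, map_inv, h', inv_mul_cancel]
      apply Subtype.ext
      show x = y
      rcases (hproj1 _).1 h2 with h3 | h3
      · exact (inv_mul_eq_one.1 h3)
      · exfalso
        have hy : y = -x := by
          have : y = x * (x⁻¹ * y) := by group
          rw [this, h3, mul_neg_one]
        rw [hy, Odd.neg_pow (by decide), hx3] at hy3
        exact neg_one_ne_one hy3
    · rintro ⟨z, hz⟩
      obtain ⟨x, rfl⟩ := proj_surjective z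
      have hz3 : proj x ^ 3 = 1 := by rw [← hz]; exact pow_orderOf_eq_one _
      have hz1 : proj x ≠ 1 := by
        intro h
        rw [h, orderOf_one] at hz
        omega
      rw [← map_pow] at hz3
      rcases (hproj1 _).1 hz3 with h3 | h3
      · refine ⟨⟨x, h3, ?_⟩, rfl⟩
        rintro rfl
        exact hz1 (map_one _)
      · refine ⟨⟨-x, ?_, ?_⟩, Subtype.ext (hnegproj x)⟩
        · rw [Odd.neg_pow (by decide), h3, neg_neg]
        · intro h
          apply hz1
          rw [← hnegproj x, h, map_one]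
  rw [← Nat.card_congr (Equiv.ofBijective Φ hbij)]
  have hfin : Finite SL2F := inferInstance
  have e2 : {x : SL2F // x ^ 3 = 1 ∧ x ≠ 1} ≃
      {y : {x : SL2F // x ^ 3 = 1} // y ≠ ⟨1, one_pow 3⟩} :=
    { toFun := fun x => ⟨⟨x.1, x.2.1⟩, fun h => x.2.2 (congrArg Subtype.val h)⟩
      invFun := fun y => ⟨y.1.1, y.1.2, fun h => y.2 (Subtype.ext h)⟩
      left_inv := fun x => rfl
      right_inv := fun y => rfl }
  rw [Nat.card_congr e2, ← card_cube_eq_one (F := F)]
  have := Fintype.ofFinite {x : SL2F // x ^ 3 = 1}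
  rw [Nat.card_eq_fintype_card, Nat.card_eq_fintype_card]
  exact Set.card_ne_eq (⟨1, one_pow 3⟩ : {x : SL2F // x ^ 3 = 1})

end Cfsg.Agent.Lib.Helper66.PSL2Ord3
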