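import Mathlib
import Cfsg.Agent.Lib.Helper42.ReeSpStmt
import Cfsg.Agent.Lib.Helper66.PSL2Ord3

/-!
S1159 piece `C6`: the number of elements of order 6 of the small Ree group.
`g ↦ (g ^ 3, g ^ 4)` is a bijection onto the commuting pairs (involution, element of
order 3); the centralizer `Z₂ × PSL₂(q)` of an involution has `q² - 1` elements of order 3.
-/

set_option autoImplicit false

namespace Cfsg.Agent.Lib.Helper66.ReeSpC6

open Cfsg.Agent.Lib.Helper42.ReeSpStmt

universe u v

section general

variable {G : Type u} [Group G]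

/-- elements of order 6 correspond to commuting pairs (involution, element of order 3) -/
theorem card_six_eq_pairs :
    Nat.card {p : G × G // orderOf p.1 = 2 ∧ orderOf p.2 = 3 ∧ p.1 * p.2 = p.2 * p.1} =
      Nat.card {g : G // orderOf g = 6} := by
  let Ψ : {p : G × G // orderOf p.1 = 2 ∧ orderOf p.2 = 3 ∧ p.1 * p.2 = p.2 * p.1} →
      {g : G // orderOf g = 6} := fun p =>
    ⟨p.1.1 * p.1.2, by
      have hc : Commute p.1.1 p.1.2 := p.2.2.2
      rw [hc.orderOf_mul_eq_mul_orderOf_of_coprime (by rw [p.2.1, p.2.2.1]; decide), p.2.1,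
        p.2.2.1]⟩
  have key : ∀ p : {p : G × G // orderOf p.1 = 2 ∧ orderOf p.2 = 3 ∧ p.1 * p.2 = p.2 * p.1},
      (p.1.1 * p.1.2) ^ 3 = p.1.1 := by
    intro p
    have hc : Commute p.1.1 p.1.2 := p.2.2.2
    have h2 : p.1.1 ^ 2 = 1 := by
      have := pow_orderOf_eq_one p.1.1
      rwa [p.2.1] at this
    have h3 : p.1.2 ^ 3 = 1 := by
      have := pow_orderOf_eq_one p.1.2
      rwa [p.2.2.1] at this
    rw [hc.mul_pow, h3, mul_one, pow_succ, h2, one_mul]
  have hbij : Function.Bijective Ψ := by
    constructor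
    · intro p p' h
      have h' : p.1.1 * p.1.2 = p'.1.1 * p'.1.2 := congrArg Subtype.val h
      have h1 : p.1.1 = p'.1.1 := by rw [← key p, ← key p', h']
      have h2 : p.1.2 = p'.1.2 := by
        rw [h1] at h'
        exact mul_left_cancel h'
      exact Subtype.ext (Prod.ext h1 h2)
    · rintro ⟨g, hg⟩
      have h6 : g ^ 6 = 1 := by rw [← hg]; exact pow_orderOf_eq_one _
      refine ⟨⟨(g ^ 3, g ^ 4), ?_, ?_, ?_⟩, ?_⟩
      · show orderOf (g ^ 3) = 2
        rw [orderOf_pow' g (by norm_num), hg]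
        decide
      · show orderOf (g ^ 4) = 3
        rw [orderOf_pow' g (by norm_num), hg]
        decide
      · show g ^ 3 * g ^ 4 = g ^ 4 * g ^ 3
        rw [← pow_add, ← pow_add]
      · apply Subtype.ext
        show g ^ 3 * g ^ 4 = g
        rw [← pow_add]
        calc g ^ (3 + 4) = g ^ 6 * g := by rw [← pow_succ]
          _ = g := by rw [h6, one_mul]
  exact Nat.card_congr (Equiv.ofBijective Ψ hbij)

/-- the pairs, fibred over the involutions -/
theorem card_pairs [Finite G] (N : ℕ)
    (hN : ∀ s : G, orderOf s = 2 → Nat.card {t : G // orderOf t = 3 ∧ s * t = t * s} = N) :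
    Nat.card {p : G × G // orderOf p.1 = 2 ∧ orderOf p.2 = 3 ∧ p.1 * p.2 = p.2 * p.1} =
      Nat.card {s : G // orderOf s = 2} * N := by
  classical
  let e : {p : G × G // orderOf p.1 = 2 ∧ orderOf p.2 = 3 ∧ p.1 * p.2 = p.2 * p.1} ≃
      (Σ s : {s : G // orderOf s = 2}, {t : G // orderOf t = 3 ∧ s.1 * t = t * s.1}) :=
    { toFun := fun p => ⟨⟨p.1.1, p.2.1⟩, ⟨p.1.2, p.2.2.1, p.2.2.2⟩⟩
      invFun := fun x => ⟨(x.1.1, x.2.1), x.1.2, x.2.2.1, x.2.2.2⟩
      left_inv := fun p => rfl
      right_inv := fun x => rfl }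
  rw [Nat.card_congr e]
  have := Fintype.ofFinite {s : G // orderOf s = 2}
  rw [Nat.card_sigma]
  rw [Finset.sum_congr rfl (fun s _ => hN s.1 s.2), Finset.sum_const, Finset.card_univ,
    smul_eq_mul, Nat.card_eq_fintype_card]

end general

section psl

variable {K : Type v} [Field K] [Fintype K]

/-- elements of order 3 of `Z₂ × PSL₂(K)` -/
theorem card_prod_three [CharP K 3] :
    Nat.card {y : Multiplicative (ZMod 2) × Matrix.ProjectiveSpecialLinearGroup (Fin 2) K //
      orderOf y = 3} = Fintype.card K ^ 2 - 1 := by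
  rw [← Cfsg.Agent.Lib.Helper66.PSL2Ord3.card_orderOf_three (F := K)]
  let ι : Matrix.ProjectiveSpecialLinearGroup (Fin 2) K →*
      Multiplicative (ZMod 2) × Matrix.ProjectiveSpecialLinearGroup (Fin 2) K :=
    MonoidHom.inr _ _
  have hι : Function.Injective ι := fun a b h => by simpa [ι] using h
  let Φ : {z : Matrix.ProjectiveSpecialLinearGroup (Fin 2) K // orderOf z = 3} →
      {y : Multiplicative (ZMod 2) × Matrix.ProjectiveSpecialLinearGroup (Fin 2) K //
        orderOf y = 3} := fun z => ⟨ι z.1, by rw [orderOf_injective ι hι]; exact z.2⟩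
  have hbij : Function.Bijective Φ := by
    constructor
    · intro z z' h
      exact Subtype.ext (hι (congrArg Subtype.val h))
    · rintro ⟨⟨a, z⟩, hy⟩
      have h3 : (a, z) ^ 3 = 1 := by rw [← hy]; exact pow_orderOf_eq_one _
      have ha3 : a ^ 3 = 1 := congrArg Prod.fst h3
      have ha2 : a ^ 2 = 1 := by
        have hc : Nat.card (Multiplicative (ZMod 2)) = 2 := by
          rw [Nat.card_eq_fintype_card]
          rfl
        have := pow_card_eq_one' (G := Multiplicative (ZMod 2)) (x := a)
        rwa [hc] at this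
      have ha : a = 1 := by
        calc a = a ^ 3 * (a ^ 2)⁻¹ := by group
          _ = 1 := by rw [ha3, ha2, inv_one, mul_one]
      subst ha
      have hz : orderOf z = 3 := by
        rw [← orderOf_injective ι hι]
        exact hy
      exact ⟨⟨z, hz⟩, rfl⟩
  exact (Nat.card_congr (Equiv.ofBijective Φ hbij)).symm

theorem charP_three (m : ℕ) (hK : Fintype.card K = qq m) : CharP K 3 := by
  obtain ⟨p, hp, n, hpr, hcard⟩ := FiniteField.card' K
  rw [hK] at hcard
  have hdvd : p ∣ 3 ^ (2 * m + 1) := by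
    have h1 : p ∣ p ^ (n : ℕ) := dvd_pow_self p n.ne_zero
    rw [← hcard] at h1
    exact h1
  have h3 : p ∣ 3 := hpr.dvd_of_dvd_pow hdvd
  have : p = 3 := (Nat.prime_dvd_prime_iff_eq hpr Nat.prime_three).1 h3
  rw [← this]
  exact hp

end psl

theorem fibre {G : Type u} [Group G] [Finite G] {K : Type v} [Field K] [Fintype K] [CharP K 3]
    (s : G)
    (e : ↥(Subgroup.centralizer ({s} : Set G)) ≃*
      Multiplicative (ZMod 2) × Matrix.ProjectiveSpecialLinearGroup (Fin 2) K) :
    Nat.card {t : G // orderOf t = 3 ∧ s * t = t * s} = Fintype.card K ^ 2 - 1 := by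
  rw [← card_prod_three (K := K)]
  let f : {t : G // orderOf t = 3 ∧ s * t = t * s} ≃
      {y : Multiplicative (ZMod 2) × Matrix.ProjectiveSpecialLinearGroup (Fin 2) K //
        orderOf y = 3} :=
    { toFun := fun t => ⟨e ⟨t.1, by
          rw [Subgroup.mem_centralizer_iff]
          intro h hh
          rw [Set.mem_singleton_iff] at hh
          rw [hh]
          exact t.2.2⟩, by
        rw [e.orderOf_eq, Subgroup.orderOf_mk]
        exact t.2.1⟩
      invFun := fun y => ⟨(e.symm y.1 : G), by
          rw [Subgroup.orderOf_coe, e.symm.orderOf_eq]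
          exact y.2, by
        have := (e.symm y.1).2
        rw [Subgroup.mem_centralizer_iff] at this
        exact this s rfl⟩
      left_inv := fun t => by
        apply Subtype.ext
        simp
      right_inv := fun y => by
        apply Subtype.ext
        simp }
  exact Nat.card_congr f

theorem main : C6.{u, v} := by
  intro G _ _ U H A K _ _ m hax _ _ h2
  have hchar : CharP K 3 := charP_three m hax.cardK
  unfold C6C
  unfold C2C at h2
  rw [← card_six_eq_pairs, card_pairs (Fintype.card K ^ 2 - 1), h2, hax.cardK]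
  · have hq : 3 ≤ qq m := three_le_qq m
    generalize qq m = q at hq ⊢
    obtain ⟨r, rfl⟩ : ∃ r, q = r + 1 := ⟨q - 1, by omega⟩
    have e1 : (r + 1) ^ 2 = (r ^ 2 + r) + (r + 1) := by ring
    have e2 : (r + 1) ^ 2 - (r + 1) + 1 = r ^ 2 + r + 1 := by omega
    have e3 : (r + 1) ^ 2 - 1 = r ^ 2 + 2 * r := by omega
    have e4 : r + 1 - 1 = r := by omega
    rw [e2, e3, e4]
    ring
  · intro s hs
    obtain ⟨e⟩ := hax.invo s hs
    exact fibre s e

end Cfsg.Agent.Lib.Helper66.ReeSpC6
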