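import Mathlib
import Cfsg.Agent.Lib.Helper45.EOStmt

/-!
S2264/S2265 piece `AB`: a reciprocal polynomial prime to `X ± 1` over a finite field divides
`X ^ k - 1` for `k` built from the degrees of its irreducible factors (strong induction on the
degree, peeling off one irreducible factor with its full multiplicity, together with its
reverse if it is not reciprocal).
-/

set_option autoImplicit false

namespace Cfsg.Agent.Lib.Helper66.EOAB

open Polynomial Cfsg.Agent.Lib.Helper45.EOStmt

universe u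

section rev

variable {K : Type u} [Field K]

lemma natTrailingDegree_zero {f : K[X]} (h : f.coeff 0 ≠ 0) : f.natTrailingDegree = 0 :=
  Nat.le_zero.1 (natTrailingDegree_le_of_ne_zero h)

lemma natDegree_reverse' {f : K[X]} (h : f.coeff 0 ≠ 0) :
    f.reverse.natDegree = f.natDegree := by
  rw [reverse_natDegree, natTrailingDegree_zero h, Nat.sub_zero]

lemma reverse_reverse' {f : K[X]} (h : f.coeff 0 ≠ 0) : f.reverse.reverse = f := by
  ext n
  rw [coeff_reverse, coeff_reverse, natDegree_reverse' h, revAt_invol]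

lemma reverse_pow' (f : K[X]) (e : ℕ) : (f ^ e).reverse = f.reverse ^ e := by
  induction e with
  | zero =>
    rw [pow_zero, pow_zero]
    have : (1 : K[X]) = C 1 := by simp
    rw [this, reverse_C]
  | succ e ih => rw [pow_succ, reverse_mul_of_domain, ih, pow_succ]

lemma coeff_zero_ne_of_dvd {g ν : K[X]} (h : g ∣ ν) (hν : ν.coeff 0 ≠ 0) : g.coeff 0 ≠ 0 := by
  obtain ⟨w, rfl⟩ := h
  rw [mul_coeff_zero] at hν
  exact left_ne_zero_of_mul hν

lemma isUnit_of_natDegree_zero {g : K[X]} (h : g.natDegree = 0) (h0 : g.coeff 0 ≠ 0) :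
    IsUnit g := by
  rw [eq_C_of_natDegree_eq_zero h]
  exact isUnit_C.2 (IsUnit.mk0 _ h0)

lemma irreducible_reverse {f : K[X]} (hf : Irreducible f) (h0 : f.coeff 0 ≠ 0) :
    Irreducible f.reverse := by
  have hdeg : 0 < f.natDegree := hf.natDegree_pos
  have hc : f.reverse.coeff 0 ≠ 0 := by
    rw [coeff_zero_reverse]
    exact leadingCoeff_ne_zero.2 hf.ne_zero
  rw [irreducible_iff]
  constructor
  · intro hu
    have := natDegree_eq_zero_of_isUnit hu
    rw [natDegree_reverse' h0] at this
    omega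
  · intro g h hgh
    have hg0 : g.coeff 0 ≠ 0 := coeff_zero_ne_of_dvd ⟨h, hgh⟩ hc
    have hh0 : h.coeff 0 ≠ 0 := coeff_zero_ne_of_dvd ⟨g, by rw [hgh, mul_comm]⟩ hc
    have e : f = g.reverse * h.reverse := by
      rw [← reverse_mul_of_domain, ← hgh, reverse_reverse' h0]
    rcases hf.isUnit_or_isUnit e with hu | hu
    · left
      have := natDegree_eq_zero_of_isUnit hu
      rw [natDegree_reverse' hg0] at this
      exact isUnit_of_natDegree_zero this hg0
    · right
      have := natDegree_eq_zero_of_isUnit hu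
      rw [natDegree_reverse' hh0] at this
      exact isUnit_of_natDegree_zero this hh0

lemma X_pow_sub_one_dvd {m n : ℕ} (h : m ∣ n) : (X ^ m - 1 : K[X]) ∣ X ^ n - 1 := by
  obtain ⟨t, rfl⟩ := h
  have := sub_dvd_pow_sub_pow ((X : K[X]) ^ m) 1 t
  rwa [one_pow, ← pow_mul] at this

lemma rc_quot {ν g ν' : K[X]} {c k : K} (hν : ν = g * ν') (hc : ν.reverse = C c * ν)
    (hc0 : c ≠ 0) (hk : k ≠ 0) (hg : g.reverse = C k * g) (hg0 : g ≠ 0) : RC ν' := by
  refine ⟨c / k, div_ne_zero hc0 hk, ?_⟩
  have h1 : g * (C k * ν'.reverse) = g * (C c * ν') := by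
    calc g * (C k * ν'.reverse) = (C k * g) * ν'.reverse := by ring
      _ = g.reverse * ν'.reverse := by rw [hg]
      _ = ν.reverse := by rw [hν, reverse_mul_of_domain]
      _ = C c * ν := hc
      _ = g * (C c * ν') := by rw [hν]; ring
  have h2 := mul_left_cancel₀ hg0 h1
  calc ν'.reverse = C k⁻¹ * (C k * ν'.reverse) := by
        rw [← mul_assoc, ← C_mul, inv_mul_cancel₀ hk, C_1, one_mul]
    _ = C k⁻¹ * (C c * ν') := by rw [h2]
    _ = C (c / k) * ν' := by rw [← mul_assoc, ← C_mul, div_eq_inv_mul]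

end rev

section step

variable {K : Type u} [Field K] [Fintype K]

/-- one step of the induction -/
lemma step (p : ℕ) [hp : Fact p.Prime] (ν g ν' : K[X]) (h e s : ℕ)
    (DA DB DA' DB' : Finset ℕ) (E d : ℕ)
    (hν : ν = g * ν') (hcop : IsCoprime g ν')
    (hg : ∀ c, e ≤ p ^ c → g ∣ X ^ (s * p ^ c) - 1)
    (hdeg : ν.natDegree = 2 * h * e + ν'.natDegree) (hh : 1 ≤ h) (he : 1 ≤ e)
    (hs : s ∣ Nat.lcm (SA (Fintype.card K) DA') (SB (Fintype.card K) DB'))
    (hLL : Nat.lcm (SA (Fintype.card K) DA) (SB (Fintype.card K) DB) ∣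
      Nat.lcm (SA (Fintype.card K) DA') (SB (Fintype.card K) DB'))
    (hsum : DA'.sum id + DB'.sum id ≤ DA.sum id + DB.sum id + h)
    (hd : 1 ≤ d)
    (hbud : 2 * (DA.sum id + DB.sum id) + 2 * d * (E - 1) ≤ ν'.natDegree)
    (hdiv : ν' ∣ X ^ (Nat.lcm (SA (Fintype.card K) DA) (SB (Fintype.card K) DB) *
      p ^ Nat.clog p E) - 1) :
    ∃ E' d', 1 ≤ d' ∧ 2 * (DA'.sum id + DB'.sum id) + 2 * d' * (E' - 1) ≤ ν.natDegree ∧
      ν ∣ X ^ (Nat.lcm (SA (Fintype.card K) DA') (SB (Fintype.card K) DB') *
        p ^ Nat.clog p E') - 1 := by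
  have hp1 : 1 < p := hp.out.one_lt
  have hdvd : ∀ E' : ℕ, e ≤ E' → E ≤ E' →
      ν ∣ X ^ (Nat.lcm (SA (Fintype.card K) DA') (SB (Fintype.card K) DB') *
        p ^ Nat.clog p E') - 1 := by
    intro E' heE hEE
    rw [hν]
    apply hcop.mul_dvd
    · have h1 := hg (Nat.clog p E') (le_trans heE (Nat.le_pow_clog hp1 E'))
      exact dvd_trans h1 (X_pow_sub_one_dvd (mul_dvd_mul_right hs _))
    · exact dvd_trans hdiv (X_pow_sub_one_dvd
        (mul_dvd_mul hLL (pow_dvd_pow p (Nat.clog_mono_right p hEE))))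
  obtain ⟨e0, rfl⟩ : ∃ e0, e = e0 + 1 := ⟨e - 1, by omega⟩
  by_cases hEe : E < e0 + 1
  · refine ⟨e0 + 1, h, hh, ?_, hdvd (e0 + 1) le_rfl hEe.le⟩
    rw [hdeg, Nat.add_sub_cancel]
    have k1 : 2 * h * (e0 + 1) = 2 * h * e0 + 2 * h := by ring
    have k2 : 2 * (DA.sum id + DB.sum id) ≤ ν'.natDegree := le_trans (Nat.le_add_right _ _) hbud
    rw [k1]
    omega
  · refine ⟨E, d, hd, ?_, hdvd E (by omega) le_rfl⟩
    rw [hdeg]
    have k1 : 2 * h * (e0 + 1) = 2 * h * e0 + 2 * h := by ring
    rw [k1]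
    have k3 : 0 ≤ 2 * h * e0 := Nat.zero_le _
    omega

end step

theorem main (hF : OrdF.{u}) (hSR : OrdSR.{u}) (hP : Pwr.{u}) : AB.{u} := by
  intro K _ _ p _ _ ν
  suffices H : ∀ (n : ℕ) (ν : K[X]), ν.natDegree = n → ν ≠ 0 → RC ν → ν.coeff 0 ≠ 0 →
      IsCoprime ν (X - 1) → IsCoprime ν (X + 1) →
      ∃ (DA DB : Finset ℕ) (E d : ℕ), (∀ a ∈ DA, 1 ≤ a) ∧ (∀ b ∈ DB, 1 ≤ b) ∧ 1 ≤ d ∧
        2 * (DA.sum id + DB.sum id) + 2 * d * (E - 1) ≤ ν.natDegree ∧
        (DA = ∅ → DB = ∅ → E = 0 ∧ IsUnit ν) ∧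
        ν ∣ X ^ (Nat.lcm (SA (Fintype.card K) DA) (SB (Fintype.card K) DB) *
          p ^ Nat.clog p E) - 1 from H _ ν rfl
  intro n
  induction n using Nat.strong_induction_on with
  | _ n ih =>
    intro ν hn hν0 hRC hc0 hm hpl
    by_cases hn0 : ν.natDegree = 0
    · have hu : IsUnit ν := isUnit_of_natDegree_zero hn0 hc0
      refine ⟨∅, ∅, 0, 1, by simp, by simp, le_rfl, by simp, fun _ _ => ⟨rfl, hu⟩, hu.dvd⟩
    · have hnu : ¬ IsUnit ν := fun hu => hn0 (natDegree_eq_zero_of_isUnit hu)
      obtain ⟨f, hf, hfν⟩ := WfDvdMonoid.exists_irreducible_factor hnu hν0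
      have hf0 : f ≠ 0 := hf.ne_zero
      have hfc : f.coeff 0 ≠ 0 := coeff_zero_ne_of_dvd hfν hc0
      have hfdeg : 0 < f.natDegree := hf.natDegree_pos
      have hfm : ¬ f ∣ X - 1 := fun hd =>
        hf.not_isUnit ((hm.of_isCoprime_of_dvd_left hfν).isUnit_of_dvd' dvd_rfl hd)
      have hfp : ¬ f ∣ X + 1 := fun hd =>
        hf.not_isUnit ((hpl.of_isCoprime_of_dvd_left hfν).isUnit_of_dvd' dvd_rfl hd)
      obtain ⟨ν₁, hν₁, hfν₁⟩ :=
        (FiniteMultiplicity.of_not_isUnit hf.not_isUnit hν0).exists_eq_pow_mul_and_not_dvd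
      set e := multiplicity f ν with he_def
      have he : 1 ≤ e := by
        by_contra hcon
        have : e = 0 := by omega
        rw [this, pow_zero, one_mul] at hν₁
        exact hfν₁ (hν₁ ▸ hfν)
      obtain ⟨c, hcne, hc⟩ := hRC
      have hfe0 : f ^ e ≠ 0 := pow_ne_zero e hf0
      have hν₁0 : ν₁ ≠ 0 := by
        rintro rfl
        rw [mul_zero] at hν₁
        exact hν0 hν₁
      have hcopf : IsCoprime (f ^ e) ν₁ := ((hf.coprime_iff_not_dvd).2 hfν₁).pow_left
      by_cases hRCf : RC f
      · -- type B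
        obtain ⟨b, hb1, hb2, hb3⟩ := hSR K f hf hRCf hfm hfp
        obtain ⟨cf, hcf0, hcf⟩ := hRCf
        have hrev : (f ^ e).reverse = C (cf ^ e) * f ^ e := by
          rw [reverse_pow', hcf, mul_pow, ← C_pow]
        have hRC1 : RC ν₁ := rc_quot hν₁ hc hcne (pow_ne_zero e hcf0) hrev hfe0
        have hdvd1 : ν₁ ∣ ν := ⟨f ^ e, by rw [hν₁, mul_comm]⟩
        have hdeg : ν.natDegree = 2 * b * e + ν₁.natDegree := by
          rw [hν₁, natDegree_mul hfe0 hν₁0, natDegree_pow, hb2]
          ring
        have hlt : ν₁.natDegree < n := by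
          rw [← hn, hdeg]
          have : 0 < 2 * b * e := by positivity
          omega
        obtain ⟨DA, DB, E, d, hA, hB, hd, hbud, -, hdiv⟩ :=
          ih ν₁.natDegree hlt ν₁ rfl hν₁0 hRC1 (coeff_zero_ne_of_dvd hdvd1 hc0)
            (hm.of_isCoprime_of_dvd_left hdvd1) (hpl.of_isCoprime_of_dvd_left hdvd1)
        have hsum : DA.sum id + (insert b DB).sum id ≤ DA.sum id + DB.sum id + b := by
          by_cases hbm : b ∈ DB
          · rw [Finset.insert_eq_of_mem hbm]
            omega
          · rw [Finset.sum_insert hbm]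
            simp only [id]
            omega
        obtain ⟨E', d', hd', hbud', hdiv'⟩ := step p ν (f ^ e) ν₁ b e
          (Fintype.card K ^ b + 1) DA DB DA (insert b DB) E d hν₁ hcopf
          (fun c hec => hP K p f _ e c hb3 hec) hdeg hb1 he
          (dvd_trans (Finset.dvd_lcm (f := fun b => Fintype.card K ^ b + 1)
            (Finset.mem_insert_self b DB)) (Nat.dvd_lcm_right _ _))
          (Nat.lcm_dvd (Nat.dvd_lcm_left _ _)
            (dvd_trans (Finset.lcm_mono (Finset.subset_insert b DB)) (Nat.dvd_lcm_right _ _)))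
          hsum hd hbud hdiv
        refine ⟨DA, insert b DB, E', d', hA, ?_, hd', hbud', ?_, hdiv'⟩
        · intro x hx
          rcases Finset.mem_insert.1 hx with rfl | hx
          · exact hb1
          · exact hB x hx
        · intro _ h2
          exact absurd h2 (Finset.insert_ne_empty b DB)
      · -- type A
        have hf'irr : Irreducible f.reverse := irreducible_reverse hf hfc
        have hf'deg : f.reverse.natDegree = f.natDegree := natDegree_reverse' hfc
        have hf'c : f.reverse.coeff 0 ≠ 0 := by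
          rw [coeff_zero_reverse]
          exact leadingCoeff_ne_zero.2 hf0
        have hf'rev : f.reverse.reverse = f := reverse_reverse' hfc
        have hf'0 : f.reverse ≠ 0 := hf'irr.ne_zero
        have hcopff' : IsCoprime f f.reverse := by
          rw [hf.coprime_iff_not_dvd]
          rintro ⟨g, hg⟩
          apply hRCf
          have hg0 : g ≠ 0 := by
            rintro rfl
            rw [mul_zero] at hg
            exact hf'0 hg
          have hgd : g.natDegree = 0 := by
            have := congrArg natDegree hg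
            rw [natDegree_mul hf0 hg0, hf'deg] at this
            omega
          have hgc : g.coeff 0 ≠ 0 := coeff_zero_ne_of_dvd ⟨f, by rw [hg, mul_comm]⟩ hf'c
          refine ⟨g.coeff 0, hgc, ?_⟩
          rw [hg, mul_comm]
          congr 1
          exact eq_C_of_natDegree_eq_zero hgd
        -- `f.reverse ^ e ∣ ν₁`
        have hcu : IsUnit (C c : K[X]) := isUnit_C.2 (IsUnit.mk0 _ hcne)
        have h1 : f.reverse ^ e ∣ ν := by
          have hrv : ν.reverse = f.reverse ^ e * ν₁.reverse := by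
            conv_lhs => rw [hν₁]
            rw [reverse_mul_of_domain, reverse_pow']
          have : f.reverse ^ e ∣ C c * ν := by
            rw [← hc, hrv]
            exact dvd_mul_right _ _
          exact (hcu.dvd_mul_left).1 this
        have h2 : f.reverse ^ e ∣ ν₁ := by
          have hcop' : IsCoprime (f.reverse ^ e) (f ^ e) := hcopff'.symm.pow
          rw [hν₁] at h1
          exact hcop'.dvd_of_dvd_mul_left h1
        obtain ⟨ν₂, hν₂⟩ := h2
        have hν₂0 : ν₂ ≠ 0 := by
          rintro rfl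
          rw [mul_zero] at hν₂
          exact hν₁0 hν₂
        have hν' : ν = (f ^ e * f.reverse ^ e) * ν₂ := by rw [hν₁, hν₂, mul_assoc]
        have hdvd2 : ν₂ ∣ ν := ⟨f ^ e * f.reverse ^ e, by rw [hν', mul_comm]⟩
        have hfν₂ : ¬ f ∣ ν₂ := fun hd => hfν₁ (hν₂ ▸ dvd_mul_of_dvd_right hd _)
        have hf'ν₂ : ¬ f.reverse ∣ ν₂ := by
          rintro ⟨w, hw⟩
          apply hfν₁
          have h3 : ν = f.reverse ^ (e + 1) * (f ^ e * w) := by
            rw [hν', hw, pow_succ]
            ring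
          have hrv3 : ν.reverse = f ^ (e + 1) * (f ^ e * w).reverse := by
            conv_lhs => rw [h3]
            rw [reverse_mul_of_domain, reverse_pow', hf'rev]
          have h4 : f ^ (e + 1) ∣ C c * ν := by
            rw [← hc, hrv3]
            exact dvd_mul_right _ _
          have h5 : f ^ (e + 1) ∣ ν := (hcu.dvd_mul_left).1 h4
          rw [hν₁, pow_succ] at h5
          exact (mul_dvd_mul_iff_left hfe0).1 h5
        have hge0 : f ^ e * f.reverse ^ e ≠ 0 := mul_ne_zero hfe0 (pow_ne_zero e hf'0)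
        have hrev : (f ^ e * f.reverse ^ e).reverse = C 1 * (f ^ e * f.reverse ^ e) := by
          rw [reverse_mul_of_domain, reverse_pow', reverse_pow', hf'rev, C_1, one_mul, mul_comm]
        have hRC2 : RC ν₂ := rc_quot hν' hc hcne one_ne_zero hrev hge0
        have hdeg : ν.natDegree = 2 * f.natDegree * e + ν₂.natDegree := by
          rw [hν', natDegree_mul hge0 hν₂0, natDegree_mul hfe0 (pow_ne_zero e hf'0),
            natDegree_pow, natDegree_pow, hf'deg]
          ring
        have hlt : ν₂.natDegree < n := by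
          rw [← hn, hdeg]
          have : 0 < 2 * f.natDegree * e := by positivity
          omega
        obtain ⟨DA, DB, E, d, hA, hB, hd, hbud, -, hdiv⟩ :=
          ih ν₂.natDegree hlt ν₂ rfl hν₂0 hRC2 (coeff_zero_ne_of_dvd hdvd2 hc0)
            (hm.of_isCoprime_of_dvd_left hdvd2) (hpl.of_isCoprime_of_dvd_left hdvd2)
        have hsum : (insert f.natDegree DA).sum id + DB.sum id ≤
            DA.sum id + DB.sum id + f.natDegree := by
          by_cases hbm : f.natDegree ∈ DA
          · rw [Finset.insert_eq_of_mem hbm]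
            omega
          · rw [Finset.sum_insert hbm]
            simp only [id]
            omega
        have hcopg : IsCoprime (f ^ e * f.reverse ^ e) ν₂ :=
          IsCoprime.mul_left ((hf.coprime_iff_not_dvd).2 hfν₂).pow_left
            ((hf'irr.coprime_iff_not_dvd).2 hf'ν₂).pow_left
        have hd1 := hF K f hf hfc
        have hd2 := hF K f.reverse hf'irr hf'c
        rw [hf'deg] at hd2
        obtain ⟨E', d', hd', hbud', hdiv'⟩ := step p ν (f ^ e * f.reverse ^ e) ν₂ f.natDegree e
          (Fintype.card K ^ f.natDegree - 1) DA DB (insert f.natDegree DA) DB E d hν' hcopg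
          (fun c hec => (hcopff'.pow).mul_dvd (hP K p f _ e c hd1 hec)
            (hP K p f.reverse _ e c hd2 hec)) hdeg hfdeg he
          (dvd_trans (Finset.dvd_lcm (f := fun a => Fintype.card K ^ a - 1)
            (Finset.mem_insert_self f.natDegree DA)) (Nat.dvd_lcm_left _ _))
          (Nat.lcm_dvd
            (dvd_trans (Finset.lcm_mono (Finset.subset_insert f.natDegree DA))
              (Nat.dvd_lcm_left _ _)) (Nat.dvd_lcm_right _ _))
          hsum hd hbud hdiv
        refine ⟨insert f.natDegree DA, DB, E', d', ?_, hB, hd', hbud', ?_, hdiv'⟩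
        · intro x hx
          rcases Finset.mem_insert.1 hx with rfl | hx
          · exact hfdeg
          · exact hA x hx
        · intro h1 _
          exact absurd h1 (Finset.insert_ne_empty f.natDegree DA)

end Cfsg.Agent.Lib.Helper66.EOAB
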