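import Mathlib
import Cfsg.Agent.Lib.Helper25.AICSpec
import Cfsg.Agent.Lib.Helper69.PNil

/-!
S2202 piece `SplitB`: under the hypotheses, the local structure and the inductive
statement `QProp`, the group is generated by its commutator subgroup and its centre.
-/

set_option autoImplicit false

namespace Cfsg.Agent.Lib.Helper66.AICSplitB

open Subgroup Cfsg.Agent.Lib.Helper25.AICSpec
open scoped commutatorElement

universe u

variable {G : Type u} [Group G]

theorem inv_sq {w : G} (hw : orderOf w = 2) : w * w = 1 := by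
  have := pow_orderOf_eq_one w
  rw [hw, pow_two] at this
  exact this

theorem orderOf_conj' (g t : G) : orderOf (g⁻¹ * t * g) = orderOf t := by
  have h := (MulAut.conj g⁻¹).orderOf_eq t
  rw [MulAut.conj_apply, inv_inv] at h
  exact h

/-- Some `d ∈ N_G(S)` commutes with no nontrivial element of `S`. -/
theorem exists_d [Finite G] (S : Sylow 2 G) (hH : Hyp G S) (hL : Local G S) (hQ : QProp G S) :
    ∃ d ∈ NS S, ∀ s ∈ (S : Subgroup G), s * d = d * s → s = 1 := by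
  obtain ⟨-, -, hnorm⟩ := hH
  have hNS : ∃ g : G, g ∉ NS S := by
    by_contra hcon
    apply hnorm
    have htop : NS S = ⊤ := eq_top_iff.2 (fun g _ => by
      by_contra hg
      exact hcon ⟨g, hg⟩)
    exact normalizer_eq_top_iff.1 htop
  obtain ⟨g, hg⟩ := hNS
  have hthree := hL.three
  have hne : Nonempty {t : G // t ∈ S ∧ orderOf t = 2} := by
    by_contra hcon
    rw [not_nonempty_iff] at hcon
    have h0 : qm1 S = 0 := by
      unfold qm1
      exact Nat.card_of_isEmpty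
    omega
  obtain ⟨⟨t₀, ht₀S, ht₀⟩⟩ := hne
  have hwo : orderOf (g⁻¹ * t₀ * g) = 2 := by
    rw [orderOf_conj', ht₀]
  have hwN : g⁻¹ * t₀ * g ∉ NS S := by
    intro hwN
    have hwS := hL.l1.inv_mem _ hwN hwo
    have ht1 : t₀ ≠ 1 := by
      rintro rfl
      simp at ht₀
    exact hg (hL.l1.ti g t₀ ht₀S ht1 hwS)
  have hj := hL.l4.jcard _ hwo hwN
  have hex : ∃ d : {d : G // d ∈ NS S ∧ (g⁻¹ * t₀ * g) * d * (g⁻¹ * t₀ * g) = d⁻¹},
      d.1 ≠ 1 := by
    by_contra hcon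
    have hcon' : ∀ d : {d : G // d ∈ NS S ∧ (g⁻¹ * t₀ * g) * d * (g⁻¹ * t₀ * g) = d⁻¹},
        d.1 = 1 := by
      intro d
      by_contra hd
      exact hcon ⟨d, hd⟩
    have hsub : Subsingleton
        {d : G // d ∈ NS S ∧ (g⁻¹ * t₀ * g) * d * (g⁻¹ * t₀ * g) = d⁻¹} :=
      ⟨fun a b => Subtype.ext ((hcon' a).trans (hcon' b).symm)⟩
    have hle := Finite.card_le_one_iff_subsingleton.2 hsub
    omega
  obtain ⟨⟨d, hdN, hdw⟩, hd1⟩ := hex
  refine ⟨d, hdN, ?_⟩
  intro s hs hsd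
  by_contra hs1
  have hs2 : s ^ 2 = 1 := hQ.2.1 s hs
  have : Fact (Nat.Prime 2) := ⟨Nat.prime_two⟩
  have hso : orderOf s = 2 := orderOf_eq_prime hs2 hs1
  have hcent := hL.l1.cent s hs hso
  have hdC : d ∈ CS S := by
    rw [← hcent, mem_centralizer_iff]
    intro x hx
    rw [Set.mem_singleton_iff] at hx
    rw [hx]
    exact hsd
  have hw2 : (g⁻¹ * t₀ * g) * (g⁻¹ * t₀ * g) = 1 := inv_sq hwo
  have h1 : d = 1 := hL.l4.transv_inj _ hwo hwN d 1 hdN (one_mem _) hdw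
    (by rw [mul_one, hw2, inv_one]) (by rw [one_mul]; exact inv_mem hdC)
  exact hd1 h1

/-- Every element of `S` is a commutator. -/
theorem mem_comm_of_mem_S [Finite G] (S : Sylow 2 G) (hH : Hyp G S) (hL : Local G S)
    (hQ : QProp G S) (t : G) (ht : t ∈ (S : Subgroup G)) : t ∈ commutator G := by
  obtain ⟨d, hdN, hd⟩ := exists_d S hH hL hQ
  have hdN' : ∀ s, s ∈ (S : Subgroup G) → d⁻¹ * s * d ∈ (S : Subgroup G) := by
    intro s hs
    have hdi : d⁻¹ ∈ NS S := inv_mem hdN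
    have := (mem_normalizer_iff.1 hdi s).1 hs
    simpa using this
  let f : ↥(S : Subgroup G) → ↥(S : Subgroup G) := fun s =>
    ⟨s.1⁻¹ * (d⁻¹ * s.1 * d), mul_mem (inv_mem s.2) (hdN' s.1 s.2)⟩
  have hf : Function.Injective f := by
    intro a b hab
    have hab' : a.1⁻¹ * (d⁻¹ * a.1 * d) = b.1⁻¹ * (d⁻¹ * b.1 * d) := congrArg Subtype.val hab
    have hc : (b.1 * a.1⁻¹) * d = d * (b.1 * a.1⁻¹) := by
      have e1 : d⁻¹ * a.1 * d = a.1 * (b.1⁻¹ * (d⁻¹ * b.1 * d)) := by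
        rw [← hab']
        group
      calc (b.1 * a.1⁻¹) * d = d * (d⁻¹ * b.1 * d) * (d⁻¹ * a.1 * d)⁻¹ := by group
        _ = d * (d⁻¹ * b.1 * d) * (a.1 * (b.1⁻¹ * (d⁻¹ * b.1 * d)))⁻¹ := by rw [e1]
        _ = d * (b.1 * a.1⁻¹) := by group
    have h1 := hd (b.1 * a.1⁻¹) (mul_mem b.2 (inv_mem a.2)) hc
    apply Subtype.ext
    have : b.1 = a.1 := by
      have := mul_inv_eq_one.1 h1
      exact this
    exact this.symm
  have hsurj := Finite.injective_iff_surjective.1 hf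
  obtain ⟨s, hs⟩ := hsurj ⟨t, ht⟩
  have hst : s.1⁻¹ * (d⁻¹ * s.1 * d) = t := congrArg Subtype.val hs
  rw [← hst]
  have hcm : s.1⁻¹ * (d⁻¹ * s.1 * d) = ⁅s.1⁻¹, d⁻¹⁆ := by
    rw [commutatorElement_def]
    group
  rw [hcm, _root_.commutator_def]
  exact commutator_mem_commutator (mem_top _) (mem_top _)

/-- The subgroup generated by the involutions lies in the commutator subgroup. -/
theorem Inv_le_comm [Finite G] (S : Sylow 2 G) (hH : Hyp G S) (hL : Local G S)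
    (hQ : QProp G S) : Cfsg.Agent.Lib.Helper25.AICSpec.Inv G ≤ commutator G := by
  have hthree := hL.three
  have hne : Nonempty {t : G // t ∈ S ∧ orderOf t = 2} := by
    by_contra hcon
    rw [not_nonempty_iff] at hcon
    have h0 : qm1 S = 0 := by
      unfold qm1
      exact Nat.card_of_isEmpty
    omega
  obtain ⟨⟨t₀, ht₀S, ht₀⟩⟩ := hne
  unfold Cfsg.Agent.Lib.Helper25.AICSpec.Inv
  rw [closure_le]
  intro w hw
  obtain ⟨g, hg⟩ := hL.l2.conj t₀ w ht₀ hw
  have hN : (commutator G).Normal := inferInstance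
  have h1 := hN.conj_mem t₀ (mem_comm_of_mem_S S hH hL hQ t₀ ht₀S) g⁻¹
  rw [inv_inv, hg] at h1
  exact h1

theorem main : SplitB.{u} := by
  intro G _ _ S hH hL hQ
  have : Fact (Nat.Prime 2) := ⟨Nat.prime_two⟩
  rw [eq_top_iff]
  intro g _
  obtain ⟨l, hl, c, hc, rfl⟩ := hL.l5.gen g
  obtain ⟨m, n, ⟨k, hk⟩, hcop, hmn⟩ := Cfsg.Agent.Lib.Helper69.PNil.exists_pow_decomp 2 c
  have hcm : c ^ m ∈ (S : Subgroup G) := hL.l1.two _ (pow_mem hc m) ⟨k, hk⟩
  have h1 : c ^ m ∈ commutator G := mem_comm_of_mem_S S hH hL hQ _ hcm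
  have hodd : Odd (orderOf (c ^ n)) := Nat.coprime_two_right.1 hcop
  have h2 : c ^ n ∈ center G := hQ.1 _ ⟨pow_mem hc n, hodd⟩
  have h3 : l ∈ commutator G := Inv_le_comm S hH hL hQ hl
  rw [← hmn, ← mul_assoc]
  exact mul_mem_sup (mul_mem h3 h1) h2

end Cfsg.Agent.Lib.Helper66.AICSplitB
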