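import Mathlib
import Cfsg.Agent.Lib.Helper25.AICSpec
import Cfsg.Agent.Lib.Helper39.CTPSL

set_option autoImplicit false

/-! Piece SplitC of S2202: a group `G` with `G ⧸ Z(G) ≅ PSL₂(F)` (characteristic 2),
`G' ⊓ Z(G) = ⊥` and `G' ⊔ Z(G) = ⊤` is `SL₂(F) × A` with `A ≅ Z(G)`. -/

namespace Cfsg.Agent.Lib.Helper66.AICSplitC

open Cfsg.Agent.Lib.Helper25.AICSpec

universe u

/-- A group which is the product of two normal subgroups `K`, `Z` with `Z` central and
`K ⊓ Z = ⊥`, `K ⊔ Z = ⊤` is isomorphic to `K × Z`. -/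
theorem mem_sup_normal {G : Type u} [Group G] (K Z : Subgroup G) [Z.Normal] (g : G)
    (hg : g ∈ K ⊔ Z) : ∃ k ∈ K, ∃ z ∈ Z, k * z = g := by
  have h : g ∈ ((K ⊔ Z : Subgroup G) : Set G) := hg
  rw [Subgroup.mul_normal K Z] at h
  obtain ⟨k, hk, z, hz, e⟩ := Set.mem_mul.mp h
  exact ⟨k, hk, z, hz, e⟩

theorem prod_of_central {G : Type u} [Group G] (K Z : Subgroup G) [Z.Normal]
    (hZ : Z ≤ Subgroup.center G)
    (hinf : K ⊓ Z = ⊥) (hsup : K ⊔ Z = ⊤) : Nonempty (G ≃* ↥K × ↥Z) := by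
  have hcomm : ∀ (k : K) (z : Z), Commute (K.subtype k) (Z.subtype z) := by
    intro k z
    exact Subgroup.mem_center_iff.mp (hZ z.2) k
  let φ : ↥K × ↥Z →* G := MonoidHom.noncommCoprod K.subtype Z.subtype hcomm
  have hφ : ∀ p : ↥K × ↥Z, φ p = (p.1 : G) * (p.2 : G) := fun p => rfl
  have hinj : Function.Injective φ := by
    rw [injective_iff_map_eq_one]
    intro p hp
    rw [hφ] at hp
    have h1 : (p.1 : G) ∈ K ⊓ Z := by
      refine ⟨p.1.2, ?_⟩
      have e : (p.1 : G) = (p.2 : G)⁻¹ := eq_inv_of_mul_eq_one_left hp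
      rw [e]
      exact Z.inv_mem p.2.2
    rw [hinf, Subgroup.mem_bot] at h1
    have h2 : (p.2 : G) = 1 := by
      rw [h1, one_mul] at hp
      exact hp
    exact Prod.ext (Subtype.ext h1) (Subtype.ext h2)
  have hsurj : Function.Surjective φ := by
    intro g
    have hg : g ∈ K ⊔ Z := by rw [hsup]; trivial
    obtain ⟨k, hk, z, hz, rfl⟩ := mem_sup_normal K Z g hg
    exact ⟨(⟨k, hk⟩, ⟨z, hz⟩), rfl⟩
  exact ⟨(MulEquiv.ofBijective φ ⟨hinj, hsurj⟩).symm⟩

/-- Under the same hypotheses (with `Z` normal) `K ≅ G ⧸ Z`. -/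
theorem equiv_quot {G : Type u} [Group G] (K Z : Subgroup G) [Z.Normal]
    (hinf : K ⊓ Z = ⊥) (hsup : K ⊔ Z = ⊤) : Nonempty (↥K ≃* G ⧸ Z) := by
  let ψ : ↥K →* G ⧸ Z := (QuotientGroup.mk' Z).comp K.subtype
  have hψinj : Function.Injective ψ := by
    rw [injective_iff_map_eq_one]
    intro k hk
    have h1 : (k : G) ∈ Z := (QuotientGroup.eq_one_iff _).mp hk
    have h2 : (k : G) ∈ K ⊓ Z := ⟨k.2, h1⟩
    rw [hinf, Subgroup.mem_bot] at h2
    exact Subtype.ext h2
  have hψsurj : Function.Surjective ψ := by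
    intro x
    induction x using QuotientGroup.induction_on with
    | H g =>
      have hg : g ∈ K ⊔ Z := by rw [hsup]; trivial
      obtain ⟨k, hk, z, hz, rfl⟩ := mem_sup_normal K Z g hg
      refine ⟨⟨k, hk⟩, ?_⟩
      show (QuotientGroup.mk k : G ⧸ Z) = QuotientGroup.mk (k * z)
      rw [QuotientGroup.eq]
      simpa using hz
  exact ⟨MulEquiv.ofBijective ψ ⟨hψinj, hψsurj⟩⟩

/-- A finite commutative group has a copy in `Type`. -/
theorem exists_small_comm (Z : Type u) [Group Z] [Finite Z] (hc : ∀ a b : Z, a * b = b * a) :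
    ∃ (A : Type) (_ : CommGroup A) (_ : Finite A), Nat.card A = Nat.card Z ∧
      Nonempty (Z ≃* A) := by
  refine ⟨Shrink.{0} Z,
    { (inferInstance : Group (Shrink.{0} Z)) with
      mul_comm := fun a b => by
        apply (Shrink.mulEquiv.{0, u} (α := Z)).injective
        rw [map_mul, map_mul, hc] },
    Finite.of_equiv _ (equivShrink.{0, u} Z), ?_, ?_⟩
  · exact (Nat.card_congr (equivShrink.{0, u} Z)).symm
  · exact ⟨(Shrink.mulEquiv.{0, u} (α := Z)).symm⟩

theorem main : SplitC.{u} := by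
  intro G _ _ hodd F _ _ hchar ⟨e⟩ hinf hsup
  have h2 : (2 : F) = 0 := by
    have h := CharP.cast_eq_zero F 2
    exact_mod_cast h
  obtain ⟨eG⟩ := prod_of_central (commutator G) (Subgroup.center G) le_rfl hinf hsup
  obtain ⟨eK⟩ := equiv_quot (commutator G) (Subgroup.center G) hinf hsup
  have hcen : Subgroup.center (Matrix.SpecialLinearGroup (Fin 2) F) = ⊥ :=
    Cfsg.Agent.Lib.Helper39.CTPSL.center_eq_bot h2
  let eP : Matrix.ProjectiveSpecialLinearGroup (Fin 2) F ≃* Matrix.SpecialLinearGroup (Fin 2) F :=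
    (QuotientGroup.quotientMulEquivOfEq hcen).trans QuotientGroup.quotientBot
  obtain ⟨A, iA, fA, hcA, ⟨eA⟩⟩ := exists_small_comm ↥(Subgroup.center G) (by
    intro a b
    exact Subtype.ext (Subgroup.mem_center_iff.mp b.2 a))
  refine ⟨A, iA, fA, ?_, ?_⟩
  · rw [hcA]
    exact hodd
  · exact ⟨eG.trans (MulEquiv.prodCongr ((eK.trans e).trans eP) eA)⟩

end Cfsg.Agent.Lib.Helper66.AICSplitC
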