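import Mathlib
import Cfsg.Prelude.Def_FusionSystem
import Cfsg.Prelude.Def_FusionComponents
import Cfsg.Agent.H85.Factor
import Cfsg.Agent.Lib.Helper87.FSFactor
import Cfsg.Agent.Lib.Helper87.FSQuot
import Cfsg.Agent.S5076

set_option autoImplicit false

/-! A saturated fusion system on a dihedral 2-group in which the central involution is fused to a
non-central one, obtained as the factor system modulo the centre of the 2-fusion system of a
finite group with generalized quaternion Sylow 2-subgroups in which the two classes of elements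
of order 4 of the Sylow subgroup are fused. -/

namespace Cfsg.Agent.Lib.Helper66.DihFus

open Cfsg

/-- Reduction modulo `n` of the index. -/
noncomputable def red (n : ℕ) : ZMod (2 * n) →+* ZMod n :=
  ZMod.castHom (Dvd.intro_left 2 rfl) (ZMod n)

theorem red_n (n : ℕ) : red n (n : ZMod (2 * n)) = 0 := by
  rw [map_natCast]
  exact ZMod.natCast_self n

theorem red_surj (n : ℕ) : Function.Surjective (red n) :=
  ZMod.castHom_surjective _

/-- The underlying function of the canonical map from the generalized quaternion group of order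
`4n` onto the dihedral group of order `2n`. -/
noncomputable def piFun (n : ℕ) : QuaternionGroup n → DihedralGroup n
  | QuaternionGroup.a i => DihedralGroup.r (red n i)
  | QuaternionGroup.xa i => DihedralGroup.sr (red n i)

/-- The canonical map from the generalized quaternion group of order `4n` onto the dihedral group
of order `2n`. -/
noncomputable def quatToDih (n : ℕ) : QuaternionGroup n →* DihedralGroup n :=
  MonoidHom.mk' (piFun n) (by
    intro x y
    rcases x with i | i <;> rcases y with j | j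
    · simp [piFun]
    · simp [piFun]
    · simp [piFun]
    · simp [piFun])

theorem quatToDih_a (n : ℕ) (i : ZMod (2 * n)) :
    quatToDih n (QuaternionGroup.a i) = DihedralGroup.r (red n i) := rfl

theorem quatToDih_xa (n : ℕ) (i : ZMod (2 * n)) :
    quatToDih n (QuaternionGroup.xa i) = DihedralGroup.sr (red n i) := rfl

theorem quatToDih_surj (n : ℕ) : Function.Surjective (quatToDih n) := by
  intro d
  rcases d with j | j
  · obtain ⟨i, hi⟩ := red_surj n j
    exact ⟨QuaternionGroup.a i, by rw [quatToDih_a, hi]⟩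
  · obtain ⟨i, hi⟩ := red_surj n j
    exact ⟨QuaternionGroup.xa i, by rw [quatToDih_xa, hi]⟩

theorem red_eq_zero_iff (n : ℕ) [NeZero n] (i : ZMod (2 * n)) : red n i = 0 ↔ i + i = 0 := by
  have : NeZero (2 * n) := ⟨Nat.mul_ne_zero two_ne_zero (NeZero.ne n)⟩
  have hi : ((i.val : ℕ) : ZMod (2 * n)) = i := ZMod.natCast_zmod_val i
  have h1 : red n i = ((i.val : ℕ) : ZMod n) := by
    conv_lhs => rw [← hi]
    rw [map_natCast]
  have h2 : i + i = ((2 * i.val : ℕ) : ZMod (2 * n)) := by
    push_cast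
    rw [hi]; ring
  rw [h1, h2, ZMod.natCast_eq_zero_iff, ZMod.natCast_eq_zero_iff]
  exact (Nat.mul_dvd_mul_iff_left (by norm_num)).symm

/-- The kernel of the canonical map consists of the elements of square one. -/
theorem quatToDih_eq_one_iff (n : ℕ) [NeZero n] (q : QuaternionGroup n) :
    quatToDih n q = 1 ↔ q * q = 1 := by
  rcases q with i | i
  · rw [quatToDih_a, QuaternionGroup.a_mul_a, DihedralGroup.one_def, QuaternionGroup.one_def]
    constructor
    · intro h
      have h' : red n i = 0 := by injection h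
      rw [(red_eq_zero_iff n i).mp h']
    · intro h
      have h' : i + i = 0 := by injection h
      rw [(red_eq_zero_iff n i).mpr h']
  · rw [quatToDih_xa, QuaternionGroup.xa_mul_xa, DihedralGroup.one_def, QuaternionGroup.one_def]
    constructor
    · intro h
      injection h
    · intro h
      exfalso
      have h' : (n : ZMod (2 * n)) + i - i = 0 := by injection h
      rw [add_sub_cancel_right, ZMod.natCast_eq_zero_iff] at h'
      have h2 := Nat.le_of_dvd (Nat.pos_of_ne_zero (NeZero.ne n)) h'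
      have := Nat.pos_of_ne_zero (NeZero.ne n)
      omega

/-- From a finite group with generalized quaternion Sylow 2-subgroup `P` of order `4 * 2 ^ k` in
which an element of order 4 of the cyclic maximal subgroup is conjugate to an element outside
it: a saturated fusion system on any dihedral group of order `2 * 2 ^ k` with a map that is not
a conjugation. -/
theorem exists_dih_of_quat {Ω : Type*} [Group Ω] {S : Subgroup Ω} [Finite S] (k : ℕ)
    (eD : ↥S ≃* DihedralGroup (2 ^ k))
    {G : Type*} [Group G] [Finite G] (P : Sylow 2 G)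
    (e : ↥(P : Subgroup G) ≃* QuaternionGroup (2 ^ k)) (c : G)
    (hc : c * ((e.symm (QuaternionGroup.a ((2 ^ (k - 1) : ℕ) : ZMod (2 * 2 ^ k)))) : G) * c⁻¹
        = ((e.symm (QuaternionGroup.xa 0)) : G)) :
    ∃ E : Cfsg.FusionSystem S, E.IsSaturated 2 ∧ ∃ (A : Subgroup Ω) (φ : A →* Ω) (a : A),
      φ ∈ E.Hom A ∧ ∀ s ∈ S, s * (a : Ω) * s⁻¹ ≠ φ a := by
  classical
  have : NeZero (2 ^ k) := ⟨pow_ne_zero k two_ne_zero⟩
  let F : FusionSystem (P : Subgroup G) := groupFusionSystem (P : Subgroup G)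
  have hF : F.IsSaturated 2 := Cfsg.Agent.S5076.result 2 P
  have hPp : IsPGroup 2 (P : Subgroup G) := P.isPGroup'
  let θ : (P : Subgroup G) →* Ω :=
    S.subtype.comp (eD.symm.toMonoidHom.comp ((quatToDih (2 ^ k)).comp e.toMonoidHom))
  have hθapp : ∀ s : (P : Subgroup G),
      θ s = ((eD.symm (quatToDih (2 ^ k) (e s)) : S) : Ω) := fun s => rfl
  have hθS : ∀ s, θ s ∈ S := fun s => (eD.symm _).2
  have hθ1 : ∀ s : (P : Subgroup G), θ s = 1 ↔ (s : G) * (s : G) = 1 := by
    intro s
    rw [hθapp]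
    constructor
    · intro h
      have h1 : eD.symm (quatToDih (2 ^ k) (e s)) = 1 := Subtype.ext h
      have h2 : quatToDih (2 ^ k) (e s) = 1 := (MulEquiv.map_eq_one_iff eD.symm).mp h1
      have h3 := (quatToDih_eq_one_iff _ _).mp h2
      rw [← map_mul] at h3
      have h4 : s * s = 1 := (MulEquiv.map_eq_one_iff e).mp h3
      exact congrArg Subtype.val h4
    · intro h
      have h4 : s * s = 1 := Subtype.ext h
      have h3 : e s * e s = 1 := by rw [← map_mul, h4, map_one]
      have h2 := (quatToDih_eq_one_iff _ _).mpr h3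
      rw [h2, map_one]; rfl
  let T : Subgroup G := θ.ker.map (P : Subgroup G).subtype
  have hTmem : ∀ s : (P : Subgroup G), (s : G) ∈ T ↔ θ s = 1 := by
    intro s
    constructor
    · rintro ⟨t, ht, hts⟩
      have hst : t = s := Subtype.ext hts
      rw [← hst]; exact ht
    · intro h
      exact ⟨s, h, rfl⟩
  have hTP : T ≤ (P : Subgroup G) := by
    rintro _ ⟨t, -, rfl⟩
    exact t.2
  have hT : F.StronglyClosed T := by
    refine ⟨hTP, ?_⟩
    rintro R hR φ ⟨hRP, hφP, g, hg⟩ x
    have hx : ((⟨x, hRP x.2⟩ : (P : Subgroup G)) : G) ∈ T := hR x.2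
    rw [hTmem, hθ1] at hx
    have hx' : (x : G) * (x : G) = 1 := hx
    refine (hTmem ⟨φ x, hφP x⟩).mpr ?_
    rw [hθ1]
    show φ x * φ x = 1
    rw [hg]
    calc g * (x : G) * g⁻¹ * (g * (x : G) * g⁻¹) = g * ((x : G) * (x : G)) * g⁻¹ := by group
      _ = 1 := by rw [hx']; group
  have hker : ∀ s : (P : Subgroup G), θ s = 1 ↔ (s : G) ∈ T := fun s => (hTmem s).symm
  have hrange : θ.range = S := by
    ext y
    constructor
    · rintro ⟨s, rfl⟩
      exact hθS s
    · intro hy
      obtain ⟨q, hq⟩ := quatToDih_surj (2 ^ k) (eD ⟨y, hy⟩)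
      refine ⟨e.symm q, ?_⟩
      rw [hθapp, MulEquiv.apply_symm_apply, hq, MulEquiv.symm_apply_apply]
  obtain ⟨E, hE⟩ := Cfsg.Agent.H85.exists_factorSystem F T hT θ hker S hrange
  have hEsat : E.IsSaturated 2 :=
    Cfsg.Agent.Lib.Helper87.FSFactor.factor_saturated hPp F hF T hT θ E hE
  refine ⟨E, hEsat, ?_⟩
  obtain ⟨g1, hg1⟩ : ∃ g1 : (P : Subgroup G),
      g1 = e.symm (QuaternionGroup.a ((2 ^ (k - 1) : ℕ) : ZMod (2 * 2 ^ k))) := ⟨_, rfl⟩
  obtain ⟨g2, hg2⟩ : ∃ g2 : (P : Subgroup G), g2 = e.symm (QuaternionGroup.xa 0) := ⟨_, rfl⟩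
  rw [← hg1, ← hg2] at hc
  let A₀ : Subgroup G := Subgroup.zpowers (g1 : G)
  have hA₀P : A₀ ≤ (P : Subgroup G) := by
    rw [Subgroup.zpowers_le]; exact g1.2
  have hconj : ∀ x : A₀, conjHom A₀ c x ∈ (P : Subgroup G) := by
    rintro ⟨x, hx⟩
    obtain ⟨j, rfl⟩ := Subgroup.mem_zpowers_iff.mp hx
    have hj : c * (g1 : G) ^ j * c⁻¹ = (g2 : G) ^ j := by
      rw [← hc, conj_zpow]
    show c * (g1 : G) ^ j * c⁻¹ ∈ _
    rw [hj]
    exact Subgroup.zpow_mem _ g2.2 j
  have hmem : conjHom A₀ c ∈ F.Hom A₀ := ⟨hA₀P, hconj, c, fun x => rfl⟩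
  obtain ⟨-, φ', hφ', hP, hφS, hP', hind⟩ :=
    Cfsg.Agent.Lib.Helper87.FSQuot.le_indSys hPp F hF T hT θ E hE hθS A₀ hmem
  let x0 : A₀ := ⟨g1, Subgroup.mem_zpowers _⟩
  refine ⟨FusionSystem.imageAlong θ A₀, φ', ⟨θ ⟨x0, hP x0.2⟩, hP' x0⟩, hφ', ?_⟩
  intro s hs hcontra
  rw [hind x0] at hcontra
  have e1 : (⟨(x0 : G), hP x0.2⟩ : (P : Subgroup G)) = g1 := rfl
  have e2 : (⟨conjHom A₀ c x0, hφS x0⟩ : (P : Subgroup G)) = g2 := Subtype.ext hc
  rw [e2] at hcontra
  have hcontra' : s * θ g1 * s⁻¹ = θ g2 := hcontra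
  rw [hθapp, hθapp, hg1, hg2, MulEquiv.apply_symm_apply, MulEquiv.apply_symm_apply, quatToDih_a,
    quatToDih_xa] at hcontra'
  have h1 : (⟨s, hs⟩ : S) * eD.symm (DihedralGroup.r (red (2 ^ k) ((2 ^ (k - 1) : ℕ) : ZMod (2 * 2 ^ k))))
      = eD.symm (DihedralGroup.sr (red (2 ^ k) 0)) * ⟨s, hs⟩ := by
    apply Subtype.ext
    show s * _ = _ * s
    rw [← hcontra']; group
  have h2 := congrArg eD h1
  rw [map_mul, map_mul, MulEquiv.apply_symm_apply, MulEquiv.apply_symm_apply] at h2
  obtain ⟨d, hd⟩ : ∃ d, d = eD ⟨s, hs⟩ := ⟨_, rfl⟩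
  rw [← hd] at h2
  rcases d with i | i
  · rw [DihedralGroup.r_mul_r, DihedralGroup.sr_mul_r] at h2
    injection h2
  · rw [DihedralGroup.sr_mul_r, DihedralGroup.sr_mul_sr] at h2
    injection h2

end Cfsg.Agent.Lib.Helper66.DihFus
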