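import Mathlib
import Cfsg.Prelude.Def_FusionSystem
import Cfsg.Agent.Lib.Helper66.DihFus
import Cfsg.Agent.Lib.Helper48.QuatFus

set_option autoImplicit false

/-! A saturated fusion system on any dihedral 2-group of order at least 8 having a map that is
not a conjugation by an element of the group. -/

namespace Cfsg.Agent.Lib.Helper66.DihFus2

theorem exists_dih {Ω : Type*} [Group Ω] {S : Subgroup Ω} [Finite S] (k : ℕ) (hk : 2 ≤ k)
    (eD : ↥S ≃* DihedralGroup (2 ^ k)) :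
    ∃ E : Cfsg.FusionSystem S, E.IsSaturated 2 ∧ ∃ (A : Subgroup Ω) (φ : A →* Ω) (a : A),
      φ ∈ E.Hom A ∧ ∀ s ∈ S, s * (a : Ω) * s⁻¹ ≠ φ a := by
  obtain ⟨G, _, _, P, e, c, hc⟩ := Cfsg.Agent.Lib.Helper48.QuatFus.exists_quat k hk
  exact Cfsg.Agent.Lib.Helper66.DihFus.exists_dih_of_quat k eD P e c hc

end Cfsg.Agent.Lib.Helper66.DihFus2
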