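import Mathlib
import Cfsg.Agent.Lib.Helper35.StemB

set_option autoImplicit false

/-!
# Orders of subgroups generated by two elements of prime order

* `card_pair`: two commuting elements of prime order `p` generating different cyclic subgroups
  generate a subgroup of order `p * p`;
* `card_extra`: two elements of order `p` whose commutator has order `p` and commutes with both
  generate a subgroup of order `p * p * p`.
-/

namespace Cfsg.Agent.Lib.Helper66.ExtraCard

open Cfsg.Agent.Lib.Helper35.StemB
open scoped commutatorElement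

section Extra

variable {G : Type*} [Group G]

open Subgroup

theorem conj_mem_of_closure (H : Subgroup G) (S : Set G) (x : G)
    (h : ∀ s ∈ S, x * s * x⁻¹ ∈ H) : ∀ y ∈ closure S, x * y * x⁻¹ ∈ H := by
  intro y hy
  induction hy using Subgroup.closure_induction with
  | mem s hs => exact h s hs
  | one => simp
  | mul a b _ _ ha hb =>
    have e : x * (a * b) * x⁻¹ = (x * a * x⁻¹) * (x * b * x⁻¹) := by group
    rw [e]; exact H.mul_mem ha hb
  | inv a _ ha =>
    have e : x * a⁻¹ * x⁻¹ = (x * a * x⁻¹)⁻¹ := by group
    rw [e]; exact H.inv_mem ha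

/-- Two commuting elements of prime order `p` generating different subgroups generate a
subgroup of order `p * p`. -/
theorem card_pair [Finite G] (p : ℕ) (hp : p.Prime) {c c' : G}
    (hc : orderOf c = p) (hc' : orderOf c' = p) (hcomm : c * c' = c' * c)
    (hne : c' ∉ zpowers c) : Nat.card (closure ({c, c'} : Set G)) = p * p := by
  have hU : closure ({c, c'} : Set G) = zpowers c ⊔ zpowers c' := by
    rw [zpowers_eq_closure, zpowers_eq_closure, ← Subgroup.closure_union]
    rfl
  have hcz : ∀ k : ℤ, c' * c ^ k * c'⁻¹ = c ^ k := fun k => by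
    rw [(Commute.zpow_right (show Commute c' c from hcomm.symm) k).eq, mul_inv_cancel_right]
  have hcz' : ∀ k : ℤ, c'⁻¹ * c ^ k * c' = c ^ k := fun k => by
    have := hcz k
    calc c'⁻¹ * c ^ k * c' = c'⁻¹ * (c' * c ^ k * c'⁻¹) * c' := by rw [this]
      _ = c ^ k := by group
  have hnorm : zpowers c' ≤ normalizer (zpowers c : Set G) := by
    rw [zpowers_le, mem_normalizer_iff]
    intro h
    constructor
    · intro hh
      obtain ⟨k, rfl⟩ := mem_zpowers_iff.mp hh
      rw [hcz]
      exact zpow_mem_zpowers c k
    · intro hh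
      obtain ⟨k, hk⟩ := mem_zpowers_iff.mp hh
      have e1 : h = c'⁻¹ * (c' * h * c'⁻¹) * c' := by group
      rw [e1, ← hk, hcz']
      exact zpow_mem_zpowers c k
  have hcardK : Nat.card (zpowers c') = p := by rw [Nat.card_zpowers, hc']
  have hcardH : Nat.card (zpowers c) = p := by rw [Nat.card_zpowers, hc]
  have hbot : zpowers c ⊓ zpowers c' = ⊥ := by
    have hdvd : Nat.card ↥(zpowers c ⊓ zpowers c') ∣ p :=
      hcardK ▸ Subgroup.card_dvd_of_le inf_le_right
    rcases (Nat.dvd_prime hp).mp hdvd with h1 | h1
    · exact Subgroup.card_eq_one.mp h1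
    · exfalso
      have heq : zpowers c ⊓ zpowers c' = zpowers c' :=
        Subgroup.eq_of_le_of_card_ge inf_le_right (by rw [h1, hcardK])
      have hle : zpowers c' ≤ zpowers c := heq ▸ inf_le_left
      exact hne (hle (mem_zpowers c'))
  rw [hU, card_sup_of_le_normalizer hnorm hbot, hcardH, hcardK]

/-- Two elements of prime order `p` whose commutator has order `p` and commutes with both
generate a subgroup of order `p * p * p`. -/
theorem card_extra [Finite G] (p : ℕ) (hp : p.Prime) {a b : G}
    (ha : orderOf a = p) (hb : orderOf b = p) (hca : ⁅a, b⁆ * a = a * ⁅a, b⁆)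
    (hcb : ⁅a, b⁆ * b = b * ⁅a, b⁆) (hc : orderOf ⁅a, b⁆ = p) :
    Nat.card (closure ({a, b} : Set G)) = p * p * p := by
  obtain ⟨c, hcdef⟩ : ∃ c, c = ⁅a, b⁆ := ⟨_, rfl⟩
  rw [← hcdef] at hca hcb hc
  have hc1 : c ≠ 1 := by
    intro h
    rw [h, orderOf_one] at hc
    exact hp.one_lt.ne hc
  have hab : a * b ≠ b * a := by
    intro h
    apply hc1
    rw [hcdef, commutatorElement_eq_one_iff_mul_comm]
    exact h
  have hane : a ∉ zpowers c := by
    intro h
    obtain ⟨k, hk⟩ := mem_zpowers_iff.mp h
    apply hab
    rw [← hk]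
    exact (Commute.zpow_left (show Commute c b from hcb) k).eq
  have hK : Nat.card (closure ({c, a} : Set G)) = p * p := card_pair p hp hc ha hca hane
  have hU : closure ({a, b} : Set G) = closure ({c, a} : Set G) ⊔ zpowers b := by
    apply le_antisymm
    · rw [closure_le]
      rintro x (rfl | rfl)
      · exact (le_sup_left : closure ({c, x} : Set G) ≤ _) (subset_closure (by simp))
      · exact (le_sup_right : zpowers x ≤ _) (mem_zpowers x)
    · rw [sup_le_iff]
      constructor
      · rw [closure_le]
        rintro x (rfl | rfl)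
        · have h1 : a ∈ closure ({a, b} : Set G) := subset_closure (by simp)
          have h2 : b ∈ closure ({a, b} : Set G) := subset_closure (by simp)
          rw [hcdef, commutatorElement_def]
          exact mul_mem (mul_mem (mul_mem h1 h2) (inv_mem h1)) (inv_mem h2)
        · exact subset_closure (by simp)
      · rw [zpowers_le]
        exact subset_closure (by simp)
  have e1 : a * b = c * b * a := by rw [hcdef, commutatorElement_def]; group
  have e2 : b⁻¹ * c * b = c := by rw [mul_assoc, hcb, inv_mul_cancel_left]
  have e3 : b * c * b⁻¹ = c := by rw [← hcb, mul_inv_cancel_right]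
  have hba : b * a * b⁻¹ = c⁻¹ * a := by rw [hcdef, commutatorElement_def]; group
  have hba' : b⁻¹ * a * b⁻¹⁻¹ = c * a := by
    calc b⁻¹ * a * b⁻¹⁻¹ = b⁻¹ * (a * b) := by group
      _ = b⁻¹ * (c * b * a) := by rw [e1]
      _ = (b⁻¹ * c * b) * a := by group
      _ = c * a := by rw [e2]
  have hcK : c ∈ closure ({c, a} : Set G) := subset_closure (by simp)
  have haK : a ∈ closure ({c, a} : Set G) := subset_closure (by simp)
  have hnorm : zpowers b ≤ normalizer ((closure ({c, a} : Set G) : Subgroup G) : Set G) := by
    rw [zpowers_le, mem_normalizer_iff]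
    intro h
    constructor
    · intro hh
      refine conj_mem_of_closure _ {c, a} b ?_ h hh
      rintro s (rfl | rfl)
      · rw [e3]; exact hcK
      · rw [hba]; exact mul_mem (inv_mem hcK) haK
    · intro hh
      have h1 := conj_mem_of_closure (closure ({c, a} : Set G)) {c, a} b⁻¹ (by
        rintro s (rfl | rfl)
        · rw [inv_inv, e2]; exact hcK
        · rw [hba']; exact mul_mem hcK haK) (b * h * b⁻¹) hh
      have e : b⁻¹ * (b * h * b⁻¹) * b⁻¹⁻¹ = h := by group
      rw [e] at h1
      exact h1
  have hcardB : Nat.card (zpowers b) = p := by rw [Nat.card_zpowers, hb]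
  have hbot : closure ({c, a} : Set G) ⊓ zpowers b = ⊥ := by
    have hdvd : Nat.card ↥(closure ({c, a} : Set G) ⊓ zpowers b) ∣ p :=
      hcardB ▸ Subgroup.card_dvd_of_le inf_le_right
    rcases (Nat.dvd_prime hp).mp hdvd with h1 | h1
    · exact Subgroup.card_eq_one.mp h1
    · exfalso
      have heq : closure ({c, a} : Set G) ⊓ zpowers b = zpowers b :=
        Subgroup.eq_of_le_of_card_ge inf_le_right (by rw [h1, hcardB])
      have hle : zpowers b ≤ closure ({c, a} : Set G) := heq ▸ inf_le_left
      have hbK : b ∈ closure ({c, a} : Set G) := hle (mem_zpowers b)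
      have hcent : closure ({c, a} : Set G) ≤ centralizer ({a} : Set G) := by
        rw [closure_le]
        rintro x (rfl | rfl)
        · rw [SetLike.mem_coe, mem_centralizer_iff]
          rintro y rfl
          exact hca.symm
        · rw [SetLike.mem_coe, mem_centralizer_iff]
          rintro y rfl
          rfl
      have h2 := mem_centralizer_iff.mp (hcent hbK) a rfl
      exact hab h2
  rw [hU, card_sup_of_le_normalizer hnorm hbot, hK, hcardB]

end Extra

end Cfsg.Agent.Lib.Helper66.ExtraCard
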