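import Mathlib

set_option autoImplicit false
open scoped Pointwise

namespace Cfsg.Agent.Lib.Helper66.FrobCount

/-- A finite invariant set all of whose orbits have size divisible by `d` has size divisible by `d`. -/
theorem dvd_card_of_invariant {G α : Type*} [Group G] [MulAction G α] [DecidableEq α]
    (d : ℕ) : ∀ (S : Finset α), (∀ g : G, ∀ a ∈ S, g • a ∈ S) →
    (∀ a ∈ S, d ∣ Nat.card (MulAction.orbit G a)) → d ∣ S.card := by
  classical
  intro S
  induction' hn : S.card using Nat.strong_induction_on with n ih generalizing S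
  intro hS h
  rcases S.eq_empty_or_nonempty with rfl | ⟨a, ha⟩
  · simp at hn; subst hn; exact dvd_zero d
  · set O := S.filter (fun b => b ∈ MulAction.orbit G a) with hO
    set S' := S.filter (fun b => ¬ b ∈ MulAction.orbit G a) with hS'
    have hOset : (O : Set α) = MulAction.orbit G a := by
      ext b
      simp only [hO, Finset.coe_filter, Set.mem_setOf_eq]
      constructor
      · exact fun hb => hb.2
      · rintro ⟨g, rfl⟩
        exact ⟨hS g a ha, ⟨g, rfl⟩⟩
    have hOcard : O.card = Nat.card (MulAction.orbit G a) := by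
      rw [← hOset]
      exact (Nat.card_eq_finsetCard O).symm
    have hsum : O.card + S'.card = S.card := by
      rw [hO, hS']
      exact Finset.card_filter_add_card_filter_not _
    have haO : a ∈ O := by
      rw [hO, Finset.mem_filter]
      exact ⟨ha, MulAction.mem_orbit_self a⟩
    have hOpos : 0 < O.card := Finset.card_pos.mpr ⟨a, haO⟩
    have hlt : S'.card < n := by omega
    have hS'inv : ∀ g : G, ∀ b ∈ S', g • b ∈ S' := by
      intro g b hb
      rw [hS', Finset.mem_filter] at hb ⊢
      refine ⟨hS g b hb.1, ?_⟩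
      intro hgb
      apply hb.2
      obtain ⟨g', hg'⟩ := hgb
      have hg'' : g' • a = g • b := hg'
      exact ⟨g⁻¹ * g', by show (g⁻¹ * g') • a = b; rw [mul_smul, hg'', inv_smul_smul]⟩
    have hS'dvd : ∀ b ∈ S', d ∣ Nat.card (MulAction.orbit G b) := by
      intro b hb
      rw [hS', Finset.mem_filter] at hb
      exact h b hb.1
    have h1 := ih S'.card hlt S' rfl hS'inv hS'dvd
    have h2 : d ∣ O.card := hOcard ▸ h a ha
    rw [← hn, ← hsum]
    exact dvd_add h2 h1



/-- A finset stable under left multiplication by a subgroup has size divisible by its order. -/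
theorem card_dvd_of_mul_mem {G : Type*} [Group G] [DecidableEq G] (H : Subgroup G) (X : Finset G)
    (hX : ∀ h ∈ H, ∀ x ∈ X, h * x ∈ X) : Nat.card H ∣ X.card := by
  apply dvd_card_of_invariant (G := H) (α := G) (Nat.card H) X
  · intro g a ha
    exact hX g g.2 a ha
  · intro a _
    have e : H ≃ MulAction.orbit H a := Equiv.ofBijective
      (fun h => ⟨h • a, MulAction.mem_orbit a h⟩)
      ⟨fun h h' hh => by
        have h1 : h • a = h' • a := congrArg Subtype.val hh
        have h2 : (h : G) * a = (h' : G) * a := h1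
        exact Subtype.ext (mul_right_cancel h2),
       fun ⟨b, ⟨h, hb⟩⟩ => ⟨h, Subtype.ext hb⟩⟩
    rw [← Nat.card_congr e]

/-- The stabilizer of a finset under left multiplication has order dividing its size. -/
theorem card_stabilizer_dvd {G : Type*} [Group G] [DecidableEq G] (X : Finset G) :
    Nat.card (MulAction.stabilizer G X) ∣ X.card := by
  apply card_dvd_of_mul_mem
  intro h hh x hx
  rw [MulAction.mem_stabilizer_iff] at hh
  have : h • x ∈ h • X := Finset.smul_mem_smul_finset hx
  rw [hh] at this
  exact this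

theorem card_orbit_mul_card_stabilizer {G α : Type*} [Group G] [MulAction G α] (a : α) :
    Nat.card (MulAction.orbit G a) * Nat.card (MulAction.stabilizer G a) = Nat.card G := by
  rw [← Nat.card_prod]
  exact Nat.card_congr (MulAction.orbitProdStabilizerEquivGroup G a)

theorem card_stabilizer_smul {G α : Type*} [Group G] [MulAction G α] (g : G) (a : α) :
    Nat.card (MulAction.stabilizer G (g • a)) = Nat.card (MulAction.stabilizer G a) := by
  rw [MulAction.stabilizer_smul_eq_stabilizer_map_conj]
  exact Nat.card_congr ((MulAction.stabilizer G a).equivMapOfInjective _ (MulAut.conj g).injective).symm.toEquiv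

/-- The finset of elements of a subgroup. -/
noncomputable def fin {G : Type*} [Group G] [Fintype G] (K : Subgroup G) : Finset G := by
  classical
  exact Finset.univ.filter (fun x => x ∈ K)

theorem mem_fin {G : Type*} [Group G] [Fintype G] (K : Subgroup G) (x : G) : x ∈ fin K ↔ x ∈ K := by
  classical
  simp [fin]

theorem card_fin {G : Type*} [Group G] [Fintype G] (K : Subgroup G) : (fin K).card = Nat.card K := by
  classical
  rw [← Nat.card_eq_finsetCard]
  apply Nat.card_congr
  exact Equiv.subtypeEquivRight (fun x => mem_fin K x)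

theorem stabilizer_fin_card {G : Type*} [Group G] [Fintype G] [DecidableEq G] (K : Subgroup G) :
    Nat.card (MulAction.stabilizer G (fin K)) = Nat.card K := by
  apply Nat.dvd_antisymm
  · have := card_stabilizer_dvd (fin K)
    rwa [card_fin] at this
  · apply Subgroup.card_dvd_of_le
    intro k hk
    rw [MulAction.mem_stabilizer_iff]
    ext x
    rw [Finset.mem_smul_finset, mem_fin]
    constructor
    · rintro ⟨y, hy, rfl⟩
      rw [mem_fin] at hy
      exact K.mul_mem hk hy
    · intro hx
      exact ⟨k⁻¹ * x, (mem_fin K _).mpr (K.mul_mem (K.inv_mem hk) hx), by simp⟩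

/-- Two translates of subgroups that coincide come from the same subgroup. -/
theorem eq_of_smul_fin_eq {G : Type*} [Group G] [Fintype G] [DecidableEq G] (K₁ K₂ : Subgroup G)
    (g₁ g₂ : G) (h : g₁ • fin K₁ = g₂ • fin K₂) : K₁ = K₂ := by
  have key : ∀ (K K' : Subgroup G) (g g' : G), g • fin K = g' • fin K' → K ≤ K' := by
    intro K K' g g' h k hk
    have h1 : g * 1 ∈ g • fin K := Finset.smul_mem_smul_finset ((mem_fin K 1).mpr K.one_mem)
    have h2 : g * k ∈ g • fin K := Finset.smul_mem_smul_finset ((mem_fin K k).mpr hk)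
    rw [h, Finset.mem_smul_finset] at h1 h2
    obtain ⟨a, ha, ha'⟩ := h1
    obtain ⟨b, hb, hb'⟩ := h2
    rw [mem_fin] at ha hb
    have ha'' : g' * a = g * 1 := ha'
    have hb'' : g' * b = g * k := hb'
    have : k = a⁻¹ * b := by
      have h3 : g = g' * a := by rw [ha'']; simp
      rw [h3] at hb''
      have h4 : b = a * k := by
        have := mul_left_cancel (a := g') (b := b) (c := a * k) (by rw [hb'']; group)
        exact this
      rw [h4]; group
    rw [this]
    exact K'.mul_mem (K'.inv_mem ha) hb
  exact le_antisymm (key K₁ K₂ g₁ g₂ h) (key K₂ K₁ g₂ g₁ h.symm)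



/-- A Lucas-type congruence. -/
theorem choose_pred_modEq_one (p : ℕ) [hp : Fact p.Prime] (β m : ℕ) (hm : 0 < m) :
    Nat.choose (p ^ β * m - 1) (p ^ β - 1) ≡ 1 [MOD p] := by
  have hp0 : 0 < p := hp.out.pos
  induction β with
  | zero => simp [Nat.ModEq]
  | succ β ih =>
    have hpos : 0 < p ^ β * m := by positivity
    have hpos' : 0 < p ^ β := by positivity
    have hn : p ^ (β + 1) * m - 1 = (p - 1) + p * (p ^ β * m - 1) := by
      have : p ^ (β + 1) * m = p * (p ^ β * m) := by ring
      rw [this]
      obtain ⟨t, ht⟩ := Nat.exists_eq_succ_of_ne_zero hpos.ne'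
      rw [ht]
      obtain ⟨q, hq⟩ := Nat.exists_eq_succ_of_ne_zero hp0.ne'
      rw [hq]
      simp only [Nat.succ_eq_add_one, Nat.add_sub_cancel]
      ring_nf
      omega
    have hk : p ^ (β + 1) - 1 = (p - 1) + p * (p ^ β - 1) := by
      have : p ^ (β + 1) = p * p ^ β := by ring
      rw [this]
      obtain ⟨t, ht⟩ := Nat.exists_eq_succ_of_ne_zero hpos'.ne'
      rw [ht]
      obtain ⟨q, hq⟩ := Nat.exists_eq_succ_of_ne_zero hp0.ne'
      rw [hq]
      simp only [Nat.succ_eq_add_one, Nat.add_sub_cancel]
      ring_nf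
      omega
    have hlt : p - 1 < p := Nat.sub_lt hp0 Nat.one_pos
    have h1 := Choose.choose_modEq_choose_mod_mul_choose_div_nat (n := p ^ (β + 1) * m - 1)
      (k := p ^ (β + 1) - 1) (p := p)
    rw [hn, hk, Nat.add_mul_mod_self_left, Nat.add_mul_mod_self_left, Nat.mod_eq_of_lt hlt,
      Nat.add_mul_div_left _ _ hp0, Nat.add_mul_div_left _ _ hp0, Nat.div_eq_of_lt hlt,
      Nat.choose_self, one_mul, zero_add, zero_add] at h1
    rw [hn, hk]
    exact h1.trans ih



/-- A finset of size `Nat.card H` whose stabilizer `H` has full size is a translate of a subgroup. -/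
theorem exists_smul_fin_of_card_stabilizer {G : Type*} [Group G] [Fintype G] [DecidableEq G]
    (X : Finset G) (q : ℕ) (hq : 0 < q) (hX : X.card = q)
    (hs : Nat.card (MulAction.stabilizer G X) = q) :
    ∃ (K : Subgroup G) (x : G), Nat.card K = q ∧ x • fin K = X := by
  have hne : X.Nonempty := Finset.card_pos.mp (hX ▸ hq)
  obtain ⟨x, hx⟩ := hne
  set H := MulAction.stabilizer G X with hH
  have himg : (fin H).image (· * x) = X := by
    apply Finset.eq_of_subset_of_card_le
    · intro y hy
      rw [Finset.mem_image] at hy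
      obtain ⟨h, hh, rfl⟩ := hy
      rw [mem_fin, hH, MulAction.mem_stabilizer_iff] at hh
      have : h • x ∈ h • X := Finset.smul_mem_smul_finset hx
      rw [hh] at this
      exact this
    · rw [Finset.card_image_of_injective _ (mul_left_injective x), card_fin, hs, hX]
  refine ⟨H.map (MulAut.conj x⁻¹).toMonoidHom, x, ?_, ?_⟩
  · rw [← hs]
    exact Nat.card_congr (H.equivMapOfInjective _ (MulAut.conj x⁻¹).injective).symm.toEquiv
  · ext y
    rw [Finset.mem_smul_finset, ← himg, Finset.mem_image]
    constructor
    · rintro ⟨z, hz, rfl⟩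
      rw [mem_fin, Subgroup.mem_map] at hz
      obtain ⟨h, hh, rfl⟩ := hz
      refine ⟨h, (mem_fin H h).mpr hh, ?_⟩
      simp only [MulEquiv.coe_toMonoidHom, MulAut.conj_apply, inv_inv, smul_eq_mul]
      group
    · rintro ⟨h, hh, rfl⟩
      rw [mem_fin] at hh
      refine ⟨x⁻¹ * h * x, ?_, by simp [mul_assoc]⟩
      rw [mem_fin, Subgroup.mem_map]
      exact ⟨h, hh, by simp⟩

/-- **Frobenius**: the number of subgroups of order `p ^ β` is congruent to `1` modulo `p`. -/
theorem card_subgroups_modEq_one {G : Type*} [Group G] [Finite G] (p β : ℕ) [hp : Fact p.Prime]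
    (hdiv : p ^ β ∣ Nat.card G) :
    Nat.card {H : Subgroup G // Nat.card H = p ^ β} ≡ 1 [MOD p] := by
  classical
  have : Fintype G := Fintype.ofFinite G
  obtain ⟨m, hm⟩ := hdiv
  have hm0 : 0 < m := by
    rcases Nat.eq_zero_or_pos m with rfl | h
    · simp at hm
    · exact h
  have hp0 : 0 < p := hp.out.pos
  set q := p ^ β with hqdef
  have hq0 : 0 < q := by positivity
  let Ω : Finset (Finset G) := (Finset.univ : Finset G).powersetCard q
  have hΩcard : Ω.card = (q * m).choose q := by
    rw [Finset.card_powersetCard, Finset.card_univ, ← Nat.card_eq_fintype_card, hm]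
  let ΩA := Ω.filter (fun X => Nat.card (MulAction.stabilizer G X) = q)
  let ΩB := Ω.filter (fun X => ¬ Nat.card (MulAction.stabilizer G X) = q)
  have hsplit : ΩA.card + ΩB.card = Ω.card := Finset.card_filter_add_card_filter_not _
  have hΩmem : ∀ X : Finset G, X ∈ Ω ↔ X.card = q := by
    intro X
    simp [Ω, Finset.mem_powersetCard]
  -- the orbits with small stabilizer
  have hB : p * m ∣ ΩB.card := by
    apply dvd_card_of_invariant (G := G)
    · intro g X hX
      rw [Finset.mem_filter, hΩmem] at hX ⊢
      refine ⟨by rw [Finset.card_smul_finset]; exact hX.1, ?_⟩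
      rw [card_stabilizer_smul]; exact hX.2
    · intro X hX
      rw [Finset.mem_filter, hΩmem] at hX
      have h1 := card_orbit_mul_card_stabilizer (G := G) X
      have h2 := card_stabilizer_dvd X
      rw [hX.1] at h2
      obtain ⟨j, hj, hs⟩ := (Nat.dvd_prime_pow hp.out).mp h2
      have hjlt : j < β := lt_of_le_of_ne hj (by rintro rfl; exact hX.2 hs)
      rw [hs, hm] at h1
      obtain ⟨d, rfl⟩ := Nat.exists_eq_add_of_lt hjlt
      have h3 : Nat.card (MulAction.orbit G X) = p ^ (d + 1) * m := by
        apply Nat.eq_of_mul_eq_mul_right (pow_pos hp0 j)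
        rw [h1, hqdef]; ring
      rw [h3]
      exact ⟨p ^ d, by ring⟩
  -- the orbits of subgroups
  have hA : ΩA.card = Nat.card {H : Subgroup G // Nat.card H = q} * m := by
    have : Fintype {H : Subgroup G // Nat.card H = q} := Fintype.ofFinite _
    have hEq : ΩA = (Finset.univ : Finset {H : Subgroup G // Nat.card H = q}).biUnion
        (fun K => Ω.filter (fun X => X ∈ MulAction.orbit G (fin K.1))) := by
      ext X
      simp only [ΩA, Finset.mem_filter, Finset.mem_biUnion, Finset.mem_univ, true_and, hΩmem]
      constructor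
      · rintro ⟨hX, hs⟩
        obtain ⟨K, x, hK, hKx⟩ := exists_smul_fin_of_card_stabilizer X q hq0 hX hs
        exact ⟨⟨K, hK⟩, hX, ⟨x, hKx⟩⟩
      · rintro ⟨K, hX, ⟨g, hg⟩⟩
        refine ⟨hX, ?_⟩
        have hg' : g • fin K.1 = X := hg
        rw [← hg', card_stabilizer_smul, stabilizer_fin_card, K.2]
    rw [hEq, Finset.card_biUnion]
    · have hpiece : ∀ K : {H : Subgroup G // Nat.card H = q},
          (Ω.filter (fun X => X ∈ MulAction.orbit G (fin K.1))).card = m := by
        intro K
        have hset : ((Ω.filter (fun X => X ∈ MulAction.orbit G (fin K.1)) : Finset (Finset G)) : Set (Finset G))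
            = MulAction.orbit G (fin K.1) := by
          ext X
          simp only [Finset.coe_filter, Set.mem_setOf_eq, hΩmem]
          constructor
          · exact fun h => h.2
          · rintro ⟨g, rfl⟩
            refine ⟨?_, ⟨g, rfl⟩⟩
            show (g • fin K.1).card = q
            rw [Finset.card_smul_finset, card_fin, K.2]
        have h1 : (Ω.filter (fun X => X ∈ MulAction.orbit G (fin K.1))).card
            = Nat.card (MulAction.orbit G (fin K.1)) := by
          rw [← Nat.card_eq_finsetCard]
          exact Nat.card_congr (Equiv.setCongr hset)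
        rw [h1]
        have h2 := card_orbit_mul_card_stabilizer (G := G) (fin K.1)
        rw [stabilizer_fin_card, K.2, hm] at h2
        apply Nat.eq_of_mul_eq_mul_right hq0
        rw [h2]; ring
      rw [Finset.sum_congr rfl (fun K _ => hpiece K), Finset.sum_const, Finset.card_univ,
        smul_eq_mul, Nat.card_eq_fintype_card]
    · intro K₁ _ K₂ _ hne
      rw [Function.onFun, Finset.disjoint_left]
      intro X hX1 hX2
      rw [Finset.mem_filter] at hX1 hX2
      obtain ⟨g₁, hg₁⟩ := hX1.2
      obtain ⟨g₂, hg₂⟩ := hX2.2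
      have hg₁' : g₁ • fin K₁.1 = X := hg₁
      have hg₂' : g₂ • fin K₂.1 = X := hg₂
      exact hne (Subtype.ext (eq_of_smul_fin_eq K₁.1 K₂.1 g₁ g₂ (hg₁'.trans hg₂'.symm)))
  -- binomial identity
  have hchoose : (q * m).choose q = m * (q * m - 1).choose (q - 1) := by
    have h1 := Nat.add_one_mul_choose_eq (q * m - 1) (q - 1)
    have hqm : 0 < q * m := by positivity
    rw [Nat.sub_add_cancel hqm, Nat.sub_add_cancel hq0] at h1
    apply Nat.eq_of_mul_eq_mul_right hq0
    rw [← h1]; ring
  have hL := choose_pred_modEq_one p β m hm0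
  obtain ⟨t, ht⟩ := hB
  -- m * C = N * m + p * m * t
  have hmain : (q * m - 1).choose (q - 1) = Nat.card {H : Subgroup G // Nat.card H = q} + p * t := by
    apply Nat.eq_of_mul_eq_mul_left hm0
    rw [← hchoose, ← hΩcard, ← hsplit, hA, ht]; ring
  rw [hmain] at hL
  have h5 : Nat.card {H : Subgroup G // Nat.card H = q} + p * t ≡ Nat.card {H : Subgroup G // Nat.card H = q} [MOD p] := by
    simp [Nat.ModEq]
  exact h5.symm.trans hL

end Cfsg.Agent.Lib.Helper66.FrobCount
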