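import Cfsg.Agent.Lib.Helper60.J1Cent
import Cfsg.Agent.Lib.Helper35.PermAut

set_option autoImplicit false

/-!
# Every automorphism of the Janko group `J1` is inner

An automorphism is corrected by inner automorphisms until it fixes the generator `x` of order 7
(Sylow) and an element `n` of order 6 normalising `⟨x⟩` (the centraliser of `x` is `⟨x⟩`).  It
then fixes the involution `n³`, so it maps a chosen element `k` of the centraliser of `n³` (an
explicit group of order 120) into that centraliser; three relations between `x`, `n`, `k` single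
out `k` among the 120 elements.  As `x`, `n`, `k` generate `J1`, the automorphism is trivial.
-/

namespace Cfsg.Agent.Lib.Helper66.J1Out

open Cfsg Cfsg.Agent.Lib.Helper60.J1

/-! ### Words and matrices -/

/-- word of an element conjugating the cube of the element of order 6 to the involution `t` -/
def uw : List ℕ := [0, 0, 0, 0, 1, 1, 0, 0, 0]
/-- word of its inverse -/
def uiw : List ℕ := [0, 0, 0, 0, 1, 1, 1, 0, 0, 0]
/-- word of an element of order 5 centralising the cube of the element of order 6 -/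
def kw : List ℕ := uiw ++ bew ++ uw

/-- the element of order 6 normalising `⟨x⟩` -/
def nE : ↥Cfsg.Spor.J1 := ev gen1 bw7
/-- the conjugating element -/
def uE : ↥Cfsg.Spor.J1 := ev gen1 uw
/-- the element of order 5 -/
def kE : ↥Cfsg.Spor.J1 := ev gen1 kw

/-- packed matrix of `nE` -/
def Nh : M7 := ⟨16692286830488934091, 5597521969377721131, 16683932348301334711, 16683938606290971491, 50051796983586724151, 5564122814596196711, 5572452198802750891⟩
/-- packed matrix of `uE` -/
def Uh : M7 := ⟨38948671363427612606, 11119859741499497623, 16688131544249636413, 55640973876619558610, 12544302951832363, 55624261754961243450, 33401276386241206780⟩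
/-- packed matrix of the inverse of `uE` -/
def Ui : M7 := ⟨38948687055578360671, 50039280947734856440, 44516958848896703370, 55640951907620914908, 33430560304544450, 55624246062806958918, 33401276386232339658⟩
/-- packed matrix of `kE` -/
def Kh : M7 := ⟨50081028324347543284, 16692311942637164571, 50081053434144908336, 27799617963539985748, 8373333998884082, 22277280198506227482, 16688125283909146172⟩

theorem redNh : Nh.IsRed := by decide +kernel
theorem redUh : Uh.IsRed := by decide +kernel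
theorem redUi : Ui.IsRed := by decide +kernel
theorem redKh : Kh.IsRed := by decide +kernel

theorem ι_nE : ι nE = Nh.toMat := by
  have h : M7.beq (evN g1 bw7) Nh = true := by decide +kernel
  rw [nE, ι_ev1, M7.eq_of_beq h]

theorem ι_uE : ι uE = Uh.toMat := by
  have h : M7.beq (evN g1 uw) Uh = true := by decide +kernel
  rw [uE, ι_ev1, M7.eq_of_beq h]

theorem ι_kE : ι kE = Kh.toMat := by
  have h : M7.beq (evN g1 kw) Kh = true := by decide +kernel
  rw [kE, ι_ev1, M7.eq_of_beq h]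

theorem uE_inv : uE⁻¹ = ev gen1 uiw := by
  rw [inv_eq_iff_mul_eq_one, uE, ← ev_append]
  exact ev_eq_one _ (by decide +kernel)

theorem ι_uE_inv : ι uE⁻¹ = Ui.toMat := by
  have h : M7.beq (evN g1 uiw) Ui = true := by decide +kernel
  rw [uE_inv, ι_ev1, M7.eq_of_beq h]

theorem ev_x : ev gen1 [0] = gX := by simp [ev, gen1]

theorem x7 : gX ^ 7 = 1 := by
  have h := pow_orderOf_eq_one gX
  rwa [ord_gX] at h

/-! ### The normaliser of `⟨x⟩` -/

theorem nx : nE * gX = gX ^ 5 * nE := by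
  have e : ev gen1 (bw7 ++ [0]) = ev gen1 (List.replicate 5 0 ++ bw7) :=
    ev_eq_ev _ _ (by decide +kernel)
  rw [ev_append, ev_append, ev_x, ev_replicate] at e
  exact e

theorem xn : gX * nE = nE * gX ^ 3 := by
  have e : ev gen1 ([0] ++ bw7) = ev gen1 (bw7 ++ List.replicate 3 0) :=
    ev_eq_ev _ _ (by decide +kernel)
  rw [ev_append, ev_append, ev_x, ev_replicate] at e
  exact e

theorem xn_pow (m : ℕ) : gX ^ m * nE = nE * gX ^ (3 * m) := by
  induction m with
  | zero => simp
  | succ m ih =>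
    rw [pow_succ, mul_assoc, xn, ← mul_assoc, ih, mul_assoc, ← pow_add]
    congr 2

theorem nx_pow (k : ℕ) : nE * gX ^ k = gX ^ (5 * k) * nE := by
  induction k with
  | zero => simp
  | succ k ih =>
    rw [pow_succ, ← mul_assoc, ih, mul_assoc, nx, ← mul_assoc, ← pow_add]
    congr 2

theorem npow_x (e : ℕ) : nE ^ e * gX = gX ^ (5 ^ e) * nE ^ e := by
  induction e with
  | zero => simp
  | succ e ih =>
    rw [pow_succ', mul_assoc, ih, ← mul_assoc, nx_pow, mul_assoc, ← pow_succ']

/-! ### The centraliser of `x` -/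

theorem card_not_dvd : ¬ 7 * 7 ∣ Nat.card ↥Cfsg.Spor.J1 := by
  rw [card_J1]
  norm_num

theorem cent_x (c : ↥Cfsg.Spor.J1) (hc : Commute c gX) : c ∈ Subgroup.zpowers gX := by
  have h7 : Fact (Nat.Prime 7) := ⟨by norm_num⟩
  have hx : ev gen1 gw7 = gX := ev_x
  rcases comm7 c (by rw [hx]; exact hc) with h6 | h7'
  · -- `c ^ 6 = 1`: then `x c` has order `7 * orderOf c`, so `c = 1`
    have hd : orderOf c ∣ 6 := orderOf_dvd_of_pow_eq_one h6
    have hco : (orderOf gX).Coprime (orderOf c) := by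
      rw [ord_gX]
      exact Nat.Coprime.coprime_dvd_right hd (by norm_num)
    have ho := hc.symm.orderOf_mul_eq_mul_orderOf_of_coprime hco
    rw [ord_gX] at ho
    have h := ord7 (gX * c) (by rw [ho]; exact dvd_mul_right 7 _)
    rw [ho] at h
    have h1 : orderOf c = 1 := by omega
    rw [orderOf_eq_one_iff.mp h1]
    exact Subgroup.one_mem _
  · -- `c ^ 7 = 1`: otherwise `⟨x⟩ × ⟨c⟩` embeds in the group
    by_contra hne
    have hc1 : c ≠ 1 := fun h => hne (h ▸ Subgroup.one_mem _)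
    have hoc : orderOf c = 7 := orderOf_eq_prime h7' hc1
    have hinf : ∀ z : ↥Cfsg.Spor.J1, z ∈ Subgroup.zpowers gX → z ∈ Subgroup.zpowers c → z = 1 := by
      intro z hz1 hz2
      by_contra hz
      have hoz : orderOf z = 7 := by
        have hd : orderOf z ∣ 7 := by
          have := orderOf_dvd_of_mem_zpowers hz2
          rwa [hoc] at this
        rcases (Nat.dvd_prime (by norm_num : Nat.Prime 7)).mp hd with h | h
        · exact absurd (orderOf_eq_one_iff.mp h) hz
        · exact h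
      have e1 : Subgroup.zpowers z = Subgroup.zpowers c := by
        apply Subgroup.eq_of_le_of_card_ge
        · rw [Subgroup.zpowers_le]; exact hz2
        · rw [Nat.card_zpowers, Nat.card_zpowers, hoz, hoc]
      have e2 : Subgroup.zpowers z = Subgroup.zpowers gX := by
        apply Subgroup.eq_of_le_of_card_ge
        · rw [Subgroup.zpowers_le]; exact hz1
        · rw [Nat.card_zpowers, Nat.card_zpowers, hoz, ord_gX]
      apply hne
      rw [← e2, e1]
      exact Subgroup.mem_zpowers c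
    let φ : ↥(Subgroup.zpowers gX) × ↥(Subgroup.zpowers c) →* ↥Cfsg.Spor.J1 :=
      MonoidHom.noncommCoprod (Subgroup.zpowers gX).subtype (Subgroup.zpowers c).subtype (by
        rintro ⟨a, ha⟩ ⟨b, hb⟩
        obtain ⟨i, rfl⟩ := Subgroup.mem_zpowers_iff.mp ha
        obtain ⟨j, rfl⟩ := Subgroup.mem_zpowers_iff.mp hb
        exact (hc.symm.zpow_right j).zpow_left i)
    have hφ : Function.Injective φ := by
      rw [injective_iff_map_eq_one]
      rintro ⟨⟨a, ha⟩, ⟨b, hb⟩⟩ hab
      have hab' : a * b = 1 := hab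
      have hb' : b = a⁻¹ := (inv_eq_of_mul_eq_one_right hab').symm
      have ha1 : a = 1 := by
        apply hinf a ha
        have : a⁻¹ ∈ Subgroup.zpowers c := hb' ▸ hb
        simpa using Subgroup.inv_mem _ this
      have hb1 : b = 1 := by rw [hb', ha1, inv_one]
      subst ha1 hb1
      rfl
    have hdvd := Subgroup.card_dvd_of_injective φ hφ
    rw [Nat.card_prod, Nat.card_zpowers, Nat.card_zpowers, ord_gX, hoc] at hdvd
    exact card_not_dvd hdvd

/-! ### Correcting an automorphism by inner automorphisms -/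

theorem pow5 : ∀ j : Fin 7, j ≠ 0 → ∃ e : Fin 6, (5 ^ e.1 * j.1) % 7 = 1 := by decide

theorem fix1 (β : MulAut ↥Cfsg.Spor.J1) :
    ∃ c : ↥Cfsg.Spor.J1, (MulAut.conj c * β) gX ∈ Subgroup.zpowers gX := by
  have h7 : Fact (Nat.Prime 7) := ⟨by norm_num⟩
  have ho : orderOf (β gX) = 7 := by rw [MulEquiv.orderOf_eq, ord_gX]
  obtain ⟨u, hu⟩ := conj_mem_zpowers 7 card_not_dvd (β gX) gX ho ord_gX
  exact ⟨u, hu⟩

theorem fix2 (β : MulAut ↥Cfsg.Spor.J1) (h : β gX ∈ Subgroup.zpowers gX) :
    ∃ c : ↥Cfsg.Spor.J1, (MulAut.conj c * β) gX = gX := by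
  rw [← mem_powers_iff_mem_zpowers] at h
  obtain ⟨n, hn⟩ := h
  have hn' : gX ^ (n % 7) = β gX := by
    have h0 : gX ^ (n % orderOf gX) = gX ^ n := pow_mod_orderOf gX n
    rw [ord_gX] at h0
    rw [h0]
    exact hn
  have hj0 : n % 7 ≠ 0 := by
    intro h0
    rw [h0, pow_zero] at hn'
    have : gX = 1 := by
      apply β.injective
      rw [← hn', map_one]
    have h1 := ord_gX
    rw [this, orderOf_one] at h1
    norm_num at h1
  obtain ⟨e, he⟩ := pow5 ⟨n % 7, Nat.mod_lt _ (by norm_num)⟩ (by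
    intro h0
    exact hj0 (congrArg Fin.val h0))
  refine ⟨nE ^ e.1, ?_⟩
  show nE ^ e.1 * β gX * (nE ^ e.1)⁻¹ = gX
  rw [← hn', mul_inv_eq_iff_eq_mul]
  have key : ∀ j : ℕ, nE ^ e.1 * gX ^ j = gX ^ (5 ^ e.1 * j) * nE ^ e.1 := by
    intro j
    induction j with
    | zero => simp
    | succ j ih =>
      rw [pow_succ, ← mul_assoc, ih, mul_assoc, npow_x, ← mul_assoc, ← pow_add]
      congr 2
  rw [key, ← pow_mod_orderOf, ord_gX]
  have he' : 5 ^ e.1 * (n % 7) % 7 = 1 := he
  rw [he', pow_one]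

theorem fix3 (β : MulAut ↥Cfsg.Spor.J1) (h : β gX = gX) :
    ∃ c : ↥Cfsg.Spor.J1, (MulAut.conj c * β) gX = gX ∧ (MulAut.conj c * β) nE = nE := by
  have h1 : β nE * gX = gX ^ 5 * β nE := by
    have := congrArg β nx
    rwa [map_mul, map_mul, map_pow, h] at this
  have hcomm : Commute (nE⁻¹ * β nE) gX := by
    show nE⁻¹ * β nE * gX = gX * (nE⁻¹ * β nE)
    have h2 : nE⁻¹ * gX ^ 5 = gX * nE⁻¹ := by
      rw [inv_mul_eq_iff_eq_mul, ← mul_assoc, nx, mul_assoc, mul_inv_cancel, mul_one]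
    rw [mul_assoc, h1, ← mul_assoc, h2, mul_assoc]
  have hz := cent_x _ hcomm
  rw [← mem_powers_iff_mem_zpowers] at hz
  obtain ⟨i, hi⟩ := hz
  have hi' : gX ^ i = nE⁻¹ * β nE := hi
  have hn : β nE = nE * gX ^ i := by
    rw [hi', mul_inv_cancel_left]
  refine ⟨gX ^ (3 * i), ?_, ?_⟩
  · show gX ^ (3 * i) * β gX * (gX ^ (3 * i))⁻¹ = gX
    rw [h, mul_inv_eq_iff_eq_mul, ← pow_succ, ← pow_succ']
  · show gX ^ (3 * i) * β nE * (gX ^ (3 * i))⁻¹ = nE
    rw [hn, mul_inv_eq_iff_eq_mul, ← mul_assoc, xn_pow, mul_assoc, ← pow_add]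
    have e : 3 * (3 * i) + i = 3 * i + 7 * i := by ring
    rw [e, pow_add, pow_mul gX 7 i, x7, one_pow, mul_one]

theorem fix_all (α : MulAut ↥Cfsg.Spor.J1) :
    ∃ c : ↥Cfsg.Spor.J1, (MulAut.conj c * α) gX = gX ∧ (MulAut.conj c * α) nE = nE := by
  obtain ⟨c1, h1⟩ := fix1 α
  obtain ⟨c2, h2⟩ := fix2 _ h1
  obtain ⟨c3, h3⟩ := fix3 _ h2
  refine ⟨c3 * (c2 * c1), ?_⟩
  rw [map_mul, map_mul, mul_assoc, mul_assoc]
  exact h3


/-! ### The centraliser of the involution `nE ^ 3` -/

theorem nE3 : nE ^ 3 = ev gen1 (bw7 ++ bw7 ++ bw7) := by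
  rw [ev_append, ev_append, pow_succ, pow_succ, pow_one]
  rfl

theorem conj_t : uE * nE ^ 3 * uE⁻¹ = tI := by
  rw [uE_inv, nE3, uE, tI, ← ev_append, ← ev_append]
  exact ev_eq_ev _ _ (by decide +kernel)

theorem k_comm : kE * nE ^ 3 = nE ^ 3 * kE := by
  rw [nE3, kE, ← ev_append, ← ev_append]
  exact ev_eq_ev _ _ (by decide +kernel)

/-- the three generators `x`, `n` and a variable third one -/
def gen3 (k : ↥Cfsg.Spor.J1) (i : ℕ) : ↥Cfsg.Spor.J1 := if i = 0 then gX else if i = 1 then nE else k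

/-- the packed matrices of the three generators -/
def g3N (K : M7) (i : ℕ) : M7 := if i = 0 then Xh else if i = 1 then Nh else K

theorem ι_gen3 (k : ↥Cfsg.Spor.J1) (K : M7) (h : ι k = K.toMat) (i : ℕ) :
    ι (gen3 k i) = (g3N K i).toMat := by
  unfold gen3 g3N
  split_ifs
  · exact ι_gX
  · exact ι_nE
  · exact h

theorem red_g3N (K : M7) (hK : K.IsRed) (i : ℕ) : (g3N K i).IsRed := by
  unfold g3N
  split_ifs
  · exact redXh
  · exact redNh
  · exact hK

theorem ι_ev3 (k : ↥Cfsg.Spor.J1) (K : M7) (hK : K.IsRed) (h : ι k = K.toMat) (w : List ℕ) :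
    ι (ev (gen3 k) w) = (evN (g3N K) w).toMat :=
  ι_ev ι (gen3 k) (g3N K) (ι_gen3 k K h) (red_g3N K hK) w

/-- relation words in the three generators, with exponents -/
def rels : List (List ℕ × ℕ) := [([1, 2, 2], 2), ([2], 5), ([0, 0, 2, 2, 1], 3)]

/-- the packed matrix `K` satisfies the relations together with `Xh` and `Nh` -/
def relOK (K : M7) : Bool := rels.all (fun r => M7.beq ((evN (g3N K) r.1).pow r.2) M7.one)

theorem relOK_of (k : ↥Cfsg.Spor.J1) (K : M7) (hK : K.IsRed) (h : ι k = K.toMat)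
    (hr : ∀ r ∈ rels, ev (gen3 k) r.1 ^ r.2 = 1) : relOK K = true := by
  unfold relOK
  rw [List.all_eq_true]
  intro r hr'
  have h1 := hr r hr'
  have h2 : ι (ev (gen3 k) r.1 ^ r.2) = ((evN (g3N K) r.1).pow r.2).toMat := by
    rw [map_pow, ι_ev3 k K hK h, M7.toMat_pow _ (isRed_evN _ _)]
  rw [h1, map_one, ← M7.toMat_one] at h2
  have h3 := M7.toMat_inj M7.isRed_one (M7.isRed_pow _ _) h2
  rw [← h3]
  exact M7.beq_self _

theorem relKh : relOK Kh = true := by decide +kernel

theorem rel_kE : ∀ r ∈ rels, ev (gen3 kE) r.1 ^ r.2 = 1 := by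
  intro r hr
  have hall := relKh
  unfold relOK at hall
  exact pow_eq_one_of ι ι_inj _ (evN (g3N Kh) r.1) (isRed_evN _ _) (ι_ev3 kE Kh redKh ι_kE r.1) r.2
    (List.all_eq_true.mp hall r hr)

theorem map_ev3 (β : MulAut ↥Cfsg.Spor.J1) (hx : β gX = gX) (hn : β nE = nE) (k : ↥Cfsg.Spor.J1)
    (w : List ℕ) : β (ev (gen3 k) w) = ev (gen3 (β k)) w := by
  induction w with
  | nil => simp [ev]
  | cons i w ih =>
    have e1 : ∀ k' : ↥Cfsg.Spor.J1, ev (gen3 k') (i :: w) = gen3 k' i * ev (gen3 k') w := by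
      intro k'
      simp [ev]
    have e2 : β (gen3 k i) = gen3 (β k) i := by
      unfold gen3
      split_ifs
      · exact hx
      · exact hn
      · rfl
    rw [e1, e1, map_mul, ih, e2]

/-- among the conjugates of the 120 elements of the centraliser, only `Kh` satisfies the
relations -/
theorem uniq : Al.all (fun a => !(relOK (Ui.mul (a.mul Uh))) || M7.beq (Ui.mul (a.mul Uh)) Kh) = true := by
  decide +kernel

theorem fix_k (β : MulAut ↥Cfsg.Spor.J1) (hx : β gX = gX) (hn : β nE = nE) : β kE = kE := by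
  have hc : β kE * nE ^ 3 = nE ^ 3 * β kE := by
    have h := congrArg β k_comm
    rwa [map_mul, map_mul, map_pow, hn] at h
  have hmem : uE * β kE * uE⁻¹ ∈ A := by
    rw [A_eq, Subgroup.mem_centralizer_iff]
    intro t ht
    rw [Set.mem_singleton_iff] at ht
    rw [ht, ← conj_t]
    have e1 : uE * nE ^ 3 * uE⁻¹ * (uE * β kE * uE⁻¹) = uE * (nE ^ 3 * β kE) * uE⁻¹ := by group
    have e2 : uE * β kE * uE⁻¹ * (uE * nE ^ 3 * uE⁻¹) = uE * (β kE * nE ^ 3) * uE⁻¹ := by group
    rw [e1, e2, hc]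
  obtain ⟨a, ha, hι⟩ := A_sub _ hmem
  have hred : a.IsRed := isRed_of_allRed redA ha
  have hk : ι (β kE) = (Ui.mul (a.mul Uh)).toMat := by
    have e3 : β kE = uE⁻¹ * (uE * β kE * uE⁻¹ * uE) := by group
    rw [M7.toMat_mul _ _ redUi, M7.toMat_mul _ _ hred, ← hι, ← ι_uE, ← ι_uE_inv, ← map_mul,
      ← map_mul, ← e3]
  have hrel : relOK (Ui.mul (a.mul Uh)) = true := by
    apply relOK_of (β kE) _ (M7.isRed_mul _ _) hk
    intro r hr
    rw [← map_ev3 β hx hn, ← map_pow, rel_kE r hr, map_one]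
  have hu := List.all_eq_true.mp uniq a ha
  rw [hrel] at hu
  have hu' : M7.beq (Ui.mul (a.mul Uh)) Kh = true := by simpa using hu
  apply ι_inj
  rw [hk, ι_kE, M7.eq_of_beq hu']

/-! ### Generation and the conclusion -/

/-- a word for the second generator in `x`, `n`, `k` -/
def wY : List ℕ := [0, 1, 0, 0, 2, 2, 0, 0, 2, 2, 0, 0, 2]

theorem gY_eq : ev (gen3 kE) wY = gY := by
  have h : M7.beq (evN (g3N Kh) wY) Yh = true := by decide +kernel
  apply ι_inj
  rw [ι_ev3 kE Kh redKh ι_kE, ι_gY, M7.eq_of_beq h]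

theorem fix_gY (β : MulAut ↥Cfsg.Spor.J1) (hx : β gX = gX) (hn : β nE = nE) : β gY = gY := by
  rw [← gY_eq, map_ev3 β hx hn, fix_k β hx hn]

theorem closure_gens : Subgroup.closure ({gX, gY} : Set ↥Cfsg.Spor.J1) = ⊤ := by
  have h : Subgroup.closure (((↑) : ↥Cfsg.Spor.J1 → GL (Fin 7) (ZMod 11)) ⁻¹'
      ({Cfsg.Spor.jankoX, Cfsg.Spor.jankoY} : Set (GL (Fin 7) (ZMod 11)))) = ⊤ :=
    Subgroup.closure_closure_coe_preimage
      (k := ({Cfsg.Spor.jankoX, Cfsg.Spor.jankoY} : Set (GL (Fin 7) (ZMod 11))))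
  have hset : (((↑) : ↥Cfsg.Spor.J1 → GL (Fin 7) (ZMod 11)) ⁻¹'
      ({Cfsg.Spor.jankoX, Cfsg.Spor.jankoY} : Set (GL (Fin 7) (ZMod 11)))) =
      ({gX, gY} : Set ↥Cfsg.Spor.J1) := by
    ext ⟨w, hw⟩
    constructor
    · rintro (h1 | h1)
      · left
        exact Subtype.ext h1
      · right
        exact Subtype.ext h1
    · rintro (h1 | h1)
      · left
        exact congrArg Subtype.val h1
      · right
        exact congrArg Subtype.val h1
  rw [hset] at h
  exact h

theorem eq_one_of_fix (β : MulAut ↥Cfsg.Spor.J1) (hx : β gX = gX) (hy : β gY = gY) : β = 1 := by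
  have h : β.toMonoidHom = MonoidHom.id _ := by
    apply MonoidHom.eq_of_eqOn_dense closure_gens
    intro z hz
    rcases hz with rfl | rfl
    · exact hx
    · exact hy
  apply MulEquiv.ext
  intro z
  exact DFunLike.congr_fun h z

/-- Every automorphism of `J1` is inner. -/
theorem aut_inner (α : MulAut ↥Cfsg.Spor.J1) : ∃ g : ↥Cfsg.Spor.J1, α = MulAut.conj g := by
  obtain ⟨c, hx, hn⟩ := fix_all α
  have h1 : MulAut.conj c * α = 1 := eq_one_of_fix _ hx (fix_gY _ hx hn)
  refine ⟨c⁻¹, ?_⟩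
  rw [map_inv]
  exact eq_inv_of_mul_eq_one_right h1

end Cfsg.Agent.Lib.Helper66.J1Out
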