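import Cfsg.Agent.Lib.Helper86.TabMathieu
import Cfsg.Agent.Lib.Helper66.M23ExtData

set_option autoImplicit false

/-!
# A group of signed permutations of the octads avoiding the extra point

The group `Esub` consists of the pairs `(g, F)` with `g` in `M23` and `F` a permutation of the
signed octads (octads avoiding the extra point, with a sign in `ZMod 2`) that covers the
action of `g` on octads, commutes with the change of sign, and preserves a ternary relation
`good` given by a table of signs.  The projection `pr` to `M23` has as kernel the sign changes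
`Fw w` attached to the binary words `w`.
-/

namespace Cfsg.Agent.Lib.Helper66.M23Ext

open Cfsg Cfsg.Spor Cfsg.Agent.Lib.Helper7.GolayBase Cfsg.Agent.Lib.Helper7.GolayCode
  Cfsg.Agent.Lib.Helper7.GolayPerm Cfsg.Agent.Lib.Helper7.ChainGen
  Cfsg.Agent.Lib.Helper86.TabGrp Cfsg.Agent.Lib.Helper86.TabMathieu
  Cfsg.Agent.Lib.Helper66.M23ExtData

/-- The octads avoiding the extra point, as masks. -/
abbrev OctT : Type := {m : Nat // m ∈ oct}

/-- The signed octads. -/
abbrev X : Type := OctT × ZMod 2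

/-- A bit as an element of `ZMod 2`. -/
def b2z (b : Bool) : ZMod 2 := if b then 1 else 0

/-- The sign table. -/
@[irreducible] def tau (a b : Nat) : Bool := parT.testBit (((thetaT >>> (11 * (a % 2048))) % 2048) &&& b)

/-- The ternary relation on signed octads. -/
def good (x y z : X) : Prop :=
  x.1.1 ^^^ y.1.1 = z.1.1 ∧ x.2 + y.2 + z.2 = b2z (tau x.1.1 y.1.1)

/-- `g` maps the set of the mask `c` onto the set of the mask `c'`. -/
def Maps (g : Equiv.Perm GolayPt) (c c' : Nat) : Prop :=
  ∀ p : GolayPt, c'.testBit (idx (g p)) = c.testBit (idx p)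

/-- The change of sign. -/
def flip (x : X) : X := (x.1, x.2 + 1)

/-- The group of signed permutations. -/
def Esub : Subgroup (Equiv.Perm GolayPt × Equiv.Perm X) where
  carrier := {u | u.1 ∈ M23 ∧ (∀ x, Maps u.1 x.1.1 (u.2 x).1.1) ∧
    (∀ x, u.2 (flip x) = flip (u.2 x)) ∧ ∀ x y z, good x y z ↔ good (u.2 x) (u.2 y) (u.2 z)}
  one_mem' := ⟨M23.one_mem, fun _ _ => rfl, fun _ => rfl, fun _ _ _ => Iff.rfl⟩
  mul_mem' := by
    rintro u v ⟨hu1, hu2, hu3, hu4⟩ ⟨hv1, hv2, hv3, hv4⟩
    refine ⟨M23.mul_mem hu1 hv1, ?_, ?_, ?_⟩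
    · intro x p
      show ((u.2 (v.2 x)).1.1).testBit (idx (u.1 (v.1 p))) = _
      rw [hu2 (v.2 x) (v.1 p), hv2 x p]
    · intro x
      show u.2 (v.2 (flip x)) = flip (u.2 (v.2 x))
      rw [hv3, hu3]
    · intro x y z
      exact (hv4 x y z).trans (hu4 _ _ _)
  inv_mem' := by
    rintro u ⟨hu1, hu2, hu3, hu4⟩
    refine ⟨M23.inv_mem hu1, ?_, ?_, ?_⟩
    · intro x p
      have h := hu2 (u.2.symm x) (u.1.symm p)
      rw [Equiv.apply_symm_apply, Equiv.apply_symm_apply] at h
      exact h.symm
    · intro x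
      apply u.2.injective
      show u.2 (u.2.symm (flip x)) = u.2 (flip (u.2.symm x))
      rw [hu3, Equiv.apply_symm_apply, Equiv.apply_symm_apply]
    · intro x y z
      have h := hu4 (u.2.symm x) (u.2.symm y) (u.2.symm z)
      rw [Equiv.apply_symm_apply, Equiv.apply_symm_apply, Equiv.apply_symm_apply] at h
      exact h.symm

theorem mem_Esub {u : Equiv.Perm GolayPt × Equiv.Perm X} :
    u ∈ Esub ↔ u.1 ∈ M23 ∧ (∀ x, Maps u.1 x.1.1 (u.2 x).1.1) ∧
      (∀ x, u.2 (flip x) = flip (u.2 x)) ∧ ∀ x y z, good x y z ↔ good (u.2 x) (u.2 y) (u.2 z) :=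
  Iff.rfl

instance : Finite ↥Esub := inferInstance

/-- The projection to `M23`. -/
def pr : ↥Esub →* ↥M23 where
  toFun u := ⟨u.1.1, u.2.1⟩
  map_one' := rfl
  map_mul' _ _ := rfl

theorem pr_coe (u : ↥Esub) : ((pr u : ↥M23) : Equiv.Perm GolayPt) = u.1.1 := rfl

/-! ### The pairing of a word with a mask -/

/-- The sum of the values of `w` on the set of the mask `m`. -/
@[irreducible] def pairing (w : GolayPt → ZMod 2) (m : Nat) : ZMod 2 :=
  ∑ p : GolayPt, if m.testBit (idx p) = true then w p else 0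

theorem pairing_def (w : GolayPt → ZMod 2) (m : Nat) :
    pairing w m = ∑ p : GolayPt, if m.testBit (idx p) = true then w p else 0 := by
  unfold pairing
  rfl

theorem pairing_xor (w : GolayPt → ZMod 2) (a b : Nat) :
    pairing w (a ^^^ b) = pairing w a + pairing w b := by
  rw [pairing_def, pairing_def, pairing_def, ← Finset.sum_add_distrib]
  apply Finset.sum_congr rfl
  intro p _
  rw [Nat.testBit_xor]
  cases a.testBit (idx p) <;> cases b.testBit (idx p) <;> simp
  exact (CharTwo.add_self_eq_zero (w p)).symm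

theorem pairing_add (w w' : GolayPt → ZMod 2) (m : Nat) :
    pairing (w + w') m = pairing w m + pairing w' m := by
  rw [pairing_def, pairing_def, pairing_def, ← Finset.sum_add_distrib]
  apply Finset.sum_congr rfl
  intro p _
  by_cases h : m.testBit (idx p) = true <;> simp [h]

theorem pairing_zero (m : Nat) : pairing 0 m = 0 := by
  rw [pairing_def]
  simp

theorem pairing_mask_zero (w : GolayPt → ZMod 2) : pairing w 0 = 0 := by
  rw [pairing_def]
  simp

theorem pairing_comp (g : Equiv.Perm GolayPt) (w : GolayPt → ZMod 2) {c c' : Nat}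
    (h : Maps g c c') : pairing (w ∘ ⇑g⁻¹) c' = pairing w c := by
  rw [pairing_def, pairing_def, ← Equiv.sum_comp g]
  apply Finset.sum_congr rfl
  intro q _
  rw [h q]
  simp

theorem pairing_wd (W m : Nat) : pairing (wd W) m = ((popc (W &&& m) : ℕ) : ZMod 2) := by
  rw [← card_mk, pairing_def]
  unfold wd mk
  rw [Finset.card_filter]
  push_cast
  apply Finset.sum_congr rfl
  intro p _
  rw [Nat.testBit_and]
  cases W.testBit (idx p) <;> cases m.testBit (idx p) <;> simp

theorem pairing_wd_eq_zero {W m : Nat} (h : popc (W &&& m) % 2 = 0) : pairing (wd W) m = 0 := by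
  rw [pairing_wd, ZMod.natCast_eq_zero_iff]
  exact Nat.dvd_of_mod_eq_zero h

theorem popc_of_pairing_wd {W m : Nat} (h : pairing (wd W) m = 0) : popc (W &&& m) % 2 = 0 := by
  rw [pairing_wd, ZMod.natCast_eq_zero_iff] at h
  exact Nat.mod_eq_zero_of_dvd h

/-! ### The sign changes -/

/-- The sign change attached to a word. -/
def fwFun (w : GolayPt → ZMod 2) (x : X) : X := (x.1, x.2 + pairing w x.1.1)

theorem fwFun_fst (w : GolayPt → ZMod 2) (x : X) : (fwFun w x).1 = x.1 := rfl

theorem fwFun_snd (w : GolayPt → ZMod 2) (x : X) : (fwFun w x).2 = x.2 + pairing w x.1.1 := rfl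

theorem fwFun_invol (w : GolayPt → ZMod 2) : Function.Involutive (fwFun w) := by
  intro x
  apply Prod.ext
  · rfl
  · rw [fwFun_snd, fwFun_snd, fwFun_fst, add_assoc, CharTwo.add_self_eq_zero, add_zero]

/-- The sign change attached to a word, as a permutation. -/
def Fw (w : GolayPt → ZMod 2) : Equiv.Perm X := (fwFun_invol w).toPerm

theorem Fw_apply (w : GolayPt → ZMod 2) (x : X) : Fw w x = fwFun w x := rfl

theorem Fw_fst (w : GolayPt → ZMod 2) (x : X) : (Fw w x).1 = x.1 := rfl

theorem Fw_snd (w : GolayPt → ZMod 2) (x : X) : (Fw w x).2 = x.2 + pairing w x.1.1 := rfl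

theorem flip_fst (x : X) : (flip x).1 = x.1 := rfl

theorem flip_snd (x : X) : (flip x).2 = x.2 + 1 := rfl

theorem z_good : ∀ s1 s2 s3 p1 p2 t : ZMod 2,
    (s1 + s2 + s3 = t ↔ (s1 + p1) + (s2 + p2) + (s3 + (p1 + p2)) = t) := by decide +kernel

theorem one_Fw_mem (w : GolayPt → ZMod 2) : ((1 : Equiv.Perm GolayPt), Fw w) ∈ Esub := by
  refine ⟨M23.one_mem, fun _ _ => rfl, ?_, ?_⟩
  · intro x
    apply Prod.ext
    · rfl
    · rw [Fw_snd, flip_snd, flip_snd, Fw_snd, flip_fst, add_right_comm]
  · intro x y z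
    unfold good
    rw [Fw_fst, Fw_fst, Fw_fst, Fw_snd, Fw_snd, Fw_snd]
    constructor
    · rintro ⟨h1, h2⟩
      refine ⟨h1, ?_⟩
      rw [← h1, pairing_xor]
      exact (z_good _ _ _ _ _ _).mp h2
    · rintro ⟨h1, h2⟩
      refine ⟨h1, ?_⟩
      rw [← h1, pairing_xor] at h2
      exact (z_good _ _ _ _ _ _).mpr h2

theorem Fw_add (w w' : GolayPt → ZMod 2) : Fw (w + w') = Fw w * Fw w' := by
  apply Equiv.ext
  intro x
  rw [Equiv.Perm.mul_apply]
  apply Prod.ext
  · rfl
  · rw [Fw_snd, Fw_snd, Fw_snd, Fw_fst, pairing_add]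
    abel

theorem Fw_zero : Fw 0 = 1 := by
  apply Equiv.ext
  intro x
  apply Prod.ext
  · rfl
  · rw [Fw_snd, pairing_zero, add_zero]
    rfl

/-- The element of the kernel attached to a word. -/
def thetaElt (w : GolayPt → ZMod 2) : ↥(pr.ker) :=
  ⟨⟨(1, Fw w), one_Fw_mem w⟩, by rw [MonoidHom.mem_ker]; exact Subtype.ext rfl⟩

theorem thetaElt_coe (w : GolayPt → ZMod 2) :
    (((thetaElt w : ↥(pr.ker)) : ↥Esub) : Equiv.Perm GolayPt × Equiv.Perm X) = (1, Fw w) := rfl

theorem thetaElt_zero : thetaElt 0 = 1 := by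
  apply Subtype.ext
  apply Subtype.ext
  exact Prod.ext rfl Fw_zero

theorem thetaElt_add (w w' : GolayPt → ZMod 2) :
    thetaElt (w + w') = thetaElt w * thetaElt w' := by
  apply Subtype.ext
  apply Subtype.ext
  exact Prod.ext (one_mul 1).symm (Fw_add w w')

/-- The homomorphism from the words to the kernel of the projection. -/
def thetaHom : (GolayPt → ZMod 2) →+ Additive ↥(pr.ker) where
  toFun w := Additive.ofMul (thetaElt w)
  map_zero' := by rw [thetaElt_zero]; rfl
  map_add' w w' := by rw [thetaElt_add]; rfl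

theorem thetaHom_apply (w : GolayPt → ZMod 2) : thetaHom w = Additive.ofMul (thetaElt w) := rfl

theorem thetaElt_eq_one_iff (w : GolayPt → ZMod 2) :
    thetaElt w = 1 ↔ ∀ m ∈ oct, pairing w m = 0 := by
  constructor
  · intro h m hm
    have h1 : (((thetaElt w : ↥(pr.ker)) : ↥Esub) : Equiv.Perm GolayPt × Equiv.Perm X) = 1 := by
      rw [h]; rfl
    rw [thetaElt_coe] at h1
    have h2 : Fw w = 1 := congrArg Prod.snd h1
    have h3 : (Fw w ((⟨m, hm⟩ : OctT), (0 : ZMod 2))).2 = 0 := by rw [h2]; rfl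
    rw [Fw_snd, zero_add] at h3
    exact h3
  · intro h
    have h2 : Fw w = 1 := by
      apply Equiv.ext
      intro x
      apply Prod.ext
      · rfl
      · rw [Fw_snd, h _ x.1.2, add_zero]
        rfl
    apply Subtype.ext
    apply Subtype.ext
    exact Prod.ext rfl h2

/-! ### The kernel of the pairing with the octads -/

theorem oct_lt : ∀ m ∈ oct, m < 2 ^ 24 := by decide +kernel

theorem zero_not_mem_oct : (0 : Nat) ∉ oct := by decide +kernel

theorem bas_sub : ∀ m ∈ bas, m ∈ oct := by decide +kernel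

/-- The words orthogonal to all octads avoiding the extra point. -/
def Qm (W : Nat) : Prop := ∀ m ∈ oct, pairing (wd W) m = 0

theorem Qm_xor {a b : Nat} (ha : Qm a) (hb : Qm b) : Qm (a ^^^ b) := by
  intro m hm
  rw [wd_xor, pairing_add, ha m hm, hb m hm, add_zero]

theorem Qm_zero : Qm 0 := by
  intro m _
  rw [wd_zero, pairing_zero]

theorem basis_orth : ∀ b ∈ basisMasks, ∀ m ∈ oct, popc (b &&& m) % 2 = 0 := by decide +kernel

theorem inf_orth : ∀ m ∈ oct, popc (8388608 &&& m) % 2 = 0 := by decide +kernel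

theorem Qm_code : ∀ c ∈ codeList, Qm c := by
  apply spanList_induction (P := Qm) Qm_zero (fun a b ha hb => Qm_xor ha hb)
  intro b hb m hm
  exact pairing_wd_eq_zero (basis_orth b hb m hm)

theorem Qm_inf : Qm 8388608 := fun m hm => pairing_wd_eq_zero (inf_orth m hm)

theorem wd_inf : wd 8388608 = Pi.single (none : GolayPt) (1 : ZMod 2) := by
  have h : ∀ p : GolayPt, wd 8388608 p =
      (Pi.single (none : GolayPt) (1 : ZMod 2) : GolayPt → ZMod 2) p := by
    decide +kernel
  exact funext h

theorem wd_maskOf (w : GolayPt → ZMod 2) : wd (maskOf (support₂ w)) = w := by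
  funext p
  have hz : ∀ z : ZMod 2, (if decide (z ≠ 0) = true then (1 : ZMod 2) else 0) = z := by
    decide +kernel
  unfold wd
  rw [testBit_maskOf]
  simp only [idx_lt, pt_idx, decide_true, Bool.true_and, support₂, Finset.mem_filter,
    Finset.mem_univ, true_and]
  exact hz (w p)

/-- The code word with prescribed high bits. -/
def hiC : List Nat → Nat → Nat
  | [], _ => 0
  | g :: gs, h => (if h % 2 = 1 then g else 0) ^^^ hiC gs (h / 2)

theorem hiC_spec : ∀ h, h < 4096 → inCode (hiC hiG h) = true ∧ hiC hiG h / 4096 = h := by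
  have key : (List.range 4096).all
      (fun h => inCode (hiC hiG h) && (hiC hiG h / 4096 == h)) = true := by decide +kernel
  intro h hh
  have := List.all_eq_true.mp key h (List.mem_range.mpr hh)
  simpa using this

theorem low_spec : ∀ r, r < 4096 → (∀ m ∈ bas, popc (r &&& m) % 2 = 0) → r = 0 ∨ r = e0 := by
  have key : (List.range 4096).all
      (fun r => !(bas.all (fun m => popc (r &&& m) % 2 == 0)) || r == 0 || r == e0) = true := by
    decide +kernel
  intro r hr hb
  have h1 := List.all_eq_true.mp key r (List.mem_range.mpr hr)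
  have h2 : bas.all (fun m => popc (r &&& m) % 2 == 0) = true := by
    rw [List.all_eq_true]
    intro m hm
    simpa using hb m hm
  rw [h2] at h1
  simpa using h1

theorem e0_mem : e0 ^^^ 8388608 ∈ codeList := inCode_sound (by decide +kernel)

theorem ker_iff (w : GolayPt → ZMod 2) :
    (∀ m ∈ oct, pairing w m = 0) ↔
      (w ∈ golayCode ∨ w + Pi.single (none : GolayPt) (1 : ZMod 2) ∈ golayCode) := by
  constructor
  · intro hw
    set W := maskOf (support₂ w) with hWdef
    have hW : wd W = w := wd_maskOf w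
    have hWlt : W < 2 ^ 24 := maskOf_lt _
    have hQ : Qm W := by
      intro m hm
      rw [hW]
      exact hw m hm
    have hh : W / 4096 < 4096 := by
      rw [Nat.div_lt_iff_lt_mul (by norm_num)]
      exact hWlt
    obtain ⟨hc1, hc2⟩ := hiC_spec (W / 4096) hh
    set c := hiC hiG (W / 4096) with hcdef
    have hcm : c ∈ codeList := inCode_sound hc1
    have hr : (W ^^^ c) / 4096 = 0 := by
      have := @Nat.xor_div_two_pow W c 12
      norm_num at this
      rw [this, hc2, Nat.xor_self]
    have hrlt : W ^^^ c < 4096 := by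
      rcases Nat.div_eq_zero_iff.mp hr with h | h
      · norm_num at h
      · exact h
    have hQr : Qm (W ^^^ c) := Qm_xor hQ (Qm_code c hcm)
    have hlow := low_spec (W ^^^ c) hrlt
      (fun m hm => popc_of_pairing_wd (hQr m (bas_sub m hm)))
    rcases hlow with h0 | h0
    · left
      have : W = c := Nat.xor_eq_zero_iff.mp h0
      rw [← hW, this]
      exact wd_mem_golayCode c hcm
    · right
      have h1 : W ^^^ 8388608 = c ^^^ (e0 ^^^ 8388608) := by
        rw [← h0]
        apply Nat.eq_of_testBit_eq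
        intro i
        simp only [Nat.testBit_xor]
        cases W.testBit i <;> cases c.testBit i <;> cases (8388608 : Nat).testBit i <;> rfl
      rw [← hW, ← wd_inf, ← wd_xor, h1]
      exact wd_mem_golayCode _ (xor_mem_codeList hcm e0_mem)
  · rintro (h | h)
    · obtain ⟨c, hc, rfl⟩ := (mem_golayCode_iff w).mp h
      exact Qm_code c hc
    · obtain ⟨c, hc, hcw⟩ := (mem_golayCode_iff _).mp h
      have hw : w = wd (c ^^^ 8388608) := by
        rw [wd_xor, hcw, wd_inf, add_assoc, CharTwo.add_self_eq_zero, add_zero]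
      rw [hw]
      exact Qm_xor (Qm_code c hc) Qm_inf

/-! ### Sign functions additive on the relation come from words -/

/-- Checking a derivation of all octads from a list of known ones. -/
def derivOK : List Nat → List (Nat × Nat) → Bool
  | known, [] => oct.all (fun m => known.contains m)
  | known, (a, b) :: rest =>
      known.contains a && known.contains b && oct.contains (a ^^^ b) &&
        derivOK ((a ^^^ b) :: known) rest

theorem deriv_sound (ε : Nat → ZMod 2)
    (hadd : ∀ a ∈ oct, ∀ b ∈ oct, a ^^^ b ∈ oct → ε a + ε b + ε (a ^^^ b) = 0) :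
    ∀ (D : List (Nat × Nat)) (known : List Nat), (∀ m ∈ known, m ∈ oct ∧ ε m = 0) →
      derivOK known D = true → ∀ m ∈ oct, ε m = 0 := by
  intro D
  induction D with
  | nil =>
    intro known hk h m hm
    simp only [derivOK, List.all_eq_true, List.contains_eq_mem, decide_eq_true_eq] at h
    exact (hk m (h m hm)).2
  | cons ab D ih =>
    intro known hk h m hm
    obtain ⟨a, b⟩ := ab
    simp only [derivOK, Bool.and_eq_true, List.contains_eq_mem, decide_eq_true_eq] at h
    obtain ⟨⟨⟨ha, hb⟩, hab⟩, hrest⟩ := h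
    apply ih ((a ^^^ b) :: known) _ hrest m hm
    intro m' hm'
    rcases List.mem_cons.mp hm' with rfl | hm'
    · refine ⟨hab, ?_⟩
      have := hadd a (hk a ha).1 b (hk b hb).1 hab
      rw [(hk a ha).2, (hk b hb).2, zero_add, zero_add] at this
      exact this
    · exact hk m' hm'

theorem bsel_spec : ∀ o ∈ bas, ∃ q, q < 24 ∧ (o.testBit q = true ∧ bselL.getD q 0 = o ∧
    ∀ i, i < 24 → o.testBit i = true → i ≠ q → bselL.getD i 0 = 0) := by decide +kernel

theorem z_two : ∀ s : ZMod 2, s = 0 ∨ s = 1 := by decide +kernel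

theorem z_add1 : ∀ ea eb ec t : ZMod 2, (0 + ea) + (0 + eb) + (t + ec) = t → ea + eb + ec = 0 := by
  decide +kernel

theorem z_add2 : ∀ ea eb ec pa pb : ZMod 2, ea + eb + ec = 0 →
    (ea + pa) + (eb + pb) + (ec + (pa + pb)) = 0 := by decide +kernel

/-- Every element of the kernel of the projection is a sign change attached to a word,
provided the derivation table is valid. -/
theorem exists_word (hD : derivOK bas dvn = true) (u : ↥Esub) (hu : u ∈ pr.ker) :
    ∃ w, (u : Equiv.Perm GolayPt × Equiv.Perm X) = (1, Fw w) := by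
  obtain ⟨⟨g, F⟩, hE⟩ := u
  have hg : g = 1 := congrArg Subtype.val (MonoidHom.mem_ker.mp hu)
  subst hg
  obtain ⟨-, h2, h3, h4⟩ := hE
  have hA : ∀ x : X, (F x).1 = x.1 := by
    intro x
    apply Subtype.ext
    apply Nat.eq_of_testBit_eq
    intro j
    by_cases hj : j < 24
    · have := h2 x (pt j)
      rw [Equiv.Perm.one_apply, idx_pt hj] at this
      exact this
    · have h24 : (2 : Nat) ^ 24 ≤ 2 ^ j := Nat.pow_le_pow_right (by norm_num) (by omega)
      rw [Nat.testBit_lt_two_pow (lt_of_lt_of_le (oct_lt _ (F x).1.2) h24),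
        Nat.testBit_lt_two_pow (lt_of_lt_of_le (oct_lt _ x.1.2) h24)]
  let ε : Nat → ZMod 2 := fun m => if h : m ∈ oct then (F ((⟨m, h⟩ : OctT), (0 : ZMod 2))).2 else 0
  have hε0 : ε 0 = 0 := dif_neg zero_not_mem_oct
  have hB : ∀ x : X, (F x).2 = x.2 + ε x.1.1 := by
    rintro ⟨⟨m, hm⟩, s⟩
    have hεm : ε m = (F ((⟨m, hm⟩ : OctT), (0 : ZMod 2))).2 := dif_pos hm
    rcases z_two s with rfl | rfl
    · show (F ((⟨m, hm⟩ : OctT), (0 : ZMod 2))).2 = 0 + ε m
      rw [zero_add, hεm]
    · have hfl : (((⟨m, hm⟩ : OctT), (1 : ZMod 2)) : X) = flip ((⟨m, hm⟩ : OctT), (0 : ZMod 2)) :=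
        Prod.ext rfl (zero_add 1).symm
      show (F ((⟨m, hm⟩ : OctT), (1 : ZMod 2))).2 = 1 + ε m
      rw [hfl, h3, flip_snd, hεm, add_comm]
  have hadd : ∀ a ∈ oct, ∀ b ∈ oct, a ^^^ b ∈ oct → ε a + ε b + ε (a ^^^ b) = 0 := by
    intro a ha b hb hab
    have hgood : good ((⟨a, ha⟩ : OctT), (0 : ZMod 2)) ((⟨b, hb⟩ : OctT), (0 : ZMod 2))
        ((⟨a ^^^ b, hab⟩ : OctT), b2z (tau a b)) := ⟨rfl, by
          show (0 : ZMod 2) + 0 + b2z (tau a b) = b2z (tau a b)
          rw [add_zero, zero_add]⟩
    have h5 := ((h4 _ _ _).mp hgood).2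
    rw [hB, hB, hB, hA, hA] at h5
    exact z_add1 _ _ _ _ h5
  let w : GolayPt → ZMod 2 := fun p => ε (bselL.getD (idx p) 0)
  have hwbas : ∀ o ∈ bas, pairing w o = ε o := by
    intro o ho
    obtain ⟨q, hq, hq1, hq2, hq3⟩ := bsel_spec o ho
    rw [pairing_def, Finset.sum_eq_single (pt q)]
    · rw [idx_pt hq, if_pos hq1]
      show ε (bselL.getD (idx (pt q)) 0) = ε o
      rw [idx_pt hq, hq2]
    · intro p _ hp
      by_cases hbit : o.testBit (idx p) = true
      · rw [if_pos hbit]
        have hne : idx p ≠ q := by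
          intro h
          apply hp
          rw [← h, pt_idx]
        show ε (bselL.getD (idx p) 0) = 0
        rw [hq3 (idx p) (idx_lt p) hbit hne, hε0]
      · rw [if_neg hbit]
    · intro h
      exact absurd (Finset.mem_univ _) h
  have hzero : ∀ m ∈ oct, ε m + pairing w m = 0 := by
    apply deriv_sound (fun m => ε m + pairing w m) _ dvn bas _ hD
    · intro a ha b hb hab
      show (ε a + pairing w a) + (ε b + pairing w b) + (ε (a ^^^ b) + pairing w (a ^^^ b)) = 0
      rw [pairing_xor]
      exact z_add2 _ _ _ _ _ (hadd a ha b hb hab)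
    · intro m hm
      refine ⟨bas_sub m hm, ?_⟩
      show ε m + pairing w m = 0
      rw [hwbas m hm, CharTwo.add_self_eq_zero]
  refine ⟨w, ?_⟩
  show ((1 : Equiv.Perm GolayPt), F) = (1, Fw w)
  refine Prod.ext rfl ?_
  show F = Fw w
  apply Equiv.ext
  intro x
  apply Prod.ext
  · rw [hA, Fw_fst]
  · rw [hB, Fw_snd, CharTwo.add_eq_zero.mp (hzero _ x.1.2)]

end Cfsg.Agent.Lib.Helper66.M23Ext
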