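import Cfsg.Agent.Lib.Helper66.M23Lifts
import Cfsg.Agent.Lib.Helper7.M24Core

set_option autoImplicit false

/-!
# The projection of the group of signed permutations onto `M23` is surjective

Two of the lifted permutations generate `M23` (by a stabiliser chain with explicit
transversals), hence every element of `M23` is covered by an element of `Esub`.
-/

namespace Cfsg.Agent.Lib.Helper66.M23Gen

open Cfsg Cfsg.Spor Cfsg.Agent.Lib.Helper7.GolayBase Cfsg.Agent.Lib.Helper7.GolayPerm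
  Cfsg.Agent.Lib.Helper7.ChainGen Cfsg.Agent.Lib.Helper7.M24Core
  Cfsg.Agent.Lib.Helper86.TabGrp Cfsg.Agent.Lib.Helper86.TabMathieu
  Cfsg.Agent.Lib.Helper66.M23Ext Cfsg.Agent.Lib.Helper66.M23Lift
  Cfsg.Agent.Lib.Helper66.M23Lifts

/-- The tables of the generators, their inverses and the identity. -/
def gT : List (List Nat) :=
  [M23ExtData.shT, M23ExtData.shIT, M23ExtData.aT, M23ExtData.aIT, idT]

/-- The subgroup generated by two of the lifted permutations. -/
def C : Subgroup (Equiv.Perm GolayPt) := Subgroup.closure {liftG okSh, liftG okA}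

theorem sh_mem : liftG okSh ∈ C := Subgroup.subset_closure (by simp)

theorem a_mem : liftG okA ∈ C := Subgroup.subset_closure (by simp)

theorem C_le_M23 : C ≤ M23 := by
  unfold C
  rw [Subgroup.closure_le]
  rintro g (rfl | rfl)
  · exact liftG_mem okSh
  · exact liftG_mem okA

theorem C_le : C ≤ M24 := C_le_M23.trans M23_le

theorem gT_rep : ∀ t ∈ gT, ∃ g ∈ C, Rep g t := by
  intro t ht
  simp only [gT, List.mem_cons, List.not_mem_nil, or_false] at ht
  rcases ht with rfl | rfl | rfl | rfl | rfl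
  · exact ⟨_, sh_mem, rep_liftG okSh⟩
  · exact ⟨_, C.inv_mem sh_mem, rep_liftG_inv okSh⟩
  · exact ⟨_, a_mem, rep_liftG okA⟩
  · exact ⟨_, C.inv_mem a_mem, rep_liftG_inv okA⟩
  · exact ⟨1, C.one_mem, rep_one⟩

theorem rows_ok : chk gT [] M23ExtData.rows = true := by decide +kernel

/-- The tables of the elements of the transversals. -/
def tbs : List (List Nat) := gT ++ M23ExtData.rows.map (fun r => r.2.2)

theorem tbs_rep : ∀ t ∈ tbs, ∃ g ∈ C, Rep g t := by
  intro t ht
  rcases List.mem_append.mp ht with h | h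
  · exact gT_rep t h
  · obtain ⟨r, hr, rfl⟩ := List.mem_map.mp h
    exact chk_sound C gT gT_rep M23ExtData.rows [] (by simp) rows_ok r hr

theorem wit_tbs {L : List Nat} {b : Nat} {T : List Nat} (hL : ∀ f ∈ L, f < 24) (hb : b < 24)
    (h : T.all (fun q => tbs.any (hit L b q)) = true) :
    ∀ q ∈ T, ∃ h ∈ C ⊓ FixL L, h (pt b) = pt q := by
  intro q hq
  obtain ⟨g, hgC, hgF, hgb⟩ := exists_of_any C tbs tbs_rep hL hb (List.all_eq_true.mp h q hq)
  exact ⟨g, ⟨hgC, hgF⟩, hgb⟩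

theorem w2 : ∀ q ∈ outside [23], ∃ h ∈ C ⊓ FixL [23], h (pt 0) = pt q :=
  wit_tbs (by decide) (by decide) (by decide +kernel)
theorem w3 : ∀ q ∈ outside [0, 23], ∃ h ∈ C ⊓ FixL [0, 23], h (pt 1) = pt q :=
  wit_tbs (by decide) (by decide) (by decide +kernel)
theorem w4 : ∀ q ∈ outside [1, 0, 23], ∃ h ∈ C ⊓ FixL [1, 0, 23], h (pt 2) = pt q :=
  wit_tbs (by decide) (by decide) (by decide +kernel)
theorem w5 : ∀ q ∈ outside [2, 1, 0, 23], ∃ h ∈ C ⊓ FixL [2, 1, 0, 23], h (pt 3) = pt q :=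
  wit_tbs (by decide) (by decide) (by decide +kernel)
theorem w6 : ∀ q ∈ T6, ∃ h ∈ C ⊓ FixL [3, 2, 1, 0, 23], h (pt 5) = pt q :=
  wit_tbs (by decide) (by decide) (by decide +kernel)
theorem w7 : ∀ q ∈ T7, ∃ h ∈ C ⊓ FixL [5, 3, 2, 1, 0, 23], h (pt 4) = pt q :=
  wit_tbs (by decide) (by decide) (by decide +kernel)

theorem M23_le_C : M23 ≤ C := by
  rw [M23_eq]
  have h7 : M24 ⊓ FixL [4, 5, 3, 2, 1, 0, 23] ≤ C := by rw [rigid7]; exact bot_le
  have h6 : M24 ⊓ FixL [5, 3, 2, 1, 0, 23] ≤ C :=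
    le_of_sift (fun g hg => hub7 hg) w7 C_le h7
  have h5 : M24 ⊓ FixL [3, 2, 1, 0, 23] ≤ C :=
    le_of_sift (fun g hg => hub6 hg) w6 C_le h6
  have h4 : M24 ⊓ FixL [2, 1, 0, 23] ≤ C :=
    le_of_sift (fun g hg => hub_gen hg.2 (by decide) (by decide)) w5 C_le h5
  have h3 : M24 ⊓ FixL [1, 0, 23] ≤ C :=
    le_of_sift (fun g hg => hub_gen hg.2 (by decide) (by decide)) w4 C_le h4
  have h2 : M24 ⊓ FixL [0, 23] ≤ C :=
    le_of_sift (fun g hg => hub_gen hg.2 (by decide) (by decide)) w3 C_le h3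
  exact le_of_sift (fun g hg => hub_gen hg.2 (by decide) (by decide)) w2 C_le h2

/-- Every element of `M23` is covered by an element of the group of signed permutations. -/
theorem pr_surjective : Function.Surjective pr := by
  have key : ∀ g ∈ C, ∃ u : ↥Esub, (u : Equiv.Perm GolayPt × Equiv.Perm X).1 = g := by
    intro g hg
    unfold C at hg
    induction hg using Subgroup.closure_induction with
    | mem x hx =>
      rcases hx with rfl | rfl
      · exact ⟨liftElt okSh, rfl⟩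
      · exact ⟨liftElt okA, rfl⟩
    | one => exact ⟨1, rfl⟩
    | mul x y _ _ hx hy =>
      obtain ⟨u, rfl⟩ := hx
      obtain ⟨v, rfl⟩ := hy
      exact ⟨u * v, rfl⟩
    | inv x _ hx =>
      obtain ⟨u, rfl⟩ := hx
      exact ⟨u⁻¹, rfl⟩
  intro g
  obtain ⟨u, hu⟩ := key g.1 (M23_le_C g.2)
  exact ⟨u, Subtype.ext hu⟩

end Cfsg.Agent.Lib.Helper66.M23Gen
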