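import Mathlib

set_option autoImplicit false

/-! Octads with their images under three permutations, as raw literals (generated). -/

namespace Cfsg.Agent.Lib.Helper66.M23LiftData

/-- Octads with their images. -/
def qSh : List (Nat × Nat) :=
  [
(nat_lit 5279, nat_lit 10558), (nat_lit 10558, nat_lit 21116), (nat_lit 15777, nat_lit 31554), (nat_lit 18147, nat_lit 36294),
   (nat_lit 21116, nat_lit 42232), (nat_lit 31554, nat_lit 63108), (nat_lit 36294, nat_lit 72588), (nat_lit 39257, nat_lit 78514),
   (nat_lit 42232, nat_lit 84464), (nat_lit 45159, nat_lit 90318), (nat_lit 52005, nat_lit 104010), (nat_lit 57883, nat_lit 115766),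
   (nat_lit 63108, nat_lit 126216), (nat_lit 69395, nat_lit 138790), (nat_lit 72588, nat_lit 145176), (nat_lit 75309, nat_lit 150618),
   (nat_lit 78514, nat_lit 157028), (nat_lit 84464, nat_lit 168928), (nat_lit 90318, nat_lit 180636), (nat_lit 95313, nat_lit 190626),
   (nat_lit 99029, nat_lit 198058), (nat_lit 104010, nat_lit 208020), (nat_lit 115766, nat_lit 231532), (nat_lit 118953, nat_lit 237906),
   (nat_lit 126216, nat_lit 252432), (nat_lit 133817, nat_lit 267634), (nat_lit 138790, nat_lit 277580), (nat_lit 140167, nat_lit 280334),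
   (nat_lit 145176, nat_lit 290352), (nat_lit 150618, nat_lit 301236), (nat_lit 153797, nat_lit 307594), (nat_lit 157028, nat_lit 314056),
   (nat_lit 168928, nat_lit 337856), (nat_lit 175681, nat_lit 351362), (nat_lit 180636, nat_lit 361272), (nat_lit 185603, nat_lit 371206),
   (nat_lit 190626, nat_lit 381252), (nat_lit 198058, nat_lit 396116), (nat_lit 201013, nat_lit 402026), (nat_lit 208020, nat_lit 416040),
   (nat_lit 210955, nat_lit 421910), (nat_lit 213833, nat_lit 427666), (nat_lit 231532, nat_lit 463064), (nat_lit 237906, nat_lit 475812),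
   (nat_lit 252432, nat_lit 504864), (nat_lit 262637, nat_lit 525274), (nat_lit 267634, nat_lit 535268), (nat_lit 272595, nat_lit 545190),
   (nat_lit 277580, nat_lit 555160), (nat_lit 280334, nat_lit 560668), (nat_lit 283537, nat_lit 567074), (nat_lit 290352, nat_lit 580704),
   (nat_lit 298027, nat_lit 596054), (nat_lit 301236, nat_lit 602472), (nat_lit 304405, nat_lit 608810), (nat_lit 307594, nat_lit 615188),
   (nat_lit 314056, nat_lit 628112), (nat_lit 334433, nat_lit 668866), (nat_lit 337856, nat_lit 675712), (nat_lit 346141, nat_lit 692282),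
   (nat_lit 351362, nat_lit 702724), (nat_lit 352547, nat_lit 705094), (nat_lit 361272, nat_lit 722544), (nat_lit 371206, nat_lit 742412),
   (nat_lit 381252, nat_lit 762504), (nat_lit 396116, nat_lit 792232), (nat_lit 402026, nat_lit 804052), (nat_lit 416040, nat_lit 832080),
   (nat_lit 418953, nat_lit 837906), (nat_lit 421910, nat_lit 843820), (nat_lit 427666, nat_lit 855332), (nat_lit 430605, nat_lit 861210),
   (nat_lit 442481, nat_lit 884962), (nat_lit 459847, nat_lit 919694), (nat_lit 463064, nat_lit 926128), (nat_lit 475812, nat_lit 951624),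
   (nat_lit 493953, nat_lit 987906), (nat_lit 504864, nat_lit 1009728), (nat_lit 525274, nat_lit 1050548), (nat_lit 530245, nat_lit 1060490),
   (nat_lit 535268, nat_lit 1070536), (nat_lit 542009, nat_lit 1084018), (nat_lit 545190, nat_lit 1090380), (nat_lit 551943, nat_lit 1103886),
   (nat_lit 555160, nat_lit 1110320), (nat_lit 560668, nat_lit 1121336), (nat_lit 563843, nat_lit 1127686), (nat_lit 567074, nat_lit 1134148),
   (nat_lit 580704, nat_lit 1161408), (nat_lit 582081, nat_lit 1164162), (nat_lit 593097, nat_lit 1186194), (nat_lit 596054, nat_lit 1192108),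
   (nat_lit 602472, nat_lit 1204944), (nat_lit 608810, nat_lit 1217620), (nat_lit 615188, nat_lit 1230376), (nat_lit 622863, nat_lit 1245726),
   (nat_lit 628112, nat_lit 1256224), (nat_lit 632881, nat_lit 1265762), (nat_lit 657763, nat_lit 1315526), (nat_lit 663645, nat_lit 1327290),
   (nat_lit 668866, nat_lit 1337732), (nat_lit 675712, nat_lit 1351424), (nat_lit 684577, nat_lit 1369154), (nat_lit 689317, nat_lit 1378634),
   (nat_lit 692282, nat_lit 1384564), (nat_lit 702724, nat_lit 1405448), (nat_lit 705094, nat_lit 1410188), (nat_lit 722544, nat_lit 1445088),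
   (nat_lit 737427, nat_lit 1474854), (nat_lit 742412, nat_lit 1484824), (nat_lit 762504, nat_lit 1525008), (nat_lit 786999, nat_lit 1573998),
   (nat_lit 792232, nat_lit 1584464), (nat_lit 797449, nat_lit 1594898), (nat_lit 804052, nat_lit 1608104), (nat_lit 806987, nat_lit 1613974),
   (nat_lit 832080, nat_lit 1664160), (nat_lit 837906, nat_lit 1675812), (nat_lit 843820, nat_lit 1687640), (nat_lit 855332, nat_lit 1710664),
   (nat_lit 861210, nat_lit 1722420), (nat_lit 864389, nat_lit 1728778), (nat_lit 884962, nat_lit 1769924), (nat_lit 902657, nat_lit 1805314),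
   (nat_lit 919694, nat_lit 1839388), (nat_lit 924689, nat_lit 1849378), (nat_lit 926128, nat_lit 1852256), (nat_lit 951624, nat_lit 1903248),
   (nat_lit 987906, nat_lit 1975812), (nat_lit 1009728, nat_lit 2019456), (nat_lit 1050548, nat_lit 2101096), (nat_lit 1053483, nat_lit 2106966),
   (nat_lit 1060490, nat_lit 2120980), (nat_lit 1063445, nat_lit 2126890), (nat_lit 1065303, nat_lit 2130606), (nat_lit 1070536, nat_lit 2141072),
   (nat_lit 1075305, nat_lit 2150610), (nat_lit 1084018, nat_lit 2168036), (nat_lit 1090380, nat_lit 2180760), (nat_lit 1100945, nat_lit 2201890),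
   (nat_lit 1103886, nat_lit 2207772), (nat_lit 1110320, nat_lit 2220640), (nat_lit 1116327, nat_lit 2232654), (nat_lit 1121336, nat_lit 2242672),
   (nat_lit 1122713, nat_lit 2245426), (nat_lit 1127686, nat_lit 2255372), (nat_lit 1134148, nat_lit 2268296), (nat_lit 1148257, nat_lit 2296514),
   (nat_lit 1161408, nat_lit 2322816), (nat_lit 1164162, nat_lit 2328324), (nat_lit 1182989, nat_lit 2365978), (nat_lit 1186194, nat_lit 2372388),
   (nat_lit 1188915, nat_lit 2377830), (nat_lit 1192108, nat_lit 2384216), (nat_lit 1204944, nat_lit 2409888), (nat_lit 1212619, nat_lit 2425238),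
   (nat_lit 1217620, nat_lit 2435240), (nat_lit 1230376, nat_lit 2460752), (nat_lit 1245726, nat_lit 2491452), (nat_lit 1250945, nat_lit 2501890),
   (nat_lit 1256224, nat_lit 2512448), (nat_lit 1265762, nat_lit 2531524), (nat_lit 1302533, nat_lit 2605066), (nat_lit 1312345, nat_lit 2624690),
   (nat_lit 1315526, nat_lit 2631052), (nat_lit 1327290, nat_lit 2654580), (nat_lit 1332261, nat_lit 2664522), (nat_lit 1337732, nat_lit 2675464),
   (nat_lit 1351424, nat_lit 2702848), (nat_lit 1352353, nat_lit 2704706), (nat_lit 1369154, nat_lit 2738308), (nat_lit 1378634, nat_lit 2757268),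
   (nat_lit 1384564, nat_lit 2769128), (nat_lit 1405448, nat_lit 2810896), (nat_lit 1410188, nat_lit 2820376), (nat_lit 1413139, nat_lit 2826278),
   (nat_lit 1445088, nat_lit 2890176), (nat_lit 1454401, nat_lit 2908802), (nat_lit 1460739, nat_lit 2921478), (nat_lit 1474854, nat_lit 2949708),
   (nat_lit 1484824, nat_lit 2969648), (nat_lit 1525008, nat_lit 3050016), (nat_lit 1573998, nat_lit 3147996), (nat_lit 1577201, nat_lit 3154402),
   (nat_lit 1584464, nat_lit 3168928), (nat_lit 1589901, nat_lit 3179802), (nat_lit 1594898, nat_lit 3189796), (nat_lit 1608104, nat_lit 3216208),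
   (nat_lit 1613974, nat_lit 3227948), (nat_lit 1618953, nat_lit 3237906), (nat_lit 1647171, nat_lit 3294342), (nat_lit 1661185, nat_lit 3322370),
   (nat_lit 1664160, nat_lit 3328320), (nat_lit 1675812, nat_lit 3351624), (nat_lit 1687640, nat_lit 3375280), (nat_lit 1710664, nat_lit 3421328),
   (nat_lit 1722420, nat_lit 3444840), (nat_lit 1728778, nat_lit 3457556), (nat_lit 1737489, nat_lit 3474978), (nat_lit 1769924, nat_lit 3539848),
   (nat_lit 1805314, nat_lit 3610628), (nat_lit 1836419, nat_lit 3672838), (nat_lit 1839388, nat_lit 3678776), (nat_lit 1849378, nat_lit 3698756),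
   (nat_lit 1852256, nat_lit 3704512), (nat_lit 1869893, nat_lit 3739786), (nat_lit 1903248, nat_lit 3806496), (nat_lit 1975812, nat_lit 3951624),
   (nat_lit 2019456, nat_lit 4038912), (nat_lit 2031657, nat_lit 4063314), (nat_lit 2101096, nat_lit 4202192), (nat_lit 2106966, nat_lit 4213932),
   (nat_lit 2110153, nat_lit 4220306), (nat_lit 2115979, nat_lit 4231958), (nat_lit 2120980, nat_lit 4241960), (nat_lit 2121909, nat_lit 4243818),
   (nat_lit 2126890, nat_lit 4253780), (nat_lit 2130606, nat_lit 4261212), (nat_lit 2135601, nat_lit 4271202), (nat_lit 2141072, nat_lit 4282144),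
   (nat_lit 2147405, nat_lit 4294810), (nat_lit 2150610, nat_lit 4301220), (nat_lit 2162811, nat_lit 4325622), (nat_lit 2168036, nat_lit 4336072),
   (nat_lit 2173253, nat_lit 4346506), (nat_lit 2180760, nat_lit 4361520), (nat_lit 2183687, nat_lit 4367374), (nat_lit 2201890, nat_lit 4403780),
   (nat_lit 2204803, nat_lit 4409606), (nat_lit 2207772, nat_lit 4415544), (nat_lit 2220640, nat_lit 4441280), (nat_lit 2229713, nat_lit 4459426),
   (nat_lit 2232654, nat_lit 4465308), (nat_lit 2242672, nat_lit 4485344), (nat_lit 2245426, nat_lit 4490852), (nat_lit 2255372, nat_lit 4510744),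
   (nat_lit 2263063, nat_lit 4526126), (nat_lit 2268296, nat_lit 4536592), (nat_lit 2269481, nat_lit 4538962), (nat_lit 2296514, nat_lit 4593028),
   (nat_lit 2313249, nat_lit 4626498), (nat_lit 2322816, nat_lit 4645632), (nat_lit 2328324, nat_lit 4656648), (nat_lit 2363013, nat_lit 4726026),
   (nat_lit 2365978, nat_lit 4731956), (nat_lit 2372388, nat_lit 4744776), (nat_lit 2377830, nat_lit 4755660), (nat_lit 2384216, nat_lit 4768432),
   (nat_lit 2392899, nat_lit 4785798), (nat_lit 2409888, nat_lit 4819776), (nat_lit 2422785, nat_lit 4845570), (nat_lit 2425238, nat_lit 4850476),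
   (nat_lit 2430217, nat_lit 4860434), (nat_lit 2435240, nat_lit 4870480), (nat_lit 2460752, nat_lit 4921504), (nat_lit 2491452, nat_lit 4982904),
   (nat_lit 2494627, nat_lit 4989254), (nat_lit 2501890, nat_lit 5003780), (nat_lit 2512448, nat_lit 5024896), (nat_lit 2531524, nat_lit 5063048),
   (nat_lit 2564625, nat_lit 5129250), (nat_lit 2605066, nat_lit 5210132), (nat_lit 2624690, nat_lit 5249380), (nat_lit 2627629, nat_lit 5255258),
   (nat_lit 2631052, nat_lit 5262104), (nat_lit 2634003, nat_lit 5268006), (nat_lit 2640465, nat_lit 5280930), (nat_lit 2654580, nat_lit 5309160),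
   (nat_lit 2664522, nat_lit 5329044), (nat_lit 2675464, nat_lit 5350928), (nat_lit 2687905, nat_lit 5375810), (nat_lit 2702848, nat_lit 5405696),
   (nat_lit 2704706, nat_lit 5409412), (nat_lit 2738308, nat_lit 5476616), (nat_lit 2754059, nat_lit 5508118), (nat_lit 2757268, nat_lit 5514536),
   (nat_lit 2769128, nat_lit 5538256), (nat_lit 2810896, nat_lit 5621792), (nat_lit 2820376, nat_lit 5640752), (nat_lit 2826278, nat_lit 5652556),
   (nat_lit 2854977, nat_lit 5709954), (nat_lit 2890176, nat_lit 5780352), (nat_lit 2892897, nat_lit 5785794), (nat_lit 2908802, nat_lit 5817604),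
   (nat_lit 2916505, nat_lit 5833010), (nat_lit 2921478, nat_lit 5842956), (nat_lit 2949708, nat_lit 5899416), (nat_lit 2969648, nat_lit 5939296),
   (nat_lit 3031301, nat_lit 6062602), (nat_lit 3050016, nat_lit 6100032), (nat_lit 3147996, nat_lit 6295992), (nat_lit 3152963, nat_lit 6305926),
   (nat_lit 3154402, nat_lit 6308804), (nat_lit 3168928, nat_lit 6337856), (nat_lit 3172097, nat_lit 6344194), (nat_lit 3179802, nat_lit 6359604),
   (nat_lit 3182981, nat_lit 6365962), (nat_lit 3189796, nat_lit 6379592), (nat_lit 3216208, nat_lit 6432416), (nat_lit 3227948, nat_lit 6455896),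
   (nat_lit 3237906, nat_lit 6475812), (nat_lit 3246601, nat_lit 6493202), (nat_lit 3277413, nat_lit 6554826), (nat_lit 3294342, nat_lit 6588684),
   (nat_lit 3297305, nat_lit 6594610), (nat_lit 3322370, nat_lit 6644740), (nat_lit 3328320, nat_lit 6656640), (nat_lit 3351624, nat_lit 6703248),
   (nat_lit 3375280, nat_lit 6750560), (nat_lit 3410225, nat_lit 6820450), (nat_lit 3416079, nat_lit 6832158), (nat_lit 3421328, nat_lit 6842656),
   (nat_lit 3444840, nat_lit 6889680), (nat_lit 3457556, nat_lit 6915112), (nat_lit 3474978, nat_lit 6949956), (nat_lit 3489985, nat_lit 6979970),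
   (nat_lit 3539848, nat_lit 7079696), (nat_lit 3610628, nat_lit 7221256), (nat_lit 3672838, nat_lit 7345676), (nat_lit 3678776, nat_lit 7357552),
   (nat_lit 3698756, nat_lit 7397512), (nat_lit 3704512, nat_lit 7409024), (nat_lit 3719203, nat_lit 7438406), (nat_lit 3736597, nat_lit 7473194),
   (nat_lit 3739786, nat_lit 7479572), (nat_lit 3806496, nat_lit 7612992), (nat_lit 3811457, nat_lit 7622914), (nat_lit 3951624, nat_lit 7903248),
   (nat_lit 4038912, nat_lit 8077824), (nat_lit 4063314, nat_lit 8126628), (nat_lit 4196943, nat_lit 5279), (nat_lit 4202192, nat_lit 15777),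
   (nat_lit 4203377, nat_lit 18147), (nat_lit 4213932, nat_lit 39257), (nat_lit 4216883, nat_lit 45159), (nat_lit 4220306, nat_lit 52005),
   (nat_lit 4223245, nat_lit 57883), (nat_lit 4229001, nat_lit 69395), (nat_lit 4231958, nat_lit 75309), (nat_lit 4241960, nat_lit 95313),
   (nat_lit 4243818, nat_lit 99029), (nat_lit 4253780, nat_lit 118953), (nat_lit 4261212, nat_lit 133817), (nat_lit 4264387, nat_lit 140167),
   (nat_lit 4271202, nat_lit 153797), (nat_lit 4282144, nat_lit 175681), (nat_lit 4287105, nat_lit 185603), (nat_lit 4294810, nat_lit 201013),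
   (nat_lit 4299781, nat_lit 210955), (nat_lit 4301220, nat_lit 213833), (nat_lit 4325622, nat_lit 262637), (nat_lit 4330601, nat_lit 272595),
   (nat_lit 4336072, nat_lit 283537), (nat_lit 4343317, nat_lit 298027), (nat_lit 4346506, nat_lit 304405), (nat_lit 4361520, nat_lit 334433),
   (nat_lit 4367374, nat_lit 346141), (nat_lit 4370577, nat_lit 352547), (nat_lit 4403780, nat_lit 418953), (nat_lit 4409606, nat_lit 430605),
   (nat_lit 4415544, nat_lit 442481), (nat_lit 4424227, nat_lit 459847), (nat_lit 4441280, nat_lit 493953), (nat_lit 4459426, nat_lit 530245),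
   (nat_lit 4465308, nat_lit 542009), (nat_lit 4470275, nat_lit 551943), (nat_lit 4476225, nat_lit 563843), (nat_lit 4485344, nat_lit 582081),
   (nat_lit 4490852, nat_lit 593097), (nat_lit 4505735, nat_lit 622863), (nat_lit 4510744, nat_lit 632881), (nat_lit 4523185, nat_lit 657763),
   (nat_lit 4526126, nat_lit 663645), (nat_lit 4536592, nat_lit 684577), (nat_lit 4538962, nat_lit 689317), (nat_lit 4563017, nat_lit 737427),
   (nat_lit 4587803, nat_lit 786999), (nat_lit 4593028, nat_lit 797449), (nat_lit 4597797, nat_lit 806987), (nat_lit 4626498, nat_lit 864389),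
   (nat_lit 4645632, nat_lit 902657), (nat_lit 4656648, nat_lit 924689), (nat_lit 4721045, nat_lit 1053483), (nat_lit 4726026, nat_lit 1063445),
   (nat_lit 4726955, nat_lit 1065303), (nat_lit 4731956, nat_lit 1075305), (nat_lit 4744776, nat_lit 1100945), (nat_lit 4752467, nat_lit 1116327),
   (nat_lit 4755660, nat_lit 1122713), (nat_lit 4768432, nat_lit 1148257), (nat_lit 4785798, nat_lit 1182989), (nat_lit 4788761, nat_lit 1188915),
   (nat_lit 4800613, nat_lit 1212619), (nat_lit 4819776, nat_lit 1250945), (nat_lit 4845570, nat_lit 1302533), (nat_lit 4850476, nat_lit 1312345),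
   (nat_lit 4860434, nat_lit 1332261), (nat_lit 4870480, nat_lit 1352353), (nat_lit 4900873, nat_lit 1413139), (nat_lit 4921504, nat_lit 1454401),
   (nat_lit 4924673, nat_lit 1460739), (nat_lit 4982904, nat_lit 1577201), (nat_lit 4989254, nat_lit 1589901), (nat_lit 5003780, nat_lit 1618953),
   (nat_lit 5017889, nat_lit 1647171), (nat_lit 5024896, nat_lit 1661185), (nat_lit 5063048, nat_lit 1737489), (nat_lit 5112513, nat_lit 1836419),
   (nat_lit 5129250, nat_lit 1869893), (nat_lit 5210132, nat_lit 2031657), (nat_lit 5249380, nat_lit 2110153), (nat_lit 5252293, nat_lit 2115979),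
   (nat_lit 5255258, nat_lit 2121909), (nat_lit 5262104, nat_lit 2135601), (nat_lit 5268006, nat_lit 2147405), (nat_lit 5275709, nat_lit 2162811),
   (nat_lit 5280930, nat_lit 2173253), (nat_lit 5286147, nat_lit 2183687), (nat_lit 5296705, nat_lit 2204803), (nat_lit 5309160, nat_lit 2229713),
   (nat_lit 5325835, nat_lit 2263063), (nat_lit 5329044, nat_lit 2269481), (nat_lit 5350928, nat_lit 2313249), (nat_lit 5375810, nat_lit 2363013),
   (nat_lit 5390753, nat_lit 2392899), (nat_lit 5405696, nat_lit 2422785), (nat_lit 5409412, nat_lit 2430217), (nat_lit 5441617, nat_lit 2494627),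
   (nat_lit 5476616, nat_lit 2564625), (nat_lit 5508118, nat_lit 2627629), (nat_lit 5511305, nat_lit 2634003), (nat_lit 5514536, nat_lit 2640465),
   (nat_lit 5538256, nat_lit 2687905), (nat_lit 5571333, nat_lit 2754059), (nat_lit 5621792, nat_lit 2854977), (nat_lit 5640752, nat_lit 2892897),
   (nat_lit 5652556, nat_lit 2916505), (nat_lit 5709954, nat_lit 3031301), (nat_lit 5770785, nat_lit 3152963), (nat_lit 5780352, nat_lit 3172097),
   (nat_lit 5785794, nat_lit 3182981), (nat_lit 5817604, nat_lit 3246601), (nat_lit 5833010, nat_lit 3277413), (nat_lit 5842956, nat_lit 3297305),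
   (nat_lit 5899416, nat_lit 3410225), (nat_lit 5902343, nat_lit 3416079), (nat_lit 5939296, nat_lit 3489985), (nat_lit 6053905, nat_lit 3719203),
   (nat_lit 6062602, nat_lit 3736597), (nat_lit 6100032, nat_lit 3811457), (nat_lit 6292775, nat_lit 4196943), (nat_lit 6295992, nat_lit 4203377),
   (nat_lit 6302745, nat_lit 4216883), (nat_lit 6305926, nat_lit 4223245), (nat_lit 6308804, nat_lit 4229001), (nat_lit 6326497, nat_lit 4264387),
   (nat_lit 6337856, nat_lit 4287105), (nat_lit 6344194, nat_lit 4299781), (nat_lit 6359604, nat_lit 4330601), (nat_lit 6365962, nat_lit 4343317),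
   (nat_lit 6379592, nat_lit 4370577), (nat_lit 6406417, nat_lit 4424227), (nat_lit 6429441, nat_lit 4470275), (nat_lit 6432416, nat_lit 4476225),
   (nat_lit 6447171, nat_lit 4505735), (nat_lit 6455896, nat_lit 4523185), (nat_lit 6475812, nat_lit 4563017), (nat_lit 6488205, nat_lit 4587803),
   (nat_lit 6493202, nat_lit 4597797), (nat_lit 6554826, nat_lit 4721045), (nat_lit 6557781, nat_lit 4726955), (nat_lit 6570537, nat_lit 4752467),
   (nat_lit 6588684, nat_lit 4788761), (nat_lit 6594610, nat_lit 4800613), (nat_lit 6644740, nat_lit 4900873), (nat_lit 6656640, nat_lit 4924673),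
   (nat_lit 6703248, nat_lit 5017889), (nat_lit 6750560, nat_lit 5112513), (nat_lit 6820450, nat_lit 5252293), (nat_lit 6832158, nat_lit 5275709),
   (nat_lit 6837377, nat_lit 5286147), (nat_lit 6842656, nat_lit 5296705), (nat_lit 6857221, nat_lit 5325835), (nat_lit 6889680, nat_lit 5390753),
   (nat_lit 6915112, nat_lit 5441617), (nat_lit 6949956, nat_lit 5511305), (nat_lit 6979970, nat_lit 5571333), (nat_lit 7079696, nat_lit 5770785),
   (nat_lit 7145475, nat_lit 5902343), (nat_lit 7221256, nat_lit 6053905), (nat_lit 7340691, nat_lit 6292775), (nat_lit 7345676, nat_lit 6302745),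
   (nat_lit 7357552, nat_lit 6326497), (nat_lit 7397512, nat_lit 6406417), (nat_lit 7409024, nat_lit 6429441), (nat_lit 7417889, nat_lit 6447171),
   (nat_lit 7438406, nat_lit 6488205), (nat_lit 7473194, nat_lit 6557781), (nat_lit 7479572, nat_lit 6570537), (nat_lit 7612992, nat_lit 6837377),
   (nat_lit 7622914, nat_lit 6857221), (nat_lit 7767041, nat_lit 7145475), (nat_lit 7864649, nat_lit 7340691), (nat_lit 7903248, nat_lit 7417889),
   (nat_lit 8077824, nat_lit 7767041), (nat_lit 8126628, nat_lit 7864649)]

/-- Octads with their images. -/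
def qA : List (Nat × Nat) :=
  [
(nat_lit 5279, nat_lit 2384216), (nat_lit 10558, nat_lit 3147996), (nat_lit 15777, nat_lit 1337732), (nat_lit 18147, nat_lit 1405448),
   (nat_lit 21116, nat_lit 3216208), (nat_lit 31554, nat_lit 72588), (nat_lit 36294, nat_lit 277580), (nat_lit 39257, nat_lit 2120980),
   (nat_lit 42232, nat_lit 3421328), (nat_lit 45159, nat_lit 1070536), (nat_lit 52005, nat_lit 1134148), (nat_lit 57883, nat_lit 2180760),
   (nat_lit 63108, nat_lit 337856), (nat_lit 69395, nat_lit 346141), (nat_lit 72588, nat_lit 2173253), (nat_lit 75309, nat_lit 3489985),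
   (nat_lit 78514, nat_lit 1122713), (nat_lit 84464, nat_lit 1063445), (nat_lit 90318, nat_lit 2110153), (nat_lit 95313, nat_lit 283537),
   (nat_lit 99029, nat_lit 95313), (nat_lit 104010, nat_lit 2430217), (nat_lit 115766, nat_lit 1312345), (nat_lit 118953, nat_lit 3172097),
   (nat_lit 126216, nat_lit 2363013), (nat_lit 133817, nat_lit 3237906), (nat_lit 138790, nat_lit 1378634), (nat_lit 140167, nat_lit 90318),
   (nat_lit 145176, nat_lit 2425238), (nat_lit 150618, nat_lit 2365978), (nat_lit 153797, nat_lit 31554), (nat_lit 157028, nat_lit 1315526),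
   (nat_lit 168928, nat_lit 1127686), (nat_lit 175681, nat_lit 351362), (nat_lit 180636, nat_lit 2106966), (nat_lit 185603, nat_lit 280334),
   (nat_lit 190626, nat_lit 1060490), (nat_lit 198058, nat_lit 3416079), (nat_lit 201013, nat_lit 1065303), (nat_lit 208020, nat_lit 272595),
   (nat_lit 210955, nat_lit 2115979), (nat_lit 213833, nat_lit 2183687), (nat_lit 231532, nat_lit 3152963), (nat_lit 237906, nat_lit 5279),
   (nat_lit 252432, nat_lit 69395), (nat_lit 262637, nat_lit 3698756), (nat_lit 267634, nat_lit 1839388), (nat_lit 272595, nat_lit 555160),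
   (nat_lit 277580, nat_lit 2890176), (nat_lit 280334, nat_lit 2949708), (nat_lit 283537, nat_lit 615188), (nat_lit 290352, nat_lit 1903248),
   (nat_lit 298027, nat_lit 3951624), (nat_lit 301236, nat_lit 1584464), (nat_lit 304405, nat_lit 804052), (nat_lit 307594, nat_lit 2631052),
   (nat_lit 314056, nat_lit 2702848), (nat_lit 334433, nat_lit 1661185), (nat_lit 337856, nat_lit 864389), (nat_lit 346141, nat_lit 2640465),
   (nat_lit 351362, nat_lit 797449), (nat_lit 352547, nat_lit 1589901), (nat_lit 361272, nat_lit 3736597), (nat_lit 371206, nat_lit 593097),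
   (nat_lit 381252, nat_lit 530245), (nat_lit 396116, nat_lit 596054), (nat_lit 402026, nat_lit 3739786), (nat_lit 416040, nat_lit 3672838),
   (nat_lit 418953, nat_lit 2908802), (nat_lit 421910, nat_lit 525274), (nat_lit 427666, nat_lit 861210), (nat_lit 430605, nat_lit 2704706),
   (nat_lit 442481, nat_lit 1594898), (nat_lit 459847, nat_lit 806987), (nat_lit 463064, nat_lit 2634003), (nat_lit 475812, nat_lit 1647171),
   (nat_lit 493953, nat_lit 551943), (nat_lit 504864, nat_lit 1836419), (nat_lit 525274, nat_lit 2207772), (nat_lit 530245, nat_lit 381252),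
   (nat_lit 535268, nat_lit 1161408), (nat_lit 542009, nat_lit 3457556), (nat_lit 545190, nat_lit 1090380), (nat_lit 551943, nat_lit 314056),
   (nat_lit 555160, nat_lit 2141072), (nat_lit 560668, nat_lit 2460752), (nat_lit 563843, nat_lit 126216), (nat_lit 567074, nat_lit 1410188),
   (nat_lit 580704, nat_lit 1351424), (nat_lit 582081, nat_lit 63108), (nat_lit 593097, nat_lit 2422785), (nat_lit 596054, nat_lit 39257),
   (nat_lit 602472, nat_lit 3182981), (nat_lit 608810, nat_lit 3246601), (nat_lit 615188, nat_lit 99029), (nat_lit 622863, nat_lit 2147405),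
   (nat_lit 628112, nat_lit 304405), (nat_lit 632881, nat_lit 1100945), (nat_lit 657763, nat_lit 1103886), (nat_lit 663645, nat_lit 2150610),
   (nat_lit 668866, nat_lit 307594), (nat_lit 675712, nat_lit 371206), (nat_lit 684577, nat_lit 1164162), (nat_lit 689317, nat_lit 1369154),
   (nat_lit 692282, nat_lit 3179802), (nat_lit 702724, nat_lit 36294), (nat_lit 705094, nat_lit 104010), (nat_lit 722544, nat_lit 1413139),
   (nat_lit 737427, nat_lit 57883), (nat_lit 742412, nat_lit 2392899), (nat_lit 762504, nat_lit 2204803), (nat_lit 786999, nat_lit 1687640),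
   (nat_lit 792232, nat_lit 4038912), (nat_lit 797449, nat_lit 2738308), (nat_lit 804052, nat_lit 832080), (nat_lit 806987, nat_lit 2675464),
   (nat_lit 832080, nat_lit 628112), (nat_lit 837906, nat_lit 560668), (nat_lit 843820, nat_lit 3704512), (nat_lit 855332, nat_lit 1869893),
   (nat_lit 861210, nat_lit 2916505), (nat_lit 864389, nat_lit 582081), (nat_lit 884962, nat_lit 1618953), (nat_lit 902657, nat_lit 902657),
   (nat_lit 919694, nat_lit 2664522), (nat_lit 924689, nat_lit 837906), (nat_lit 926128, nat_lit 1613974), (nat_lit 951624, nat_lit 2921478),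
   (nat_lit 987906, nat_lit 622863), (nat_lit 1009728, nat_lit 563843), (nat_lit 1050548, nat_lit 1384564), (nat_lit 1053483, nat_lit 3227948),
   (nat_lit 1060490, nat_lit 2435240), (nat_lit 1063445, nat_lit 84464), (nat_lit 1065303, nat_lit 21116), (nat_lit 1070536, nat_lit 2372388),
   (nat_lit 1075305, nat_lit 3168928), (nat_lit 1084018, nat_lit 1121336), (nat_lit 1090380, nat_lit 2168036), (nat_lit 1100945, nat_lit 290352),
   (nat_lit 1103886, nat_lit 2101096), (nat_lit 1110320, nat_lit 1050548), (nat_lit 1116327, nat_lit 1075305), (nat_lit 1121336, nat_lit 3410225),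
   (nat_lit 1122713, nat_lit 2121909), (nat_lit 1127686, nat_lit 262637), (nat_lit 1134148, nat_lit 334433), (nat_lit 1148257, nat_lit 1332261),
   (nat_lit 1161408, nat_lit 15777), (nat_lit 1164162, nat_lit 75309), (nat_lit 1182989, nat_lit 2377830), (nat_lit 1186194, nat_lit 10558),
   (nat_lit 1188915, nat_lit 1327290), (nat_lit 1192108, nat_lit 3154402), (nat_lit 1204944, nat_lit 78514), (nat_lit 1212619, nat_lit 2126890),
   (nat_lit 1217620, nat_lit 267634), (nat_lit 1230376, nat_lit 3474978), (nat_lit 1245726, nat_lit 2162811), (nat_lit 1250945, nat_lit 352547),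
   (nat_lit 1256224, nat_lit 1116327), (nat_lit 1265762, nat_lit 1053483), (nat_lit 1302533, nat_lit 18147), (nat_lit 1312345, nat_lit 2969648),
   (nat_lit 1315526, nat_lit 602472), (nat_lit 1327290, nat_lit 3678776), (nat_lit 1332261, nat_lit 1852256), (nat_lit 1337732, nat_lit 535268),
   (nat_lit 1351424, nat_lit 855332), (nat_lit 1352353, nat_lit 1664160), (nat_lit 1369154, nat_lit 792232), (nat_lit 1378634, nat_lit 2627629),
   (nat_lit 1384564, nat_lit 1577201), (nat_lit 1405448, nat_lit 2687905), (nat_lit 1410188, nat_lit 2892897), (nat_lit 1413139, nat_lit 542009),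
   (nat_lit 1445088, nat_lit 1849378), (nat_lit 1454401, nat_lit 545190), (nat_lit 1460739, nat_lit 608810), (nat_lit 1474854, nat_lit 1573998),
   (nat_lit 1484824, nat_lit 2624690), (nat_lit 1525008, nat_lit 786999), (nat_lit 1573998, nat_lit 3444840), (nat_lit 1577201, nat_lit 1110320),
   (nat_lit 1584464, nat_lit 301236), (nat_lit 1589901, nat_lit 2220640), (nat_lit 1594898, nat_lit 361272), (nat_lit 1608104, nat_lit 3189796),
   (nat_lit 1613974, nat_lit 42232), (nat_lit 1618953, nat_lit 2409888), (nat_lit 1647171, nat_lit 118953), (nat_lit 1661185, nat_lit 52005),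
   (nat_lit 1664160, nat_lit 1352353), (nat_lit 1675812, nat_lit 1148257), (nat_lit 1687640, nat_lit 2135601), (nat_lit 1710664, nat_lit 2201890),
   (nat_lit 1722420, nat_lit 1084018), (nat_lit 1728778, nat_lit 2130606), (nat_lit 1737489, nat_lit 115766), (nat_lit 1769924, nat_lit 45159),
   (nat_lit 1805314, nat_lit 298027), (nat_lit 1836419, nat_lit 843820), (nat_lit 1839388, nat_lit 2654580), (nat_lit 1849378, nat_lit 1608104),
   (nat_lit 1852256, nat_lit 1675812), (nat_lit 1869893, nat_lit 580704), (nat_lit 1903248, nat_lit 632881), (nat_lit 1975812, nat_lit 884962),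
   (nat_lit 2019456, nat_lit 567074), (nat_lit 2031657, nat_lit 3719203), (nat_lit 2101096, nat_lit 3610628), (nat_lit 2106966, nat_lit 463064),
   (nat_lit 2110153, nat_lit 2322816), (nat_lit 2115979, nat_lit 2255372), (nat_lit 2120980, nat_lit 396116), (nat_lit 2121909, nat_lit 1204944),
   (nat_lit 2126890, nat_lit 3539848), (nat_lit 2130606, nat_lit 3351624), (nat_lit 2135601, nat_lit 1525008), (nat_lit 2141072, nat_lit 208020),
   (nat_lit 2147405, nat_lit 2512448), (nat_lit 2150610, nat_lit 145176), (nat_lit 2162811, nat_lit 3297305), (nat_lit 2168036, nat_lit 1454401),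
   (nat_lit 2173253, nat_lit 153797), (nat_lit 2180760, nat_lit 2564625), (nat_lit 2183687, nat_lit 213833), (nat_lit 2201890, nat_lit 1182989),
   (nat_lit 2204803, nat_lit 418953), (nat_lit 2207772, nat_lit 2229713), (nat_lit 2220640, nat_lit 1250945), (nat_lit 2229713, nat_lit 421910),
   (nat_lit 2232654, nat_lit 2232654), (nat_lit 2242672, nat_lit 1186194), (nat_lit 2245426, nat_lit 1245726), (nat_lit 2255372, nat_lit 2296514),
   (nat_lit 2263063, nat_lit 150618), (nat_lit 2268296, nat_lit 2501890), (nat_lit 2269481, nat_lit 3294342), (nat_lit 2296514, nat_lit 210955),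
   (nat_lit 2313249, nat_lit 1460739), (nat_lit 2322816, nat_lit 140167), (nat_lit 2328324, nat_lit 459847), (nat_lit 2363013, nat_lit 1009728),
   (nat_lit 2365978, nat_lit 2820376), (nat_lit 2372388, nat_lit 1769924), (nat_lit 2377830, nat_lit 1710664), (nat_lit 2384216, nat_lit 2757268),
   (nat_lit 2392899, nat_lit 742412), (nat_lit 2409888, nat_lit 1975812), (nat_lit 2422785, nat_lit 675712), (nat_lit 2425238, nat_lit 663645),
   (nat_lit 2430217, nat_lit 3031301), (nat_lit 2435240, nat_lit 3811457), (nat_lit 2460752, nat_lit 924689), (nat_lit 2491452, nat_lit 4063314),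
   (nat_lit 2494627, nat_lit 1728778), (nat_lit 2501890, nat_lit 919694), (nat_lit 2512448, nat_lit 987906), (nat_lit 2531524, nat_lit 668866),
   (nat_lit 2564625, nat_lit 737427), (nat_lit 2605066, nat_lit 2754059), (nat_lit 2624690, nat_lit 1484824), (nat_lit 2627629, nat_lit 3328320),
   (nat_lit 2631052, nat_lit 2531524), (nat_lit 2634003, nat_lit 180636), (nat_lit 2640465, nat_lit 252432), (nat_lit 2654580, nat_lit 1217620),
   (nat_lit 2664522, nat_lit 2268296), (nat_lit 2675464, nat_lit 2328324), (nat_lit 2687905, nat_lit 1302533), (nat_lit 2702848, nat_lit 493953),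
   (nat_lit 2704706, nat_lit 430605), (nat_lit 2738308, nat_lit 175681), (nat_lit 2754059, nat_lit 2605066), (nat_lit 2757268, nat_lit 237906),
   (nat_lit 2769128, nat_lit 3322370), (nat_lit 2810896, nat_lit 427666), (nat_lit 2820376, nat_lit 2263063), (nat_lit 2826278, nat_lit 1212619),
   (nat_lit 2854977, nat_lit 185603), (nat_lit 2890176, nat_lit 702724), (nat_lit 2892897, nat_lit 2019456), (nat_lit 2908802, nat_lit 762504),
   (nat_lit 2916505, nat_lit 2810896), (nat_lit 2921478, nat_lit 951624), (nat_lit 2949708, nat_lit 2854977), (nat_lit 2969648, nat_lit 1737489),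
   (nat_lit 3031301, nat_lit 705094), (nat_lit 3050016, nat_lit 1805314), (nat_lit 3147996, nat_lit 2242672), (nat_lit 3152963, nat_lit 416040),
   (nat_lit 3154402, nat_lit 1192108), (nat_lit 3168928, nat_lit 1256224), (nat_lit 3172097, nat_lit 475812), (nat_lit 3179802, nat_lit 2491452),
   (nat_lit 3182981, nat_lit 157028), (nat_lit 3189796, nat_lit 1445088), (nat_lit 3216208, nat_lit 201013), (nat_lit 3227948, nat_lit 3277413),
   (nat_lit 3237906, nat_lit 133817), (nat_lit 3246601, nat_lit 2313249), (nat_lit 3277413, nat_lit 1265762), (nat_lit 3294342, nat_lit 402026),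
   (nat_lit 3297305, nat_lit 2245426), (nat_lit 3322370, nat_lit 198058), (nat_lit 3328320, nat_lit 138790), (nat_lit 3351624, nat_lit 2494627),
   (nat_lit 3375280, nat_lit 1188915), (nat_lit 3410225, nat_lit 1722420), (nat_lit 3416079, nat_lit 2769128), (nat_lit 3421328, nat_lit 926128),
   (nat_lit 3444840, nat_lit 3806496), (nat_lit 3457556, nat_lit 722544), (nat_lit 3474978, nat_lit 2031657), (nat_lit 3489985, nat_lit 684577),
   (nat_lit 3539848, nat_lit 2826278), (nat_lit 3610628, nat_lit 657763), (nat_lit 3672838, nat_lit 231532), (nat_lit 3678776, nat_lit 3375280),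
   (nat_lit 3698756, nat_lit 168928), (nat_lit 3704512, nat_lit 504864), (nat_lit 3719203, nat_lit 1230376), (nat_lit 3736597, nat_lit 442481),
   (nat_lit 3739786, nat_lit 2269481), (nat_lit 3806496, nat_lit 1474854), (nat_lit 3811457, nat_lit 190626), (nat_lit 3951624, nat_lit 3050016),
   (nat_lit 4038912, nat_lit 689317), (nat_lit 4063314, nat_lit 692282), (nat_lit 4196943, nat_lit 6379592), (nat_lit 4202192, nat_lit 4536592),
   (nat_lit 4203377, nat_lit 5329044), (nat_lit 4213932, nat_lit 7612992), (nat_lit 4216883, nat_lit 5262104), (nat_lit 4220306, nat_lit 4465308),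
   (nat_lit 4223245, nat_lit 6308804), (nat_lit 4229001, nat_lit 6644740), (nat_lit 4231958, nat_lit 4261212), (nat_lit 4241960, nat_lit 7409024),
   (nat_lit 4243818, nat_lit 7345676), (nat_lit 4253780, nat_lit 4202192), (nat_lit 4261212, nat_lit 6557781), (nat_lit 4264387, nat_lit 4223245),
   (nat_lit 4271202, nat_lit 5511305), (nat_lit 4282144, nat_lit 5571333), (nat_lit 4287105, nat_lit 4287105), (nat_lit 4294810, nat_lit 6302745),
   (nat_lit 4299781, nat_lit 4476225), (nat_lit 4301220, nat_lit 5252293), (nat_lit 4325622, nat_lit 5255258), (nat_lit 4330601, nat_lit 7622914),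
   (nat_lit 4336072, nat_lit 6305926), (nat_lit 4343317, nat_lit 4538962), (nat_lit 4346506, nat_lit 6365962), (nat_lit 4361520, nat_lit 5508118),
   (nat_lit 4367374, nat_lit 6554826), (nat_lit 4370577, nat_lit 4220306), (nat_lit 4403780, nat_lit 4264387), (nat_lit 4409606, nat_lit 4196943),
   (nat_lit 4415544, nat_lit 7340691), (nat_lit 4424227, nat_lit 5325835), (nat_lit 4441280, nat_lit 4470275), (nat_lit 4459426, nat_lit 5842956),
   (nat_lit 4465308, nat_lit 6889680), (nat_lit 4470275, nat_lit 5063048), (nat_lit 4476225, nat_lit 5003780), (nat_lit 4485344, nat_lit 5780352),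
   (nat_lit 4490852, nat_lit 6100032), (nat_lit 4505735, nat_lit 4744776), (nat_lit 4510744, nat_lit 7079696), (nat_lit 4523185, nat_lit 6053905),
   (nat_lit 4526126, nat_lit 7864649), (nat_lit 4536592, nat_lit 4721045), (nat_lit 4538962, nat_lit 4788761), (nat_lit 4563017, nat_lit 6837377),
   (nat_lit 4587803, nat_lit 6832158), (nat_lit 4593028, nat_lit 4989254), (nat_lit 4597797, nat_lit 5785794), (nat_lit 4626498, nat_lit 4726026),
   (nat_lit 4645632, nat_lit 4785798), (nat_lit 4656648, nat_lit 7145475), (nat_lit 4721045, nat_lit 4253780), (nat_lit 4726026, nat_lit 6588684),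
   (nat_lit 4726955, nat_lit 7397512), (nat_lit 4731956, nat_lit 5538256), (nat_lit 4744776, nat_lit 6656640), (nat_lit 4752467, nat_lit 4510744),
   (nat_lit 4755660, nat_lit 6337856), (nat_lit 4768432, nat_lit 5350928), (nat_lit 4785798, nat_lit 4563017), (nat_lit 4788761, nat_lit 6406417),
   (nat_lit 4800613, nat_lit 5296705), (nat_lit 4819776, nat_lit 4299781), (nat_lit 4845570, nat_lit 4229001), (nat_lit 4850476, nat_lit 7438406),
   (nat_lit 4860434, nat_lit 4294810), (nat_lit 4870480, nat_lit 4231958), (nat_lit 4900873, nat_lit 6344194), (nat_lit 4921504, nat_lit 5286147),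
   (nat_lit 4924673, nat_lit 4505735), (nat_lit 4982904, nat_lit 7903248), (nat_lit 4989254, nat_lit 4755660), (nat_lit 5003780, nat_lit 4819776),
   (nat_lit 5017889, nat_lit 5817604), (nat_lit 5024896, nat_lit 5024896), (nat_lit 5063048, nat_lit 6857221), (nat_lit 5112513, nat_lit 4845570),
   (nat_lit 5129250, nat_lit 6062602), (nat_lit 5210132, nat_lit 4752467), (nat_lit 5249380, nat_lit 5249380), (nat_lit 5252293, nat_lit 4485344),
   (nat_lit 5255258, nat_lit 6295992), (nat_lit 5262104, nat_lit 6359604), (nat_lit 5268006, nat_lit 5309160), (nat_lit 5275709, nat_lit 7357552),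
   (nat_lit 5280930, nat_lit 5514536), (nat_lit 5286147, nat_lit 4213932), (nat_lit 5296705, nat_lit 4282144), (nat_lit 5309160, nat_lit 7417889),
   (nat_lit 5325835, nat_lit 6570537), (nat_lit 5329044, nat_lit 4203377), (nat_lit 5350928, nat_lit 4523185), (nat_lit 5375810, nat_lit 4526126),
   (nat_lit 5390753, nat_lit 5268006), (nat_lit 5405696, nat_lit 4459426), (nat_lit 5409412, nat_lit 4271202), (nat_lit 5441617, nat_lit 4216883),
   (nat_lit 5476616, nat_lit 6292775), (nat_lit 5508118, nat_lit 4982904), (nat_lit 5511305, nat_lit 6842656), (nat_lit 5514536, nat_lit 8126628),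
   (nat_lit 5538256, nat_lit 4731956), (nat_lit 5571333, nat_lit 4800613), (nat_lit 5621792, nat_lit 5770785), (nat_lit 5640752, nat_lit 5833010),
   (nat_lit 5652556, nat_lit 6820450), (nat_lit 5709954, nat_lit 4726955), (nat_lit 5770785, nat_lit 5621792), (nat_lit 5780352, nat_lit 4301220),
   (nat_lit 5785794, nat_lit 4241960), (nat_lit 5817604, nat_lit 4490852), (nat_lit 5833010, nat_lit 5275709), (nat_lit 5842956, nat_lit 6326497),
   (nat_lit 5899416, nat_lit 6594610), (nat_lit 5902343, nat_lit 4243818), (nat_lit 5939296, nat_lit 5280930), (nat_lit 6053905, nat_lit 4768432),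
   (nat_lit 6062602, nat_lit 6915112), (nat_lit 6100032, nat_lit 5017889), (nat_lit 6292775, nat_lit 5652556), (nat_lit 6295992, nat_lit 7479572),
   (nat_lit 6302745, nat_lit 6703248), (nat_lit 6305926, nat_lit 4336072), (nat_lit 6308804, nat_lit 4403780), (nat_lit 6326497, nat_lit 5405696),
   (nat_lit 6337856, nat_lit 4593028), (nat_lit 6344194, nat_lit 4656648), (nat_lit 6359604, nat_lit 5441617), (nat_lit 6365962, nat_lit 6488205),
   (nat_lit 6379592, nat_lit 6429441), (nat_lit 6406417, nat_lit 4343317), (nat_lit 6429441, nat_lit 4409606), (nat_lit 6432416, nat_lit 5709954),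
   (nat_lit 6447171, nat_lit 4346506), (nat_lit 6455896, nat_lit 6493202), (nat_lit 6475812, nat_lit 5375810), (nat_lit 6488205, nat_lit 6447171),
   (nat_lit 6493202, nat_lit 4587803), (nat_lit 6554826, nat_lit 7221256), (nat_lit 6557781, nat_lit 4870480), (nat_lit 6570537, nat_lit 8077824),
   (nat_lit 6588684, nat_lit 6949956), (nat_lit 6594610, nat_lit 5899416), (nat_lit 6644740, nat_lit 5112513), (nat_lit 6656640, nat_lit 4924673),
   (nat_lit 6703248, nat_lit 4860434), (nat_lit 6750560, nat_lit 5902343), (nat_lit 6820450, nat_lit 5476616), (nat_lit 6832158, nat_lit 6455896),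
   (nat_lit 6837377, nat_lit 4645632), (nat_lit 6842656, nat_lit 5409412), (nat_lit 6857221, nat_lit 4441280), (nat_lit 6889680, nat_lit 4370577),
   (nat_lit 6915112, nat_lit 7767041), (nat_lit 6949956, nat_lit 4626498), (nat_lit 6979970, nat_lit 4367374), (nat_lit 7079696, nat_lit 5210132),
   (nat_lit 7145475, nat_lit 4900873), (nat_lit 7221256, nat_lit 6979970), (nat_lit 7340691, nat_lit 4415544), (nat_lit 7345676, nat_lit 6750560),
   (nat_lit 7357552, nat_lit 5640752), (nat_lit 7397512, nat_lit 6432416), (nat_lit 7409024, nat_lit 4597797), (nat_lit 7417889, nat_lit 5390753),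
   (nat_lit 7438406, nat_lit 4330601), (nat_lit 7473194, nat_lit 7473194), (nat_lit 7479572, nat_lit 4325622), (nat_lit 7612992, nat_lit 4921504),
   (nat_lit 7622914, nat_lit 4850476), (nat_lit 7767041, nat_lit 5129250), (nat_lit 7864649, nat_lit 6475812), (nat_lit 7903248, nat_lit 4361520),
   (nat_lit 8077824, nat_lit 4424227), (nat_lit 8126628, nat_lit 5939296)]

/-- Octads with their images. -/
def qB : List (Nat × Nat) :=
  [
(nat_lit 5279, nat_lit 1594898), (nat_lit 10558, nat_lit 290352), (nat_lit 15777, nat_lit 1849378), (nat_lit 18147, nat_lit 3322370),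
   (nat_lit 21116, nat_lit 2810896), (nat_lit 31554, nat_lit 3050016), (nat_lit 36294, nat_lit 1351424), (nat_lit 39257, nat_lit 837906),
   (nat_lit 42232, nat_lit 1110320), (nat_lit 45159, nat_lit 567074), (nat_lit 52005, nat_lit 2501890), (nat_lit 57883, nat_lit 2245426),
   (nat_lit 63108, nat_lit 3806496), (nat_lit 69395, nat_lit 2365978), (nat_lit 72588, nat_lit 3951624), (nat_lit 75309, nat_lit 2126890),
   (nat_lit 78514, nat_lit 3678776), (nat_lit 84464, nat_lit 1484824), (nat_lit 90318, nat_lit 1230376), (nat_lit 95313, nat_lit 692282),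
   (nat_lit 99029, nat_lit 3179802), (nat_lit 104010, nat_lit 2675464), (nat_lit 115766, nat_lit 145176), (nat_lit 118953, nat_lit 1728778),
   (nat_lit 126216, nat_lit 416040), (nat_lit 133817, nat_lit 3237906), (nat_lit 138790, nat_lit 2702848), (nat_lit 140167, nat_lit 3474978),
   (nat_lit 145176, nat_lit 2969648), (nat_lit 150618, nat_lit 252432), (nat_lit 153797, nat_lit 1805314), (nat_lit 157028, nat_lit 504864),
   (nat_lit 168928, nat_lit 4038912), (nat_lit 175681, nat_lit 2201890), (nat_lit 180636, nat_lit 1525008), (nat_lit 185603, nat_lit 987906),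
   (nat_lit 190626, nat_lit 1256224), (nat_lit 198058, nat_lit 1405448), (nat_lit 201013, nat_lit 861210), (nat_lit 208020, nat_lit 1121336),
   (nat_lit 210955, nat_lit 608810), (nat_lit 213833, nat_lit 2605066), (nat_lit 231532, nat_lit 126216), (nat_lit 237906, nat_lit 361272),
   (nat_lit 252432, nat_lit 2820376), (nat_lit 262637, nat_lit 1369154), (nat_lit 267634, nat_lit 832080), (nat_lit 272595, nat_lit 1084018),
   (nat_lit 277580, nat_lit 580704), (nat_lit 280334, nat_lit 2512448), (nat_lit 283537, nat_lit 4063314), (nat_lit 290352, nat_lit 2242672),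
   (nat_lit 298027, nat_lit 31554), (nat_lit 301236, nat_lit 1584464), (nat_lit 304405, nat_lit 267634), (nat_lit 307594, nat_lit 1852256),
   (nat_lit 314056, nat_lit 3328320), (nat_lit 334433, nat_lit 2664522), (nat_lit 337856, nat_lit 3444840), (nat_lit 346141, nat_lit 150618),
   (nat_lit 351362, nat_lit 1710664), (nat_lit 352547, nat_lit 402026), (nat_lit 361272, nat_lit 2384216), (nat_lit 371206, nat_lit 2101096),
   (nat_lit 381252, nat_lit 951624), (nat_lit 396116, nat_lit 2460752), (nat_lit 402026, nat_lit 2220640), (nat_lit 416040, nat_lit 1009728),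
   (nat_lit 418953, nat_lit 1265762), (nat_lit 421910, nat_lit 722544), (nat_lit 427666, nat_lit 3216208), (nat_lit 430605, nat_lit 2704706),
   (nat_lit 442481, nat_lit 237906), (nat_lit 459847, nat_lit 104010), (nat_lit 463064, nat_lit 1687640), (nat_lit 475812, nat_lit 3351624),
   (nat_lit 493953, nat_lit 1378634), (nat_lit 504864, nat_lit 602472), (nat_lit 525274, nat_lit 3457556), (nat_lit 530245, nat_lit 2921478),
   (nat_lit 535268, nat_lit 3189796), (nat_lit 542009, nat_lit 421910), (nat_lit 545190, nat_lit 1975812), (nat_lit 551943, nat_lit 138790),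
   (nat_lit 555160, nat_lit 1722420), (nat_lit 560668, nat_lit 2120980), (nat_lit 563843, nat_lit 3672838), (nat_lit 567074, nat_lit 2372388),
   (nat_lit 580704, nat_lit 702724), (nat_lit 582081, nat_lit 1474854), (nat_lit 593097, nat_lit 1103886), (nat_lit 596054, nat_lit 560668),
   (nat_lit 602472, nat_lit 843820), (nat_lit 608810, nat_lit 2255372), (nat_lit 615188, nat_lit 2491452), (nat_lit 622863, nat_lit 280334),
   (nat_lit 628112, nat_lit 1839388), (nat_lit 632881, nat_lit 10558), (nat_lit 657763, nat_lit 371206), (nat_lit 663645, nat_lit 115766),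
   (nat_lit 668866, nat_lit 1675812), (nat_lit 675712, nat_lit 3610628), (nat_lit 684577, nat_lit 2826278), (nat_lit 689317, nat_lit 1127686),
   (nat_lit 692282, nat_lit 615188), (nat_lit 702724, nat_lit 855332), (nat_lit 705094, nat_lit 2328324), (nat_lit 722544, nat_lit 2207772),
   (nat_lit 737427, nat_lit 1245726), (nat_lit 742412, nat_lit 742412), (nat_lit 762504, nat_lit 3227948), (nat_lit 786999, nat_lit 2106966),
   (nat_lit 792232, nat_lit 3698756), (nat_lit 797449, nat_lit 2377830), (nat_lit 804052, nat_lit 1217620), (nat_lit 806987, nat_lit 705094),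
   (nat_lit 832080, nat_lit 2654580), (nat_lit 837906, nat_lit 396116), (nat_lit 843820, nat_lit 157028), (nat_lit 855332, nat_lit 277580),
   (nat_lit 861210, nat_lit 21116), (nat_lit 864389, nat_lit 1573998), (nat_lit 884962, nat_lit 1090380), (nat_lit 902657, nat_lit 2232654),
   (nat_lit 919694, nat_lit 1134148), (nat_lit 924689, nat_lit 596054), (nat_lit 926128, nat_lit 1384564), (nat_lit 951624, nat_lit 381252),
   (nat_lit 987906, nat_lit 2949708), (nat_lit 1009728, nat_lit 231532), (nat_lit 1050548, nat_lit 3421328), (nat_lit 1053483, nat_lit 2908802),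
   (nat_lit 1060490, nat_lit 3168928), (nat_lit 1063445, nat_lit 2624690), (nat_lit 1065303, nat_lit 427666), (nat_lit 1070536, nat_lit 2019456),
   (nat_lit 1075305, nat_lit 190626), (nat_lit 1084018, nat_lit 2141072), (nat_lit 1090380, nat_lit 2409888), (nat_lit 1100945, nat_lit 1186194),
   (nat_lit 1103886, nat_lit 675712), (nat_lit 1110320, nat_lit 926128), (nat_lit 1116327, nat_lit 1060490), (nat_lit 1121336, nat_lit 555160),
   (nat_lit 1122713, nat_lit 1327290), (nat_lit 1127686, nat_lit 792232), (nat_lit 1134148, nat_lit 2268296), (nat_lit 1148257, nat_lit 307594),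
   (nat_lit 1161408, nat_lit 1608104), (nat_lit 1164162, nat_lit 3539848), (nat_lit 1182989, nat_lit 351362), (nat_lit 1186194, nat_lit 1903248),
   (nat_lit 1188915, nat_lit 78514), (nat_lit 1192108, nat_lit 1664160), (nat_lit 1204944, nat_lit 3375280), (nat_lit 1212619, nat_lit 1164162),
   (nat_lit 1217620, nat_lit 628112), (nat_lit 1230376, nat_lit 2322816), (nat_lit 1245726, nat_lit 2180760), (nat_lit 1250945, nat_lit 3739786),
   (nat_lit 1256224, nat_lit 2435240), (nat_lit 1265762, nat_lit 762504), (nat_lit 1302533, nat_lit 198058), (nat_lit 1312345, nat_lit 2150610),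
   (nat_lit 1315526, nat_lit 3704512), (nat_lit 1327290, nat_lit 1204944), (nat_lit 1332261, nat_lit 668866), (nat_lit 1337732, nat_lit 1445088),
   (nat_lit 1351424, nat_lit 2890176), (nat_lit 1352353, nat_lit 3154402), (nat_lit 1369154, nat_lit 168928), (nat_lit 1378634, nat_lit 314056),
   (nat_lit 1384564, nat_lit 42232), (nat_lit 1405448, nat_lit 2769128), (nat_lit 1410188, nat_lit 1070536), (nat_lit 1413139, nat_lit 525274),
   (nat_lit 1445088, nat_lit 1161408), (nat_lit 1454401, nat_lit 884962), (nat_lit 1460739, nat_lit 2296514), (nat_lit 1474854, nat_lit 337856),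
   (nat_lit 1484824, nat_lit 84464), (nat_lit 1525008, nat_lit 463064), (nat_lit 1573998, nat_lit 63108), (nat_lit 1577201, nat_lit 1613974),
   (nat_lit 1584464, nat_lit 301236), (nat_lit 1589901, nat_lit 3294342), (nat_lit 1594898, nat_lit 2757268), (nat_lit 1608104, nat_lit 1337732),
   (nat_lit 1613974, nat_lit 1050548), (nat_lit 1618953, nat_lit 545190), (nat_lit 1647171, nat_lit 2130606), (nat_lit 1661185, nat_lit 919694),
   (nat_lit 1664160, nat_lit 1192108), (nat_lit 1675812, nat_lit 2631052), (nat_lit 1687640, nat_lit 180636), (nat_lit 1710664, nat_lit 2738308),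
   (nat_lit 1722420, nat_lit 208020), (nat_lit 1728778, nat_lit 475812), (nat_lit 1737489, nat_lit 2425238), (nat_lit 1769924, nat_lit 1410188),
   (nat_lit 1805314, nat_lit 72588), (nat_lit 1836419, nat_lit 1315526), (nat_lit 1839388, nat_lit 804052), (nat_lit 1849378, nat_lit 535268),
   (nat_lit 1852256, nat_lit 2531524), (nat_lit 1869893, nat_lit 36294), (nat_lit 1903248, nat_lit 3147996), (nat_lit 1975812, nat_lit 2168036),
   (nat_lit 2019456, nat_lit 1769924), (nat_lit 2031657, nat_lit 90318), (nat_lit 2101096, nat_lit 2422785), (nat_lit 2106966, nat_lit 2135601),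
   (nat_lit 2110153, nat_lit 3719203), (nat_lit 2115979, nat_lit 1460739), (nat_lit 2120980, nat_lit 924689), (nat_lit 2121909, nat_lit 1188915),
   (nat_lit 2126890, nat_lit 684577), (nat_lit 2130606, nat_lit 3172097), (nat_lit 2135601, nat_lit 2634003), (nat_lit 2141072, nat_lit 3410225),
   (nat_lit 2147405, nat_lit 185603), (nat_lit 2150610, nat_lit 1737489), (nat_lit 2162811, nat_lit 57883), (nat_lit 2168036, nat_lit 1618953),
   (nat_lit 2173253, nat_lit 298027), (nat_lit 2180760, nat_lit 3297305), (nat_lit 2183687, nat_lit 2754059), (nat_lit 2201890, nat_lit 797449),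
   (nat_lit 2204803, nat_lit 1053483), (nat_lit 2207772, nat_lit 542009), (nat_lit 2220640, nat_lit 2269481), (nat_lit 2229713, nat_lit 1413139),
   (nat_lit 2232654, nat_lit 902657), (nat_lit 2242672, nat_lit 632881), (nat_lit 2245426, nat_lit 2564625), (nat_lit 2255372, nat_lit 2313249),
   (nat_lit 2263063, nat_lit 69395), (nat_lit 2268296, nat_lit 1661185), (nat_lit 2269481, nat_lit 352547), (nat_lit 2296514, nat_lit 3246601),
   (nat_lit 2313249, nat_lit 210955), (nat_lit 2322816, nat_lit 2031657), (nat_lit 2328324, nat_lit 2430217), (nat_lit 2363013, nat_lit 3152963),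
   (nat_lit 2365978, nat_lit 2640465), (nat_lit 2372388, nat_lit 2892897), (nat_lit 2377830, nat_lit 175681), (nat_lit 2384216, nat_lit 442481),
   (nat_lit 2392899, nat_lit 2392899), (nat_lit 2409888, nat_lit 1454401), (nat_lit 2422785, nat_lit 657763), (nat_lit 2425238, nat_lit 1312345),
   (nat_lit 2430217, nat_lit 806987), (nat_lit 2435240, nat_lit 1075305), (nat_lit 2460752, nat_lit 39257), (nat_lit 2491452, nat_lit 95313),
   (nat_lit 2494627, nat_lit 1647171), (nat_lit 2501890, nat_lit 334433), (nat_lit 2512448, nat_lit 2854977), (nat_lit 2531524, nat_lit 1148257),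
   (nat_lit 2564625, nat_lit 2162811), (nat_lit 2605066, nat_lit 213833), (nat_lit 2624690, nat_lit 1063445), (nat_lit 2627629, nat_lit 551943),
   (nat_lit 2631052, nat_lit 1332261), (nat_lit 2634003, nat_lit 786999), (nat_lit 2640465, nat_lit 2263063), (nat_lit 2654580, nat_lit 304405),
   (nat_lit 2664522, nat_lit 52005), (nat_lit 2675464, nat_lit 3031301), (nat_lit 2687905, nat_lit 3416079), (nat_lit 2702848, nat_lit 2627629),
   (nat_lit 2704706, nat_lit 430605), (nat_lit 2738308, nat_lit 1182989), (nat_lit 2754059, nat_lit 2183687), (nat_lit 2757268, nat_lit 3736597),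
   (nat_lit 2769128, nat_lit 1302533), (nat_lit 2810896, nat_lit 201013), (nat_lit 2820376, nat_lit 346141), (nat_lit 2826278, nat_lit 75309),
   (nat_lit 2854977, nat_lit 622863), (nat_lit 2890176, nat_lit 1869893), (nat_lit 2892897, nat_lit 45159), (nat_lit 2908802, nat_lit 3277413),
   (nat_lit 2916505, nat_lit 1065303), (nat_lit 2921478, nat_lit 530245), (nat_lit 2949708, nat_lit 2147405), (nat_lit 2969648, nat_lit 663645),
   (nat_lit 3031301, nat_lit 459847), (nat_lit 3050016, nat_lit 2173253), (nat_lit 3147996, nat_lit 1100945), (nat_lit 3152963, nat_lit 563843),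
   (nat_lit 3154402, nat_lit 1352353), (nat_lit 3168928, nat_lit 3811457), (nat_lit 3172097, nat_lit 2494627), (nat_lit 3179802, nat_lit 283537),
   (nat_lit 3182981, nat_lit 1836419), (nat_lit 3189796, nat_lit 15777), (nat_lit 3216208, nat_lit 2916505), (nat_lit 3227948, nat_lit 418953),
   (nat_lit 3237906, nat_lit 133817), (nat_lit 3246601, nat_lit 2115979), (nat_lit 3277413, nat_lit 2204803), (nat_lit 3294342, nat_lit 1250945),
   (nat_lit 3297305, nat_lit 737427), (nat_lit 3322370, nat_lit 2687905), (nat_lit 3328320, nat_lit 493953), (nat_lit 3351624, nat_lit 118953),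
   (nat_lit 3375280, nat_lit 1122713), (nat_lit 3410225, nat_lit 272595), (nat_lit 3416079, nat_lit 18147), (nat_lit 3421328, nat_lit 1577201),
   (nat_lit 3444840, nat_lit 582081), (nat_lit 3457556, nat_lit 2229713), (nat_lit 3474978, nat_lit 2110153), (nat_lit 3489985, nat_lit 1212619),
   (nat_lit 3539848, nat_lit 3489985), (nat_lit 3610628, nat_lit 593097), (nat_lit 3672838, nat_lit 2363013), (nat_lit 3678776, nat_lit 2121909),
   (nat_lit 3698756, nat_lit 689317), (nat_lit 3704512, nat_lit 3182981), (nat_lit 3719203, nat_lit 140167), (nat_lit 3736597, nat_lit 5279),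
   (nat_lit 3739786, nat_lit 1589901), (nat_lit 3806496, nat_lit 864389), (nat_lit 3811457, nat_lit 1116327), (nat_lit 3951624, nat_lit 153797),
   (nat_lit 4038912, nat_lit 262637), (nat_lit 4063314, nat_lit 99029), (nat_lit 4196943, nat_lit 6344194), (nat_lit 4202192, nat_lit 7903248),
   (nat_lit 4203377, nat_lit 6594610), (nat_lit 4213932, nat_lit 5405696), (nat_lit 4216883, nat_lit 4860434), (nat_lit 4220306, nat_lit 5640752),
   (nat_lit 4223245, nat_lit 5129250), (nat_lit 4229001, nat_lit 7622914), (nat_lit 4231958, nat_lit 7079696), (nat_lit 4241960, nat_lit 6842656),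
   (nat_lit 4243818, nat_lit 4645632), (nat_lit 4253780, nat_lit 4361520), (nat_lit 4261212, nat_lit 4510744), (nat_lit 4264387, nat_lit 6062602),
   (nat_lit 4271202, nat_lit 4241960), (nat_lit 4282144, nat_lit 7221256), (nat_lit 4287105, nat_lit 7473194), (nat_lit 4294810, nat_lit 5262104),
   (nat_lit 4299781, nat_lit 4726026), (nat_lit 4301220, nat_lit 5514536), (nat_lit 4325622, nat_lit 5350928), (nat_lit 4330601, nat_lit 4845570),
   (nat_lit 4336072, nat_lit 5621792), (nat_lit 4343317, nat_lit 6493202), (nat_lit 4346506, nat_lit 8077824), (nat_lit 4361520, nat_lit 4536592),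
   (nat_lit 4367374, nat_lit 4282144), (nat_lit 4370577, nat_lit 5833010), (nat_lit 4403780, nat_lit 6915112), (nat_lit 4409606, nat_lit 4656648),
   (nat_lit 4415544, nat_lit 4415544), (nat_lit 4424227, nat_lit 6365962), (nat_lit 4441280, nat_lit 5476616), (nat_lit 4459426, nat_lit 7612992),
   (nat_lit 4465308, nat_lit 7357552), (nat_lit 4470275, nat_lit 6820450), (nat_lit 4476225, nat_lit 4626498), (nat_lit 4485344, nat_lit 5939296),
   (nat_lit 4490852, nat_lit 6337856), (nat_lit 4505735, nat_lit 5375810), (nat_lit 4510744, nat_lit 4870480), (nat_lit 4523185, nat_lit 5255258),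
   (nat_lit 4526126, nat_lit 4744776), (nat_lit 4536592, nat_lit 4982904), (nat_lit 4538962, nat_lit 6455896), (nat_lit 4563017, nat_lit 4243818),
   (nat_lit 4587803, nat_lit 4538962), (nat_lit 4593028, nat_lit 6100032), (nat_lit 4597797, nat_lit 4271202), (nat_lit 4626498, nat_lit 4819776),
   (nat_lit 4645632, nat_lit 6750560), (nat_lit 4656648, nat_lit 6379592), (nat_lit 4721045, nat_lit 5508118), (nat_lit 4726026, nat_lit 5003780),
   (nat_lit 4726955, nat_lit 5268006), (nat_lit 4731956, nat_lit 4731956), (nat_lit 4744776, nat_lit 6475812), (nat_lit 4752467, nat_lit 4231958),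
   (nat_lit 4755660, nat_lit 5817604), (nat_lit 4768432, nat_lit 7479572), (nat_lit 4785798, nat_lit 7345676), (nat_lit 4788761, nat_lit 6832158),
   (nat_lit 4800613, nat_lit 4367374), (nat_lit 4819776, nat_lit 6588684), (nat_lit 4845570, nat_lit 4850476), (nat_lit 4850476, nat_lit 6644740),
   (nat_lit 4860434, nat_lit 6359604), (nat_lit 4870480, nat_lit 5210132), (nat_lit 4900873, nat_lit 4409606), (nat_lit 4921504, nat_lit 5842956),
   (nat_lit 4924673, nat_lit 4526126), (nat_lit 4982904, nat_lit 4253780), (nat_lit 4989254, nat_lit 4490852), (nat_lit 5003780, nat_lit 6949956),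
   (nat_lit 5017889, nat_lit 4989254), (nat_lit 5024896, nat_lit 5249380), (nat_lit 5063048, nat_lit 5652556), (nat_lit 5112513, nat_lit 7438406),
   (nat_lit 5129250, nat_lit 4403780), (nat_lit 5210132, nat_lit 4261212), (nat_lit 5249380, nat_lit 5024896), (nat_lit 5252293, nat_lit 5280930),
   (nat_lit 5255258, nat_lit 4768432), (nat_lit 5262104, nat_lit 6703248), (nat_lit 5268006, nat_lit 6432416), (nat_lit 5275709, nat_lit 4220306),
   (nat_lit 5280930, nat_lit 5780352), (nat_lit 5286147, nat_lit 4459426), (nat_lit 5296705, nat_lit 6979970), (nat_lit 5309160, nat_lit 7397512),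
   (nat_lit 5325835, nat_lit 4346506), (nat_lit 5329044, nat_lit 5899416), (nat_lit 5350928, nat_lit 6295992), (nat_lit 5375810, nat_lit 6656640),
   (nat_lit 5390753, nat_lit 5709954), (nat_lit 5405696, nat_lit 4921504), (nat_lit 5409412, nat_lit 7409024), (nat_lit 5441617, nat_lit 4294810),
   (nat_lit 5476616, nat_lit 5063048), (nat_lit 5508118, nat_lit 4202192), (nat_lit 5511305, nat_lit 5785794), (nat_lit 5514536, nat_lit 4485344),
   (nat_lit 5538256, nat_lit 5538256), (nat_lit 5571333, nat_lit 6554826), (nat_lit 5621792, nat_lit 4336072), (nat_lit 5640752, nat_lit 6889680),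
   (nat_lit 5652556, nat_lit 4441280), (nat_lit 5709954, nat_lit 5309160), (nat_lit 5770785, nat_lit 6305926), (nat_lit 5780352, nat_lit 8126628),
   (nat_lit 5785794, nat_lit 5409412), (nat_lit 5817604, nat_lit 4593028), (nat_lit 5833010, nat_lit 4465308), (nat_lit 5842956, nat_lit 4213932),
   (nat_lit 5899416, nat_lit 5329044), (nat_lit 5902343, nat_lit 4785798), (nat_lit 5939296, nat_lit 4301220), (nat_lit 6053905, nat_lit 4325622),
   (nat_lit 6062602, nat_lit 6308804), (nat_lit 6100032, nat_lit 4755660), (nat_lit 6292775, nat_lit 4470275), (nat_lit 6295992, nat_lit 6053905),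
   (nat_lit 6302745, nat_lit 4216883), (nat_lit 6305926, nat_lit 5770785), (nat_lit 6308804, nat_lit 7767041), (nat_lit 6326497, nat_lit 5286147),
   (nat_lit 6337856, nat_lit 5017889), (nat_lit 6344194, nat_lit 6429441), (nat_lit 6359604, nat_lit 6302745), (nat_lit 6365962, nat_lit 6570537),
   (nat_lit 6379592, nat_lit 4900873), (nat_lit 6406417, nat_lit 4587803), (nat_lit 6429441, nat_lit 7145475), (nat_lit 6432416, nat_lit 7417889),
   (nat_lit 6447171, nat_lit 4424227), (nat_lit 6455896, nat_lit 6406417), (nat_lit 6475812, nat_lit 4924673), (nat_lit 6488205, nat_lit 5325835),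
   (nat_lit 6493202, nat_lit 4788761), (nat_lit 6554826, nat_lit 5296705), (nat_lit 6557781, nat_lit 4752467), (nat_lit 6570537, nat_lit 6447171),
   (nat_lit 6588684, nat_lit 4476225), (nat_lit 6594610, nat_lit 4203377), (nat_lit 6644740, nat_lit 4330601), (nat_lit 6656640, nat_lit 7864649),
   (nat_lit 6703248, nat_lit 5441617), (nat_lit 6750560, nat_lit 4563017), (nat_lit 6820450, nat_lit 6857221), (nat_lit 6832158, nat_lit 4343317),
   (nat_lit 6837377, nat_lit 5902343), (nat_lit 6842656, nat_lit 4597797), (nat_lit 6857221, nat_lit 6292775), (nat_lit 6889680, nat_lit 5275709),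
   (nat_lit 6915112, nat_lit 4223245), (nat_lit 6949956, nat_lit 4299781), (nat_lit 6979970, nat_lit 5571333), (nat_lit 7079696, nat_lit 6557781),
   (nat_lit 7145475, nat_lit 4196943), (nat_lit 7221256, nat_lit 4800613), (nat_lit 7340691, nat_lit 7340691), (nat_lit 7345676, nat_lit 6837377),
   (nat_lit 7357552, nat_lit 4370577), (nat_lit 7397512, nat_lit 5390753), (nat_lit 7409024, nat_lit 5511305), (nat_lit 7417889, nat_lit 4726955),
   (nat_lit 7438406, nat_lit 4229001), (nat_lit 7473194, nat_lit 4287105), (nat_lit 7479572, nat_lit 4523185), (nat_lit 7612992, nat_lit 6326497),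
   (nat_lit 7622914, nat_lit 5112513), (nat_lit 7767041, nat_lit 4264387), (nat_lit 7864649, nat_lit 4505735), (nat_lit 7903248, nat_lit 4721045),
   (nat_lit 8077824, nat_lit 6488205), (nat_lit 8126628, nat_lit 5252293)]

end Cfsg.Agent.Lib.Helper66.M23LiftData
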