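import Cfsg.Agent.Lib.Helper66.M23Ext
import Cfsg.Agent.Lib.Helper66.M23LiftData

set_option autoImplicit false

/-!
# Explicit elements of the group of signed permutations

An element of `Esub` is built from a table, its inverse table, a table of signs and the list
of the octads with their images, checked by computation (`LiftOK`).  The checks are written
with recursors and the basic operations on natural numbers, which the kernel evaluates quickly.
-/

namespace Cfsg.Agent.Lib.Helper66.M23Lift

open Cfsg Cfsg.Spor Cfsg.Agent.Lib.Helper7.GolayBase Cfsg.Agent.Lib.Helper7.GolayCode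
  Cfsg.Agent.Lib.Helper7.GolayPerm Cfsg.Agent.Lib.Helper7.ChainGen
  Cfsg.Agent.Lib.Helper86.TabGrp Cfsg.Agent.Lib.Helper86.TabMathieu
  Cfsg.Agent.Lib.Helper66.M23ExtData Cfsg.Agent.Lib.Helper66.M23Ext

/-! ### Images of masks -/

theorem permMask_xor (t' : List Nat) (a b : Nat) :
    permMask t' (a ^^^ b) = permMask t' a ^^^ permMask t' b := by
  apply Nat.eq_of_testBit_eq
  intro j
  unfold permMask
  rw [Nat.testBit_xor, Nat.testBit_ofBits, Nat.testBit_ofBits, Nat.testBit_ofBits]
  by_cases hj : j < 24 <;> simp [hj]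

theorem permMask_cancel {t t' : List Nat} (h : invOK t t' = true) {m : Nat} (hm : m < 2 ^ 24) :
    permMask t (permMask t' m) = m := by
  apply Nat.eq_of_testBit_eq
  intro j
  unfold permMask
  rw [Nat.testBit_ofBits]
  by_cases hj : j < 24
  · rw [dif_pos hj]
    have hs := (invOK_spec h).2.2 j hj
    show (Nat.ofBits fun j : Fin 24 => m.testBit (t'.getD j 0)).testBit (t.getD j 0) = m.testBit j
    rw [Nat.testBit_ofBits, dif_pos hs.1]
    show m.testBit (t'.getD (t.getD j 0) 0) = m.testBit j
    rw [hs.2.1]
  · rw [dif_neg hj]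
    exact (Nat.testBit_lt_two_pow
      (lt_of_lt_of_le hm (Nat.pow_le_pow_right (by norm_num) (by omega)))).symm

theorem maps_permMask {g : Equiv.Perm GolayPt} {t' : List Nat} (hr : Rep g⁻¹ t') (m : Nat) :
    Maps g m (permMask t' m) := by
  intro p
  unfold permMask
  rw [Nat.testBit_ofBits, dif_pos (idx_lt _)]
  show m.testBit (t'.getD (idx (g p)) 0) = m.testBit (idx p)
  rw [hr.2 (g p)]
  show m.testBit (idx (g.symm (g p))) = m.testBit (idx p)
  rw [Equiv.symm_apply_apply]

/-! ### Iteration by recursors -/

/-- All elements of a list pass a test. -/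
noncomputable def allR {α : Type} (p : α → Bool) (l : List α) : Bool :=
  List.rec (motive := fun _ => Bool) true
    (fun h _ ih => Bool.rec (motive := fun _ => Bool) false ih (p h)) l

theorem allR_cons {α : Type} (p : α → Bool) (x : α) (xs : List α) :
    allR p (x :: xs) = (p x && allR p xs) := by
  show Bool.rec (motive := fun _ => Bool) false (allR p xs) (p x) = _
  cases p x <;> rfl

theorem allR_spec {α : Type} {p : α → Bool} {l : List α} (h : allR p l = true) :
    ∀ x ∈ l, p x = true := by
  induction l with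
  | nil => intro x hx; simp at hx
  | cons y ys ih =>
    rw [allR_cons, Bool.and_eq_true] at h
    intro x hx
    rcases List.mem_cons.mp hx with rfl | hx
    · exact h.1
    · exact ih h.2 x hx

/-- All pairs of elements of a list, the first one coming first, pass a test. -/
noncomputable def pairsR {α : Type} (f : α → α → Bool) (l : List α) : Bool :=
  List.rec (motive := fun _ => Bool) true
    (fun x xs ih => Bool.rec (motive := fun _ => Bool) false ih (allR (f x) xs)) l

theorem pairsR_cons {α : Type} (f : α → α → Bool) (x : α) (xs : List α) :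
    pairsR f (x :: xs) = (allR (f x) xs && pairsR f xs) := by
  show Bool.rec (motive := fun _ => Bool) false (pairsR f xs) (allR (f x) xs) = _
  cases allR (f x) xs <;> rfl

theorem pairsR_spec {α : Type} {f : α → α → Bool} {l : List α} (h : pairsR f l = true) :
    ∀ a ∈ l, ∀ b ∈ l, a ≠ b → f a b = true ∨ f b a = true := by
  induction l with
  | nil => intro a ha; simp at ha
  | cons y ys ih =>
    rw [pairsR_cons, Bool.and_eq_true] at h
    intro a ha b hb hab
    rcases List.mem_cons.mp ha with ha' | ha'
    · rcases List.mem_cons.mp hb with hb' | hb'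
      · exact absurd (ha'.trans hb'.symm) hab
      · rw [ha']
        exact Or.inl (allR_spec h.1 b hb')
    · rcases List.mem_cons.mp hb with hb' | hb'
      · rw [hb']
        exact Or.inr (allR_spec h.1 a ha')
      · exact ih h.2 a ha' b hb' hab

/-- Membership in a list of numbers. -/
noncomputable def memR (x : Nat) (l : List Nat) : Bool :=
  List.rec (motive := fun _ => Bool) false
    (fun h _ ih => Bool.rec (motive := fun _ => Bool) ih true (Nat.beq x h)) l

theorem memR_cons (x y : Nat) (ys : List Nat) :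
    memR x (y :: ys) = (Nat.beq x y || memR x ys) := by
  show Bool.rec (motive := fun _ => Bool) (memR x ys) true (Nat.beq x y) = _
  cases Nat.beq x y <;> rfl

theorem memR_spec {x : Nat} {l : List Nat} (h : memR x l = true) : x ∈ l := by
  induction l with
  | nil =>
    have h' : false = true := h
    exact Bool.noConfusion h'
  | cons y ys ih =>
    rw [memR_cons, Bool.or_eq_true] at h
    rcases h with h | h
    · exact List.mem_cons.mpr (Or.inl (Nat.eq_of_beq_eq_true h))
    · exact List.mem_cons.mpr (Or.inr (ih h))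

/-! ### Bits -/

/-- A bit of a number, as a number. -/
def bitN (m i : Nat) : Nat := Nat.land (Nat.shiftRight m i) (nat_lit 1)

theorem bitN_eq (m i : Nat) : bitN m i = (m >>> i) % 2 := by
  show (m >>> i) &&& 1 = _
  exact Nat.and_one_is_mod _

theorem bitN_lt (m i : Nat) : bitN m i < 2 := by
  rw [bitN_eq]
  exact Nat.mod_lt _ (by norm_num)

theorem testBit_eq (m i : Nat) : m.testBit i = Nat.beq (bitN m i) 1 := by
  rw [bitN_eq, Nat.testBit_eq_decide_div_mod_eq, Nat.shiftRight_eq_div_pow]
  rcases Nat.mod_two_eq_zero_or_one (m / 2 ^ i) with h | h <;> rw [h] <;> rfl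

/-- A number as an element of `ZMod 2`: one exactly when the number is one. -/
def bz (n : Nat) : ZMod 2 := b2z (Nat.beq n 1)

/-- The sign table, as a number. -/
def tauN (a b : Nat) : Nat :=
  bitN parT (Nat.land (Nat.mod (Nat.shiftRight thetaT (Nat.mul (nat_lit 11)
    (Nat.mod a (nat_lit 2048)))) (nat_lit 2048)) b)

theorem tau_eq (a b : Nat) : tau a b = Nat.beq (tauN a b) 1 := by
  unfold tau
  rw [testBit_eq]
  rfl

theorem b2z_tau (a b : Nat) : b2z (tau a b) = bz (tauN a b) := by
  rw [tau_eq]
  rfl

/-- A necessary condition for being an octad avoiding the extra point, as a number. -/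
def isON (m : Nat) : Nat := bitN octBits (Nat.mod m (nat_lit 2048))

/-- The sign of an octad in a lift, as a number. -/
def eN (eps m : Nat) : Nat := bitN eps (Nat.mod m (nat_lit 2048))

theorem isON_mem : ∀ m ∈ oct, isON m = 1 := by decide +kernel

/-! ### The symmetry of the sign table -/

/-- The test of the symmetry of the sign table on a pair of octads. -/
noncomputable def symPair (a b : Nat) : Bool :=
  Bool.rec (motive := fun _ => Bool) (Nat.beq (tauN a b) (tauN b a)) true
    (Nat.beq (isON (Nat.xor a b)) (nat_lit 0))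

theorem symPair_spec {a b : Nat} (h : symPair a b = true) (ho : isON (a ^^^ b) = 1) :
    tauN a b = tauN b a := by
  unfold symPair at h
  have h0 : Nat.beq (isON (Nat.xor a b)) (nat_lit 0) = false := by
    show Nat.beq (isON (a ^^^ b)) 0 = false
    rw [ho]
    rfl
  rw [h0] at h
  exact Nat.eq_of_beq_eq_true h

set_option maxRecDepth 100000 in
theorem sym_chk : pairsR symPair oct = true := by decide +kernel

theorem tau_symm {a b : Nat} (ha : a ∈ oct) (hb : b ∈ oct) (hab : a ^^^ b ∈ oct) :
    tau a b = tau b a := by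
  have hne : a ≠ b := by
    rintro rfl
    rw [Nat.xor_self] at hab
    exact zero_not_mem_oct hab
  rw [tau_eq, tau_eq]
  rcases pairsR_spec sym_chk a ha b hb hne with h | h
  · rw [symPair_spec h (isON_mem _ hab)]
  · rw [symPair_spec h (isON_mem _ (by rw [Nat.xor_comm]; exact hab))]

/-! ### The checks of a lift -/

/-- The test of the signs of a lift on a pair of octads with their images. -/
noncomputable def chkPair (eps : Nat) (p q : Nat × Nat) : Bool :=
  Bool.rec (motive := fun _ => Bool)
    (Nat.beq (Nat.xor (Nat.xor (Nat.xor (eN eps p.1) (eN eps q.1)) (eN eps (Nat.xor p.1 q.1)))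
      (Nat.xor (tauN p.1 q.1) (tauN p.2 q.2))) (nat_lit 0))
    true
    (Nat.beq (isON (Nat.xor p.1 q.1)) (nat_lit 0))

theorem bits_add : ∀ x y z u v : Fin 2,
    Nat.beq (Nat.xor (Nat.xor (Nat.xor x.1 y.1) z.1) (Nat.xor u.1 v.1)) 0 = true →
      bz x.1 + bz y.1 + bz z.1 = bz u.1 + bz v.1 := by decide +kernel

theorem chkPair_spec {eps : Nat} {p q : Nat × Nat} (h : chkPair eps p q = true)
    (ho : isON (p.1 ^^^ q.1) = 1) :
    bz (eN eps p.1) + bz (eN eps q.1) + bz (eN eps (p.1 ^^^ q.1)) =
      bz (tauN p.1 q.1) + bz (tauN p.2 q.2) := by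
  unfold chkPair at h
  have h0 : Nat.beq (isON (Nat.xor p.1 q.1)) (nat_lit 0) = false := by
    show Nat.beq (isON (p.1 ^^^ q.1)) 0 = false
    rw [ho]
    rfl
  rw [h0] at h
  exact bits_add ⟨_, bitN_lt _ _⟩ ⟨_, bitN_lt _ _⟩ ⟨_, bitN_lt _ _⟩ ⟨_, bitN_lt _ _⟩
    ⟨_, bitN_lt _ _⟩ h

/-- The test that the bits of `m'` are those of `m` moved by a table. -/
def bitsOK (m m' : Nat) : List Nat → Nat → Bool
  | [], _ => true
  | i :: is, j => Nat.beq (bitN m' j) (bitN m i) && bitsOK m m' is (j + 1)

theorem bitsOK_spec (m m' : Nat) : ∀ (t : List Nat) (j : Nat), bitsOK m m' t j = true →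
    ∀ k, k < t.length → bitN m' (j + k) = bitN m (t.getD k 0) := by
  intro t
  induction t with
  | nil => intro j _ k hk; simp at hk
  | cons i is ih =>
    intro j h k hk
    simp only [bitsOK, Bool.and_eq_true] at h
    cases k with
    | zero => exact Nat.eq_of_beq_eq_true h.1
    | succ k =>
      have := ih (j + 1) h.2 k (by simpa using hk)
      rw [List.getD_cons_succ, ← this]
      congr 1
      omega

theorem img_eq {m m' : Nat} {t' : List Nat} (h : bitsOK m m' t' 0 = true) (hl : t'.length = 24)
    (hm' : m' < 2 ^ 24) : m' = permMask t' m := by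
  apply Nat.eq_of_testBit_eq
  intro j
  unfold permMask
  rw [Nat.testBit_ofBits]
  by_cases hj : j < 24
  · rw [dif_pos hj]
    show m'.testBit j = m.testBit (t'.getD j 0)
    have := bitsOK_spec m m' t' 0 h j (by omega)
    rw [zero_add] at this
    rw [testBit_eq, testBit_eq, this]
  · rw [dif_neg hj]
    exact Nat.testBit_lt_two_pow
      (lt_of_lt_of_le hm' (Nat.pow_le_pow_right (by norm_num) (by omega)))

/-- The test of an octad with its image. -/
noncomputable def imgOK (t' : List Nat) (p : Nat × Nat) : Bool :=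
  bitsOK p.1 p.2 t' 0 && memR p.2 oct

/-- The checks making a table with signs an element of the group. -/
structure LiftOK (t t' : List Nat) (eps : Nat) (prs : List (Nat × Nat)) : Prop where
  inv : invOK t t' = true
  m24 : inM24T t' = true
  fix : t.getD 23 0 = 23
  fst : prs.map Prod.fst = oct
  img : allR (imgOK t') prs = true
  chk : pairsR (chkPair eps) prs = true

variable {t t' : List Nat} {eps : Nat} {prs : List (Nat × Nat)}

theorem LiftOK.pair_mem (h : LiftOK t t' eps prs) {m : Nat} (hm : m ∈ oct) :
    (m, permMask t' m) ∈ prs ∧ permMask t' m ∈ oct := by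
  rw [← h.fst] at hm
  obtain ⟨p, hp, rfl⟩ := List.mem_map.mp hm
  have h1 := allR_spec h.img p hp
  unfold imgOK at h1
  rw [Bool.and_eq_true] at h1
  have hmem : p.2 ∈ oct := memR_spec h1.2
  have heq : p.2 = permMask t' p.1 := img_eq h1.1 (invOK_spec h.inv).2.1 (oct_lt _ hmem)
  rw [← heq]
  exact ⟨hp, hmem⟩

theorem chk_sound (h : LiftOK t t' eps prs) : ∀ a ∈ oct, ∀ b ∈ oct, a ^^^ b ∈ oct →
    bz (eN eps a) + bz (eN eps b) + bz (eN eps (a ^^^ b)) =
      b2z (tau a b) + b2z (tau (permMask t' a) (permMask t' b)) := by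
  intro a ha b hb hab
  have hne : a ≠ b := by
    rintro rfl
    rw [Nat.xor_self] at hab
    exact zero_not_mem_oct hab
  have hpa := (h.pair_mem ha).1
  have hpb := (h.pair_mem hb).1
  have hne' : (a, permMask t' a) ≠ (b, permMask t' b) := fun e => hne (congrArg Prod.fst e)
  rcases pairsR_spec h.chk _ hpa _ hpb hne' with h1 | h1
  · have := chkPair_spec h1 (isON_mem _ hab)
    rw [b2z_tau, b2z_tau]
    exact this
  · have hba : b ^^^ a ∈ oct := by rw [Nat.xor_comm]; exact hab
    have := chkPair_spec h1 (isON_mem _ hba)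
    have hi : permMask t' a ^^^ permMask t' b ∈ oct := by
      rw [← permMask_xor]
      exact (h.pair_mem hab).2
    rw [tau_symm ha hb hab, tau_symm (h.pair_mem ha).2 (h.pair_mem hb).2 hi, b2z_tau, b2z_tau,
      Nat.xor_comm a b, add_comm (bz (eN eps a))]
    exact this

/-- The permutation of the points of a lift. -/
def liftG (h : LiftOK t t' eps prs) : Equiv.Perm GolayPt := ofT t t' h.inv

theorem rep_liftG (h : LiftOK t t' eps prs) : Rep (liftG h) t := rep_ofT t t' h.inv

theorem rep_liftG_inv (h : LiftOK t t' eps prs) : Rep (liftG h)⁻¹ t' := rep_ofT_inv t t' h.inv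

theorem liftG_mem (h : LiftOK t t' eps prs) : liftG h ∈ M23 := by
  rw [M23_eq]
  refine ⟨mem_M24_of_table (rep_liftG h) (fun i hi => ((invOK_spec h.inv).2.2 i hi).2.1) h.m24, ?_⟩
  intro f hf
  rw [List.mem_singleton] at hf
  subst hf
  exact (rep_liftG h).apply_eq (by norm_num) h.fix

/-- The map of the signed octads of a lift. -/
def liftFun (h : LiftOK t t' eps prs) (x : X) : X :=
  (⟨permMask t' x.1.1, (h.pair_mem x.1.2).2⟩, x.2 + bz (eN eps x.1.1))

theorem liftFun_fst (h : LiftOK t t' eps prs) (x : X) :
    ((liftFun h x).1 : Nat) = permMask t' x.1.1 := rfl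

theorem liftFun_snd (h : LiftOK t t' eps prs) (x : X) :
    (liftFun h x).2 = x.2 + bz (eN eps x.1.1) := rfl

theorem liftFun_inj (h : LiftOK t t' eps prs) : Function.Injective (liftFun h) := by
  intro x y hxy
  have h1 : permMask t' x.1.1 = permMask t' y.1.1 := by
    rw [← liftFun_fst h x, ← liftFun_fst h y, hxy]
  have h2 : x.2 + bz (eN eps x.1.1) = y.2 + bz (eN eps y.1.1) := by
    rw [← liftFun_snd h x, ← liftFun_snd h y, hxy]
  have h3 : x.1.1 = y.1.1 := by
    have := congrArg (permMask t) h1
    rwa [permMask_cancel h.inv (oct_lt _ x.1.2), permMask_cancel h.inv (oct_lt _ y.1.2)] at this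
  apply Prod.ext
  · exact Subtype.ext h3
  · rw [h3] at h2
    exact add_right_cancel h2

/-- The signed permutation of a lift. -/
noncomputable def liftF (h : LiftOK t t' eps prs) : Equiv.Perm X :=
  Equiv.ofBijective (liftFun h) ⟨liftFun_inj h, Finite.surjective_of_injective (liftFun_inj h)⟩

theorem liftF_fst (h : LiftOK t t' eps prs) (x : X) :
    ((liftF h x).1 : Nat) = permMask t' x.1.1 := rfl

theorem liftF_snd (h : LiftOK t t' eps prs) (x : X) :
    (liftF h x).2 = x.2 + bz (eN eps x.1.1) := rfl

theorem z_lift : ∀ s1 s2 s3 ea eb ec t t' : ZMod 2, ea + eb + ec = t + t' →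
    (s1 + s2 + s3 = t ↔ (s1 + ea) + (s2 + eb) + (s3 + ec) = t') := by decide +kernel

theorem lift_mem (h : LiftOK t t' eps prs) : (liftG h, liftF h) ∈ Esub := by
  refine ⟨liftG_mem h, fun x => maps_permMask (rep_liftG_inv h) x.1.1, ?_, ?_⟩
  · intro x
    apply Prod.ext
    · rfl
    · rw [liftF_snd, flip_snd, flip_snd, liftF_snd, flip_fst, add_right_comm]
  · intro x y z
    unfold good
    rw [liftF_fst, liftF_fst, liftF_fst, liftF_snd, liftF_snd, liftF_snd]
    have ha := x.1.2
    have hb := y.1.2
    have hc := z.1.2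
    have hx : (permMask t' x.1.1 ^^^ permMask t' y.1.1 = permMask t' z.1.1) ↔
        (x.1.1 ^^^ y.1.1 = z.1.1) := by
      constructor
      · intro h1
        rw [← permMask_xor] at h1
        have h2 := congrArg (permMask t) h1
        rw [permMask_cancel h.inv (Nat.xor_lt_two_pow (oct_lt _ ha) (oct_lt _ hb)),
          permMask_cancel h.inv (oct_lt _ hc)] at h2
        exact h2
      · intro h1
        rw [← h1, permMask_xor]
    constructor
    · rintro ⟨h1, h2⟩
      refine ⟨hx.mpr h1, ?_⟩
      have hs := chk_sound h _ ha _ hb (h1 ▸ hc)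
      rw [h1] at hs
      exact (z_lift _ _ _ _ _ _ _ _ hs).mp h2
    · rintro ⟨h1, h2⟩
      have h1' := hx.mp h1
      refine ⟨h1', ?_⟩
      have hs := chk_sound h _ ha _ hb (h1' ▸ hc)
      rw [h1'] at hs
      exact (z_lift _ _ _ _ _ _ _ _ hs).mpr h2

/-- The element of the group attached to a lift. -/
noncomputable def liftElt (h : LiftOK t t' eps prs) : ↥Esub := ⟨(liftG h, liftF h), lift_mem h⟩

theorem liftElt_coe (h : LiftOK t t' eps prs) :
    (liftElt h : Equiv.Perm GolayPt × Equiv.Perm X) = (liftG h, liftF h) := rfl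

theorem pr_liftElt (h : LiftOK t t' eps prs) :
    ((pr (liftElt h) : ↥M23) : Equiv.Perm GolayPt) = liftG h := rfl

end Cfsg.Agent.Lib.Helper66.M23Lift
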