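import Cfsg.Agent.Lib.Helper66.M23Lift

set_option autoImplicit false

/-!
# Three elements of the group of signed permutations

The checks of the lifts of three permutations in `M23`.
-/

namespace Cfsg.Agent.Lib.Helper66.M23Lifts

open Cfsg Cfsg.Spor Cfsg.Agent.Lib.Helper7.GolayPerm
  Cfsg.Agent.Lib.Helper86.TabGrp Cfsg.Agent.Lib.Helper86.TabMathieu
  Cfsg.Agent.Lib.Helper66.M23ExtData Cfsg.Agent.Lib.Helper66.M23LiftData
  Cfsg.Agent.Lib.Helper66.M23Ext Cfsg.Agent.Lib.Helper66.M23Lift

set_option maxRecDepth 100000 in
theorem okSh : LiftOK shT shIT epsSh qSh :=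
  ⟨by decide +kernel, by decide +kernel, by decide +kernel, by decide +kernel, by decide +kernel,
    by decide +kernel⟩

set_option maxRecDepth 100000 in
theorem okA : LiftOK aT aIT epsA qA :=
  ⟨by decide +kernel, by decide +kernel, by decide +kernel, by decide +kernel, by decide +kernel,
    by decide +kernel⟩

set_option maxRecDepth 100000 in
theorem okB : LiftOK bT bIT epsB qB :=
  ⟨by decide +kernel, by decide +kernel, by decide +kernel, by decide +kernel, by decide +kernel,
    by decide +kernel⟩

end Cfsg.Agent.Lib.Helper66.M23Lifts
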