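import Cfsg.Agent.Lib.Helper66.M23Gen

set_option autoImplicit false

/-!
# The kernel of the projection has no complement

The lifts of two permutations `a`, `b` generating a quaternion group (`a² = b²`, `aba = b`)
cannot be corrected by sign changes so as to satisfy the same relations.
-/

namespace Cfsg.Agent.Lib.Helper66.M23NonSplit

open Cfsg Cfsg.Spor Cfsg.Agent.Lib.Helper7.GolayBase Cfsg.Agent.Lib.Helper7.GolayPerm
  Cfsg.Agent.Lib.Helper86.TabGrp Cfsg.Agent.Lib.Helper86.TabMathieu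
  Cfsg.Agent.Lib.Helper66.M23ExtData
  Cfsg.Agent.Lib.Helper66.M23Ext Cfsg.Agent.Lib.Helper66.M23Lift
  Cfsg.Agent.Lib.Helper66.M23Lifts

/-! ### Permutations of the signed octads with a known action -/

/-- The permutation `P` acts on the masks by `img` and on the signs by adding `s`. -/
def Act (P : Equiv.Perm X) (img : Nat → Nat) (s : Nat → ZMod 2) : Prop :=
  ∀ x : X, ((P x).1 : Nat) = img x.1.1 ∧ (P x).2 = x.2 + s x.1.1

theorem Act.mul {P Q : Equiv.Perm X} {img img' : Nat → Nat} {s s' : Nat → ZMod 2}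
    (hP : Act P img s) (hQ : Act Q img' s') :
    Act (P * Q) (fun m => img (img' m)) (fun m => s' m + s (img' m)) := by
  intro x
  rw [Equiv.Perm.mul_apply]
  refine ⟨?_, ?_⟩
  · rw [(hP _).1, (hQ x).1]
  · rw [(hP _).2, (hQ x).2, (hQ x).1, add_assoc]

theorem Act.eq_snd {P : Equiv.Perm X} {img img' : Nat → Nat} {s s' : Nat → ZMod 2}
    (h : Act P img s) (h' : Act P img' s') {m : Nat} (hm : m ∈ oct) : s m = s' m := by
  have e1 := (h ((⟨m, hm⟩ : OctT), (0 : ZMod 2))).2
  have e2 := (h' ((⟨m, hm⟩ : OctT), (0 : ZMod 2))).2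
  rw [e1] at e2
  exact add_left_cancel e2

variable {t t' : List Nat} {eps : Nat} {prs : List (Nat × Nat)}

theorem act_lift (h : LiftOK t t' eps prs) (w : GolayPt → ZMod 2) :
    Act (liftF h * Fw w) (permMask t') (fun m => pairing w m + bz (eN eps m)) := by
  intro x
  rw [Equiv.Perm.mul_apply]
  refine ⟨?_, ?_⟩
  · rw [liftF_fst, Fw_fst]
  · rw [liftF_snd, Fw_snd, Fw_fst, add_assoc]

/-! ### The two relations -/

theorem zR1 : ∀ a c1 b c2 e c3 g c4 : ZMod 2, (a + c1) + (b + c2) = (e + c3) + (g + c4) →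
    (a + b) + (e + g) = c1 + c2 + c3 + c4 := by decide +kernel

theorem zR2 : ∀ a c1 d c2 b c3 e c4 : ZMod 2, (a + c1) + ((d + c2) + (b + c3)) = e + c4 →
    (a + b) + (d + e) = c1 + c2 + c3 + c4 := by decide +kernel

theorem zC : ∀ a b c d k l : ZMod 2, a + b = k → c + d = l → (a + c) + (b + d) = k + l := by
  decide +kernel

theorem R1 (wa wb : GolayPt → ZMod 2)
    (h1 : (liftF okA * Fw wa) * (liftF okA * Fw wa) = (liftF okB * Fw wb) * (liftF okB * Fw wb))
    {m : Nat} (hm : m ∈ oct) :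
    pairing wa (m ^^^ permMask aIT m) + pairing wb (m ^^^ permMask bIT m) =
      bz (eN epsA m) + bz (eN epsA (permMask aIT m)) + bz (eN epsB m) +
        bz (eN epsB (permMask bIT m)) := by
  have hA := (act_lift okA wa).mul (act_lift okA wa)
  have hB := (act_lift okB wb).mul (act_lift okB wb)
  rw [h1] at hA
  have e := hA.eq_snd hB hm
  rw [pairing_xor, pairing_xor]
  exact zR1 _ _ _ _ _ _ _ _ e

theorem R2 (wa wb : GolayPt → ZMod 2)
    (h2 : (liftF okA * Fw wa) * (liftF okB * Fw wb) * (liftF okA * Fw wa) = liftF okB * Fw wb)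
    {m : Nat} (hm : m ∈ oct) :
    pairing wa (m ^^^ permMask bIT (permMask aIT m)) + pairing wb (permMask aIT m ^^^ m) =
      bz (eN epsA m) + bz (eN epsB (permMask aIT m)) +
        bz (eN epsA (permMask bIT (permMask aIT m))) + bz (eN epsB m) := by
  have hA := ((act_lift okA wa).mul (act_lift okB wb)).mul (act_lift okA wa)
  rw [h2] at hA
  have e := hA.eq_snd (act_lift okB wb) hm
  rw [pairing_xor, pairing_xor]
  exact zR2 _ _ _ _ _ _ _ _ e

theorem comb (wa wb : GolayPt → ZMod 2) {x u x' u' : Nat} {k k' : ZMod 2}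
    (h : pairing wa x + pairing wb u = k) (h' : pairing wa x' + pairing wb u' = k') :
    pairing wa (x ^^^ x') + pairing wb (u ^^^ u') = k + k' := by
  rw [pairing_xor, pairing_xor]
  exact zC _ _ _ _ _ _ h h'

theorem m1_mem : 10558 ∈ oct := by decide +kernel
theorem m2_mem : 18147 ∈ oct := by decide +kernel
theorem m3_mem : 4196943 ∈ oct := by decide +kernel

theorem certA : (((10558 ^^^ permMask aIT 10558) ^^^
    (10558 ^^^ permMask bIT (permMask aIT 10558))) ^^^
    (18147 ^^^ permMask bIT (permMask aIT 18147))) ^^^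
    (4196943 ^^^ permMask bIT (permMask aIT 4196943)) = 0 := by decide +kernel

theorem certB : (((10558 ^^^ permMask bIT 10558) ^^^
    (permMask aIT 10558 ^^^ 10558)) ^^^
    (permMask aIT 18147 ^^^ 18147)) ^^^
    (permMask aIT 4196943 ^^^ 4196943) = 0 := by decide +kernel

theorem certC : (bz (eN epsA 10558) + bz (eN epsA (permMask aIT 10558)) + bz (eN epsB 10558) +
      bz (eN epsB (permMask bIT 10558))) +
    (bz (eN epsA 10558) + bz (eN epsB (permMask aIT 10558)) +
      bz (eN epsA (permMask bIT (permMask aIT 10558))) + bz (eN epsB 10558)) +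
    (bz (eN epsA 18147) + bz (eN epsB (permMask aIT 18147)) +
      bz (eN epsA (permMask bIT (permMask aIT 18147))) + bz (eN epsB 18147)) +
    (bz (eN epsA 4196943) + bz (eN epsB (permMask aIT 4196943)) +
      bz (eN epsA (permMask bIT (permMask aIT 4196943))) + bz (eN epsB 4196943)) = 1 := by
  decide +kernel

/-- The two relations of the quaternion group cannot hold for corrected lifts. -/
theorem core (wa wb : GolayPt → ZMod 2)
    (h1 : (liftF okA * Fw wa) * (liftF okA * Fw wa) = (liftF okB * Fw wb) * (liftF okB * Fw wb))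
    (h2 : (liftF okA * Fw wa) * (liftF okB * Fw wb) * (liftF okA * Fw wa) = liftF okB * Fw wb) :
    False := by
  have e := comb wa wb (comb wa wb (comb wa wb (R1 wa wb h1 m1_mem) (R2 wa wb h2 m1_mem))
    (R2 wa wb h2 m2_mem)) (R2 wa wb h2 m3_mem)
  rw [certA, certB, certC, pairing_mask_zero, pairing_mask_zero, add_zero] at e
  exact zero_ne_one e

/-! ### No complement -/

theorem relAA : liftG okA * liftG okA = liftG okB * liftG okB :=
  Rep.ext ((rep_liftG okA).mul (rep_liftG okA)) (by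
    have h : tmul aT aT = tmul bT bT := by decide
    rw [h]
    exact (rep_liftG okB).mul (rep_liftG okB))

theorem relABA : liftG okA * liftG okB * liftG okA = liftG okB :=
  Rep.ext (((rep_liftG okA).mul (rep_liftG okB)).mul (rep_liftG okA)) (by
    have h : tmul (tmul aT bT) aT = bT := by decide
    rw [h]
    exact rep_liftG okB)

set_option maxRecDepth 100000 in
theorem dv_ok : derivOK bas dvn = true := by decide +kernel

/-- Every element of the kernel of the projection is a sign change attached to a word. -/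
theorem ker_word (u : ↥Esub) (hu : u ∈ pr.ker) :
    ∃ w, (u : Equiv.Perm GolayPt × Equiv.Perm X) = (1, Fw w) := exists_word dv_ok u hu

theorem exists_corr {H : Subgroup ↥Esub} (htop : H ⊔ pr.ker = ⊤) (x : ↥Esub) :
    ∃ h ∈ H, pr h = pr x ∧ ∃ w, (h : Equiv.Perm GolayPt × Equiv.Perm X).2 =
      (x : Equiv.Perm GolayPt × Equiv.Perm X).2 * Fw w := by
  have hx : x ∈ H ⊔ pr.ker := by
    rw [htop]
    exact Subgroup.mem_top x
  obtain ⟨h, hh, n, hn, rfl⟩ := Subgroup.mem_sup_of_normal_right.mp hx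
  obtain ⟨w, hw⟩ := ker_word n⁻¹ (pr.ker.inv_mem hn)
  refine ⟨h, hh, ?_, w, ?_⟩
  · rw [map_mul, MonoidHom.mem_ker.mp hn, mul_one]
  · have h2 : (n : Equiv.Perm GolayPt × Equiv.Perm X).2⁻¹ = Fw w := congrArg Prod.snd hw
    rw [← h2]
    show (h : Equiv.Perm GolayPt × Equiv.Perm X).2 =
      ((h : Equiv.Perm GolayPt × Equiv.Perm X).2 * (n : Equiv.Perm GolayPt × Equiv.Perm X).2) *
        (n : Equiv.Perm GolayPt × Equiv.Perm X).2⁻¹
    rw [mul_assoc, mul_inv_cancel, mul_one]

/-- The kernel of the projection has no complement. -/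
theorem no_complement (H : Subgroup ↥Esub) (hHN : H ⊓ pr.ker = ⊥) : H ⊔ pr.ker ≠ ⊤ := by
  intro htop
  obtain ⟨ha, hha, hpa, wa, hwa⟩ := exists_corr htop (liftElt okA)
  obtain ⟨hb, hhb, hpb, wb, hwb⟩ := exists_corr htop (liftElt okB)
  have r1 : ha * ha = hb * hb := by
    have hmem : ha * ha * (hb * hb)⁻¹ ∈ H ⊓ pr.ker := by
      refine Subgroup.mem_inf.mpr ⟨H.mul_mem (H.mul_mem hha hha) (H.inv_mem (H.mul_mem hhb hhb)), ?_⟩
      rw [MonoidHom.mem_ker, map_mul, map_inv, map_mul, map_mul, hpa, hpb, mul_inv_eq_one]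
      exact Subtype.ext relAA
    rw [hHN, Subgroup.mem_bot] at hmem
    exact mul_inv_eq_one.mp hmem
  have r2 : ha * hb * ha = hb := by
    have hmem : ha * hb * ha * hb⁻¹ ∈ H ⊓ pr.ker := by
      refine Subgroup.mem_inf.mpr ⟨H.mul_mem (H.mul_mem (H.mul_mem hha hhb) hha) (H.inv_mem hhb), ?_⟩
      rw [MonoidHom.mem_ker, map_mul, map_inv, map_mul, map_mul, hpa, hpb, mul_inv_eq_one]
      exact Subtype.ext relABA
    rw [hHN, Subgroup.mem_bot] at hmem
    exact mul_inv_eq_one.mp hmem
  have c1 : (ha : Equiv.Perm GolayPt × Equiv.Perm X).2 * (ha : Equiv.Perm GolayPt × Equiv.Perm X).2 =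
      (hb : Equiv.Perm GolayPt × Equiv.Perm X).2 * (hb : Equiv.Perm GolayPt × Equiv.Perm X).2 :=
    congrArg (fun u : ↥Esub => (u : Equiv.Perm GolayPt × Equiv.Perm X).2) r1
  have c2 : (ha : Equiv.Perm GolayPt × Equiv.Perm X).2 * (hb : Equiv.Perm GolayPt × Equiv.Perm X).2 *
      (ha : Equiv.Perm GolayPt × Equiv.Perm X).2 = (hb : Equiv.Perm GolayPt × Equiv.Perm X).2 :=
    congrArg (fun u : ↥Esub => (u : Equiv.Perm GolayPt × Equiv.Perm X).2) r2
  rw [hwa, hwb] at c1 c2
  exact core wa wb c1 c2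

end Cfsg.Agent.Lib.Helper66.M23NonSplit
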