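import Mathlib
import Cfsg.Agent.Lib.Helper45.OMiStmt
import Cfsg.Agent.Lib.Helper44.NegPairs
import Cfsg.Agent.Lib.Helper66.InvolDec

/-!
# S5991 / INVOLM (call by helper45)

An isometry of the minus form with `x * x = 1` fixes a nondegenerate `m`-space isometric to `W₀`
(`m` odd, `m < d`): the space is the orthogonal sum of the two eigenspaces, one of them has
dimension greater than `m`, and every subspace of an eigenspace is invariant.  Port of
`Cfsg.Agent.Lib.Helper66.OPINVOLP` through the generic `Helper66.InvolDec.dec`.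
-/

set_option autoImplicit false

universe u

open scoped Matrix

namespace Cfsg.Agent.Lib.Helper66.OMiINVOLM

open Cfsg.Agent.Lib.Helper45.OMiStmt
open Cfsg.Agent.Lib.Helper44.NegPairs (minusQ)
open Cfsg.Agent.Lib.Helper66.InvolDec
open QuadraticMap

theorem two_ne_zero_of_odd (F : Type u) [Field F] [Fintype F] (h : Odd (Fintype.card F)) :
    (2 : F) ≠ 0 := by
  apply Ring.two_ne_zero
  intro hc
  have := FiniteField.even_card_iff_char_two.mp hc
  rw [Nat.odd_iff] at h
  omega

theorem pol_zero_left (d : ℕ) (F : Type u) [Field F] (a b : F) (y : M d → F) :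
    polar (Cfsg.quadFormMinus (d - 1) F a b) 0 y = 0 :=
  polar_zero_left (minusQ (d - 1) F a b) y

theorem card_M (d : ℕ) (hd : 1 ≤ d) : Fintype.card (M d) = 2 * d := by
  simp
  omega

theorem main (hOS : OddSubM.{u}) (hTop : TopNDM.{u}) : InvolM.{u} := by
  intro F _ _ hodd d m hd a b hab hm hmd W₀ hW₀dim hW₀nd x hx hx2M
  have h2 : (2 : F) ≠ 0 := two_ne_zero_of_odd F hodd
  have hQ : ∀ u : M d → F, minusQ (d - 1) F a b ((x : Matrix (M d) (M d) F) *ᵥ u)
      = minusQ (d - 1) F a b u := fun u => hx u u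
  have hT : ∀ w : M d → F, w ≠ 0 → ∃ y, polar (minusQ (d - 1) F a b) y w ≠ 0 := by
    intro w hw
    obtain ⟨⟨y, -, hy⟩, -⟩ := hTop F hodd d a b hab w Submodule.mem_top hw
    exact ⟨y, hy⟩
  obtain ⟨hnd₁, hnd₂, -, -, hdim0⟩ :=
    dec (minusQ (d - 1) F a b) h2 hT (x : Matrix (M d) (M d) F) hQ hx2M
  have hdim : Module.finrank F ↥(Ep (x : Matrix (M d) (M d) F)) +
      Module.finrank F ↥(Em (x : Matrix (M d) (M d) F)) = 2 * d := by
    rw [← card_M d hd]
    exact hdim0
  have hnd₁' : NDegM d F a b (Ep (x : Matrix (M d) (M d) F)) := hnd₁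
  have hnd₂' : NDegM d F a b (Em (x : Matrix (M d) (M d) F)) := hnd₂
  have hbot : NDegM d F a b (⊥ : Submodule F (M d → F)) := by
    intro w hw hw0
    exact absurd ((Submodule.mem_bot F).mp hw) hw0
  have horth : ∀ Y : Submodule F (M d → F), ∀ u ∈ (⊥ : Submodule F (M d → F)), ∀ v ∈ Y,
      QuadraticMap.polar (Cfsg.quadFormMinus (d - 1) F a b) u v = 0 := by
    intro Y u hu v _
    rw [(Submodule.mem_bot F).mp hu]
    exact pol_zero_left d F a b v
  have hev : Even (Module.finrank F ↥(⊥ : Submodule F (M d → F))) := by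
    rw [finrank_bot]
    exact ⟨0, rfl⟩
  have hpos : Module.finrank F ↥(⊥ : Submodule F (M d → F)) < m := by
    rw [finrank_bot]
    obtain ⟨k, rfl⟩ := hm
    omega
  have hcase : m < Module.finrank F ↥(Ep (x : Matrix (M d) (M d) F)) ∨
      m < Module.finrank F ↥(Em (x : Matrix (M d) (M d) F)) := by omega
  rcases hcase with h | h
  · have h' : m - Module.finrank F ↥(⊥ : Submodule F (M d → F)) <
        Module.finrank F ↥(Ep (x : Matrix (M d) (M d) F)) := by
      rw [finrank_bot]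
      exact h
    obtain ⟨W₁, hW₁Y, hMem⟩ := hOS F hodd d m a b hab hm W₀ hW₀dim hW₀nd ⊥ _ hbot hnd₁'
      (horth _) hev hpos h'
    rw [bot_sup_eq] at hMem
    exact ⟨W₁, hMem, map_le_of_le_Ep _ W₁ hW₁Y⟩
  · have h' : m - Module.finrank F ↥(⊥ : Submodule F (M d → F)) <
        Module.finrank F ↥(Em (x : Matrix (M d) (M d) F)) := by
      rw [finrank_bot]
      exact h
    obtain ⟨W₁, hW₁Y, hMem⟩ := hOS F hodd d m a b hab hm W₀ hW₀dim hW₀nd ⊥ _ hbot hnd₂'
      (horth _) hev hpos h'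
    rw [bot_sup_eq] at hMem
    exact ⟨W₁, hMem, map_le_of_le_Em _ W₁ hW₁Y⟩

end Cfsg.Agent.Lib.Helper66.OMiINVOLM
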