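import Mathlib
import Cfsg.Agent.Lib.Helper18.ReeHallStmt

/-!
S1158/S2357 piece `K9`: the number of elements of order 9 from the number of nonidentity
3-elements and the number of elements of order 3.
-/

set_option autoImplicit false

namespace Cfsg.Agent.Lib.Helper66.RHK9

open Cfsg.Agent.Lib.Helper42.ReeSpStmt Cfsg.Agent.Lib.Helper18.ReeHallStmt

universe u

theorem split {G : Type u} [Group G] [Finite G] :
    Nat.card {g : G // g ≠ 1 ∧ g ^ 9 = 1} =
      Nat.card {g : G // orderOf g = 3} + Nat.card {g : G // orderOf g = 9} := by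
  classical
  have e1 : {g : G // g ≠ 1 ∧ g ^ 9 = 1} ≃ {g : G // orderOf g = 3 ∨ orderOf g = 9} := by
    apply Equiv.subtypeEquivRight
    intro g
    constructor
    · rintro ⟨h1, h9⟩
      have hd : orderOf g ∣ 3 ^ 2 := orderOf_dvd_of_pow_eq_one h9
      obtain ⟨k, hk, hk2⟩ := (Nat.dvd_prime_pow Nat.prime_three).1 hd
      interval_cases k
      · exfalso
        apply h1
        rw [pow_zero] at hk2
        exact orderOf_eq_one_iff.1 hk2
      · left
        rw [hk2, pow_one]
      · right
        rw [hk2]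
        norm_num
    · rintro (h | h)
      · refine ⟨?_, ?_⟩
        · rintro rfl
          rw [orderOf_one] at h
          omega
        · apply orderOf_dvd_iff_pow_eq_one.1
          rw [h]
          norm_num
      · refine ⟨?_, ?_⟩
        · rintro rfl
          rw [orderOf_one] at h
          omega
        · apply orderOf_dvd_iff_pow_eq_one.1
          rw [h]
  have hdis : Disjoint (fun g : G => orderOf g = 3) (fun g : G => orderOf g = 9) := by
    rw [disjoint_iff_inf_le]
    intro g hg
    have h3 : orderOf g = 3 := hg.1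
    have h9 : orderOf g = 9 := hg.2
    omega
  rw [Nat.card_congr e1,
    Nat.card_congr (subtypeOrEquiv (fun g : G => orderOf g = 3) (fun g : G => orderOf g = 9)
      hdis), Nat.card_sum]

theorem main : K9.{u} := by
  intro G _ _ m h3c h3
  unfold C3C at h3c
  rw [split, h3] at h3c
  have hq : 3 ≤ qq m := three_le_qq m
  generalize qq m = q at hq h3c ⊢
  obtain ⟨r, rfl⟩ : ∃ r, q = r + 1 := ⟨q - 1, by omega⟩
  have e1 : (r + 1) ^ 3 = r ^ 3 + 3 * r ^ 2 + 3 * r + 1 := by ring
  have e2 : (r + 1) ^ 2 = r ^ 2 + 2 * r + 1 := by ring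
  have e3 : (r + 1) ^ 3 - 1 = r ^ 3 + 3 * r ^ 2 + 3 * r := by omega
  have e4 : (r + 1) ^ 2 - 1 = r ^ 2 + 2 * r := by omega
  have e5 : r + 1 - 1 = r := by omega
  rw [e3, e4] at h3c
  rw [e5]
  have key : ((r + 1) ^ 3 + 1) * (r ^ 3 + 3 * r ^ 2 + 3 * r) =
      (r ^ 2 + 2 * r) * ((r + 1) ^ 3 + 1) + (r + 1) ^ 2 * r * ((r + 1) ^ 3 + 1) := by ring
  rw [key] at h3c
  exact Nat.add_left_cancel h3c

end Cfsg.Agent.Lib.Helper66.RHK9
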