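import Cfsg.Agent.Lib.Helper18.ReeOutStmt

/-!
# S2127 / FIXQ: an abelian subgroup of `N(P)` with a fixed-point-free element normalizes exactly
one other Sylow subgroup
-/

set_option autoImplicit false

namespace Cfsg.Agent.Lib.Helper66.ReeOutFIXQ

universe u

open Cfsg.Agent.Lib.Helper18.ReeOutStmt

section
variable {G : Type u} [Group G] {p : ℕ}

theorem smul_eq_of_conj_mem [Finite G] (Q : Sylow p G) (h : G)
    (hh : ∀ u ∈ (Q : Subgroup G), h * u * h⁻¹ ∈ (Q : Subgroup G)) : h • Q = Q := by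
  rw [Sylow.smul_eq_iff_mem_normalizer]
  exact Subgroup.mem_normalizer_fintype hh

theorem conj_mem_of_smul_eq (Q : Sylow p G) (h : G) (hh : h • Q = Q) :
    ∀ u ∈ (Q : Subgroup G), h * u * h⁻¹ ∈ (Q : Subgroup G) := by
  rw [Sylow.smul_eq_iff_mem_normalizer] at hh
  intro u hu
  exact (Subgroup.mem_normalizer_iff.mp hh u).mp hu

end

theorem main : FIXQ.{u} := by
  intro G _ _ p _ P H hTI hReg ⟨Q₀, hQ₀⟩ hab hHP ⟨h₀, hh₀H, hfpf⟩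
  have hHP' : ∀ h ∈ H, h • P = P := fun h hh => smul_eq_of_conj_mem P h (hHP h hh)
  have hPP : ∀ u ∈ (P : Subgroup G), u • P = P := fun u hu => by
    rw [Sylow.smul_eq_iff_mem_normalizer]; exact Subgroup.le_normalizer hu
  have hne : ∀ (g : G) (Q : Sylow p G), g • P = P → Q ≠ P → g • Q ≠ P := by
    intro g Q hg hQ h
    exact hQ ((eq_inv_smul_iff.mpr h).trans (inv_smul_eq_iff.mpr hg.symm))
  obtain ⟨u₀, hu₀P, hu₀⟩ := hReg Q₀ (h₀ • Q₀) hQ₀ (hne h₀ Q₀ (hHP' h₀ hh₀H) hQ₀)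
  let ψ : ↥(P : Subgroup G) → ↥(P : Subgroup G) := fun u =>
    ⟨h₀ * (u : G)⁻¹ * h₀⁻¹ * u, (P : Subgroup G).mul_mem
      (hHP h₀ hh₀H ((u : G)⁻¹) ((P : Subgroup G).inv_mem u.2)) u.2⟩
  have hψ : Function.Injective ψ := by
    intro u w huw
    have h1 : h₀ * (u : G)⁻¹ * h₀⁻¹ * u = h₀ * (w : G)⁻¹ * h₀⁻¹ * w := congrArg Subtype.val huw
    have key : h₀⁻¹ * ((u : G) * (w : G)⁻¹) = ((u : G) * (w : G)⁻¹) * h₀⁻¹ := by
      calc h₀⁻¹ * ((u : G) * (w : G)⁻¹)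
          = u * (h₀⁻¹ * (h₀ * (u : G)⁻¹ * h₀⁻¹ * u)) * (w : G)⁻¹ := by group
        _ = u * (h₀⁻¹ * (h₀ * (w : G)⁻¹ * h₀⁻¹ * w)) * (w : G)⁻¹ := by rw [h1]
        _ = ((u : G) * (w : G)⁻¹) * h₀⁻¹ := by group
    have h2 : h₀ * ((u : G) * (w : G)⁻¹) = ((u : G) * (w : G)⁻¹) * h₀ := by
      calc h₀ * ((u : G) * (w : G)⁻¹) = h₀ * (((u : G) * (w : G)⁻¹) * h₀⁻¹) * h₀ := by group
        _ = h₀ * (h₀⁻¹ * ((u : G) * (w : G)⁻¹)) * h₀ := by rw [key]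
        _ = ((u : G) * (w : G)⁻¹) * h₀ := by group
    have h3 := hfpf _ ((P : Subgroup G).mul_mem u.2 ((P : Subgroup G).inv_mem w.2)) h2
    exact Subtype.ext (mul_inv_eq_one.mp h3)
  obtain ⟨u, hu⟩ := Finite.surjective_of_injective hψ ⟨u₀, hu₀P⟩
  have hu' : h₀ * (u : G)⁻¹ * h₀⁻¹ * u = u₀ := congrArg Subtype.val hu
  have hQfix : h₀ • ((u : G) • Q₀) = (u : G) • Q₀ := by
    have e1 : h₀ • ((u : G) • Q₀) = (h₀ * u * h₀⁻¹) • (h₀ • Q₀) := by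
      rw [smul_smul, smul_smul]; congr 1; group
    rw [e1, ← hu₀, smul_smul]
    congr 1
    rw [← hu']; group
  obtain ⟨Q, hQdef⟩ : ∃ Q : Sylow p G, Q = (u : G) • Q₀ := ⟨_, rfl⟩
  rw [← hQdef] at hQfix
  have hQP : Q ≠ P := by rw [hQdef]; exact hne u Q₀ (hPP u u.2) hQ₀
  have huniq : ∀ Q₁ Q₂ : Sylow p G, Q₁ ≠ P → Q₂ ≠ P → h₀ • Q₁ = Q₁ → h₀ • Q₂ = Q₂ →
      Q₂ = Q₁ := by
    intro Q₁ Q₂ h1 h2 hf1 hf2
    obtain ⟨w, hwP, hw⟩ := hReg Q₁ Q₂ h1 h2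
    have hN1 : h₀ ∈ Subgroup.normalizer ((Q₁ : Subgroup G) : Set G) :=
      Sylow.smul_eq_iff_mem_normalizer.mp hf1
    have hN2 : w⁻¹ * h₀ * w ∈ Subgroup.normalizer ((Q₁ : Subgroup G) : Set G) := by
      apply Sylow.smul_eq_iff_mem_normalizer.mp
      rw [← smul_smul, ← smul_smul, hw, hf2, ← hw, inv_smul_smul]
    have hmemN : w⁻¹ * h₀ * w * h₀⁻¹ ∈ Subgroup.normalizer ((Q₁ : Subgroup G) : Set G) :=
      mul_mem hN2 (inv_mem hN1)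
    have hmemP : w⁻¹ * h₀ * w * h₀⁻¹ ∈ (P : Subgroup G) := by
      have h3 := hHP h₀ hh₀H w hwP
      have : w⁻¹ * h₀ * w * h₀⁻¹ = w⁻¹ * (h₀ * w * h₀⁻¹) := by group
      rw [this]; exact mul_mem (inv_mem hwP) h3
    have hbot : (P : Subgroup G) ⊓ Subgroup.normalizer ((Q₁ : Subgroup G) : Set G) = ⊥ :=
      (IsPGroup.inf_normalizer_sylow P.isPGroup' Q₁).trans (hTI P Q₁ (Ne.symm h1))
    have h4 : w⁻¹ * h₀ * w * h₀⁻¹ = 1 := by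
      have : w⁻¹ * h₀ * w * h₀⁻¹ ∈
          (P : Subgroup G) ⊓ Subgroup.normalizer ((Q₁ : Subgroup G) : Set G) := ⟨hmemP, hmemN⟩
      rw [hbot] at this; exact Subgroup.mem_bot.mp this
    have h5 : h₀ * w = w * h₀ := by
      calc h₀ * w = w * (w⁻¹ * h₀ * w * h₀⁻¹) * h₀ := by group
        _ = w * h₀ := by rw [h4, mul_one]
    have h6 := hfpf w hwP h5
    rw [← hw, h6, one_smul]
  have hHQ : ∀ h ∈ H, h • Q = Q := by
    intro h hh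
    apply huniq Q (h • Q) hQP (hne h Q (hHP' h hh) hQP) hQfix
    rw [smul_smul, hab h₀ hh₀H h hh, ← smul_smul, hQfix]
  refine ⟨Q, hQP, fun h hh => conj_mem_of_smul_eq Q h (hHQ h hh), ?_⟩
  intro Q' hQ'P hQ'
  exact huniq Q Q' hQP hQ'P hQfix (smul_eq_of_conj_mem Q' h₀ (hQ' h₀ hh₀H))

end Cfsg.Agent.Lib.Helper66.ReeOutFIXQ
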