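import Mathlib
import Cfsg.Agent.Lib.Helper62.S57Stmt
import Cfsg.Agent.Lib.Helper62.S55Stmt
import Cfsg.Agent.Lib.Helper76.PSolv

/-!
# S1357 / KPRIMEABS (helper66, second seat): assembly of `SylNormal`, `SylNilp`, `HallD`, `Frat`,
`Lift`, `QuotP`, `NilProd2` (all taken as hypotheses)
-/

set_option autoImplicit false

namespace Cfsg.Agent.Lib.Helper66.S57KPRIMEABS

universe u

open Cfsg Cfsg.Agent.Lib.Helper93.S64Stmt Cfsg.Agent.Lib.Helper22.S56Stmt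
  Cfsg.Agent.Lib.Helper62.S57Stmt

theorem main (hSN : SylNormal.{u}) (hSP : Cfsg.Agent.Lib.Helper62.S55Stmt.SylNilp.{u})
    (hHD : HallD.{u}) (hFr : Frat.{u}) (hLift : Lift.{u}) (hQP : QuotP.{u})
    (hNP2 : NilProd2.{u}) : KPrimeAbs.{u} := by
  intro X _ _ H R _ q hA hB hnil
  haveI : Fact q.Prime := ⟨hB.qprime⟩
  obtain ⟨hq, hC⟩ := hSN H R q hA hB
  have hnilQ := hSP H R q hA hB
  obtain ⟨D, hDH, hDO, hHOD, hRD, hDq⟩ := hHD H R q hA hB hq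
  have hOp : IsPGroup q ↥(Oq X H q) :=
    (Cfsg.Agent.Lib.Helper76.PSolv.pCore_isPGroup (G := X) q).to_le inf_le_left
  obtain ⟨N, hNn, hNO, hpow, hcomm, hgen⟩ := hFr (Oq X H q) q hOp
  haveI := hNn
  by_cases h : ∃ d ∈ D, ∃ o ∈ Oq X H q, d * o * d⁻¹ * o⁻¹ ∉ N
  · exact hQP H R D N q hA hB hq hC hDH hDO hRD hNO hpow hcomm h
  · exfalso
    push_neg at h
    have hcen : D ≤ Subgroup.centralizer (Oq X H q : Set X) :=
      hLift (Oq X H q) N D q hOp hNO hgen hDq h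
    exact hnil (hNP2 H (Oq X H q) D q hOp (Oq_le X H q) hDH hDO hHOD hnilQ hcen)

end Cfsg.Agent.Lib.Helper66.S57KPRIMEABS
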