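import Mathlib
import Cfsg.Agent.Lib.Helper93.S64Stmt

/-!
# S1364 / GLUEB core (call by helper93): GLUEB from the statements of S1373 and S1365 as hypotheses

The second half of the abstract setting for `X = ↥M`, `H = piCore (sigma M) ↥M`,
`R = K.subgroupOf M`, `q = |M_σ ⊓ C(K)|` when `U = ⊥`: `q` is prime (landed S1373), the fixed
points have order `q`, and they lie in `⁅H, H⁆` (landed S1365).
-/

set_option autoImplicit false

universe u

namespace Cfsg.Agent.Lib.Helper66.S64GLUEBCore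

open Cfsg.Agent.Lib.Helper93.S64Stmt
open Cfsg

/-- the fixed points of `K.subgroupOf M` on `piCore (sigma M) ↥M`, pushed to `G` -/
theorem map_fix {G : Type u} [Group G] (M K : Subgroup G) (hKM : K ≤ M) :
    (Cfsg.piCore (Cfsg.sigma M) ↥M ⊓
        Subgroup.centralizer ((K.subgroupOf M : Subgroup ↥M) : Set ↥M)).map M.subtype =
      Cfsg.sigmaCore M ⊓ Subgroup.centralizer (K : Set G) := by
  ext x
  constructor
  · intro hx
    obtain ⟨y, hy, rfl⟩ := Subgroup.mem_map.mp hx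
    obtain ⟨hy1, hy2⟩ := Subgroup.mem_inf.mp hy
    refine Subgroup.mem_inf.mpr ⟨Subgroup.mem_map.mpr ⟨y, hy1, rfl⟩, ?_⟩
    rw [Subgroup.mem_centralizer_iff]
    intro k hk
    have hkM : k ∈ M := hKM hk
    have h := (Subgroup.mem_centralizer_iff.mp hy2) ⟨k, hkM⟩ (Subgroup.mem_subgroupOf.mpr hk)
    exact congrArg Subtype.val h
  · intro hx
    obtain ⟨hx1, hx2⟩ := Subgroup.mem_inf.mp hx
    obtain ⟨y, hy, rfl⟩ := Subgroup.mem_map.mp hx1
    refine Subgroup.mem_map.mpr ⟨y, Subgroup.mem_inf.mpr ⟨hy, ?_⟩, rfl⟩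
    rw [Subgroup.mem_centralizer_iff]
    intro k hk
    apply Subtype.ext
    exact (Subgroup.mem_centralizer_iff.mp hx2) (k : G) (Subgroup.mem_subgroupOf.mp hk)

/-- the statement of S1373 -/
def H1373 : Prop :=
  ∀ {G : Type u} [Group G] [Finite G], Cfsg.IsMinSimpleOddOrder G →
  ∀ (M : Subgroup G), IsCoatom M → ∀ (K U : Subgroup G), Cfsg.IsSigmaDecomposition M K U →
    K ≠ ⊥ → U = ⊥ →
    (Nat.card ↥(Cfsg.sigmaCore M ⊓ Subgroup.centralizer (K : Set G))).Prime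

/-- the statement of S1365 -/
def H1365 : Prop :=
  ∀ {G : Type u} [Group G] [Finite G], Cfsg.IsMinSimpleOddOrder G →
  ∀ (M : Subgroup G), IsCoatom M → ∀ (K U : Subgroup G), Cfsg.IsSigmaDecomposition M K U →
    K ≠ ⊥ →
    ⁅M, M⁆ = U ⊔ Cfsg.sigmaCore M ∧
      (Cfsg.sigmaCore M ⊓ Subgroup.centralizer (K : Set G)) ≤ ⁅⁅M, M⁆, ⁅M, M⁆⁆

theorem core (h73 : H1373.{u}) (h65 : H1365.{u}) : GlueB.{u} := by
  intro G _ _ hG M K U hM hKU hK1 hU
  have hKM : K ≤ M := hKU.hall.1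
  have hmap := map_fix M K hKM
  refine ⟨?_, ?_, ?_⟩
  · exact h73 hG M hM K U hKU hK1 hU
  · rw [← hmap]
    exact (Subgroup.card_map_of_injective M.subtype_injective).symm
  · intro y hy
    have hyG : (y : G) ∈ Cfsg.sigmaCore M ⊓ Subgroup.centralizer (K : Set G) := by
      rw [← hmap]
      exact Subgroup.mem_map_of_mem M.subtype hy
    obtain ⟨hD, hle⟩ := h65 hG M hM K U hKU hK1
    have h1 := hle hyG
    rw [hD, hU, bot_sup_eq] at h1
    have h2 : ⁅Cfsg.sigmaCore M, Cfsg.sigmaCore M⁆ =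
        (⁅Cfsg.piCore (Cfsg.sigma M) ↥M, Cfsg.piCore (Cfsg.sigma M) ↥M⁆).map M.subtype :=
      (Subgroup.map_commutator _ _ M.subtype).symm
    rw [h2] at h1
    obtain ⟨z, hz, hzy⟩ := h1
    have hzy' : z = y := Subtype.ext hzy
    rw [← hzy']
    exact hz

end Cfsg.Agent.Lib.Helper66.S64GLUEBCore
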