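import Cfsg.Agent.Lib.Helper26.T64Stmt

/-!
# S3157 / COMMID: the commutator identity `[s, ρ t] = ρ² [s, t]`
-/

set_option autoImplicit false

namespace Cfsg.Agent.Lib.Helper66.T64COMMID

universe u

open Cfsg.Agent.Lib.Helper26.T64Stmt

variable {T : Type u} [Group T]

/-- the commutator `s t s⁻¹ t⁻¹` -/
def cm (s t : T) : T := s * t * s⁻¹ * t⁻¹

theorem cm_mem (hsq : SqCentral T) (s t : T) : cm s t ∈ Subgroup.center T := by
  have e : cm s t = (s * t) * (s * t) * (s * s)⁻¹ * (t * t)⁻¹ := by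
    have hc : (s * s)⁻¹ ∈ Subgroup.center T := inv_mem (hsq s)
    have h1 : t * (s * s)⁻¹ = (s * s)⁻¹ * t := Subgroup.mem_center_iff.mp hc t
    unfold cm
    calc s * t * s⁻¹ * t⁻¹ = s * t * s * ((s * s)⁻¹ * t) * (t * t)⁻¹ := by group
      _ = s * t * s * (t * (s * s)⁻¹) * (t * t)⁻¹ := by rw [h1]
      _ = _ := by group
  rw [e]
  exact mul_mem (mul_mem (hsq (s * t)) (inv_mem (hsq s))) (inv_mem (hsq t))

theorem cm_mul_right (hsq : SqCentral T) (s t t' : T) : cm s (t * t') = cm s t * cm s t' := by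
  have h1 : t * cm s t' = cm s t' * t := Subgroup.mem_center_iff.mp (cm_mem hsq s t') t
  calc cm s (t * t') = cm s t * (t * cm s t') * t⁻¹ := by unfold cm; group
    _ = cm s t * cm s t' := by rw [h1]; group

theorem cm_mul_left (hsq : SqCentral T) (s s' t : T) : cm (s * s') t = cm s' t * cm s t := by
  have h1 : s * cm s' t = cm s' t * s := Subgroup.mem_center_iff.mp (cm_mem hsq s' t) s
  calc cm (s * s') t = (s * cm s' t) * (t * s⁻¹ * t⁻¹) := by unfold cm; group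
    _ = cm s' t * cm s t := by rw [h1]; unfold cm; group

theorem main : COMMID.{u} := by
  intro T _ _ ρ hρ hF hZ hsq s t
  have hρ3 : ∀ y : T, ρ (ρ (ρ y)) = y := by
    intro y
    have h := pow_orderOf_eq_one ρ
    rw [hρ] at h
    have := congrArg (fun f : MulAut T => f y) h
    simpa [pow_succ, MulAut.mul_apply] using this
  have hρ2 : ∀ y : T, ρ (ρ y) = (y * ρ y)⁻¹ := by
    intro y
    exact eq_inv_of_mul_eq_one_right (hF y).1
  have hρcm : ∀ a b : T, ρ (cm a b) = cm (ρ a) (ρ b) := by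
    intro a b; unfold cm; simp only [map_mul, map_inv]
  have hsqcm : ∀ a b : T, cm a b * cm a b = 1 := fun a b => hZ _ (cm_mem hsq a b)
  have hinv_r : ∀ a b : T, cm a b⁻¹ = cm a b := by
    intro a b
    have h1 : cm a (b * b⁻¹) = cm a b * cm a b⁻¹ := cm_mul_right hsq a b b⁻¹
    have h0 : cm a (b * b⁻¹) = 1 := by unfold cm; group
    rw [h0] at h1
    calc cm a b⁻¹ = (cm a b * cm a b) * cm a b⁻¹ := by rw [hsqcm, one_mul]
      _ = cm a b * (cm a b * cm a b⁻¹) := by rw [mul_assoc]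
      _ = cm a b := by rw [← h1, mul_one]
  have hinv_l : ∀ a b : T, cm a⁻¹ b = cm a b := by
    intro a b
    have h1 : cm (a * a⁻¹) b = cm a⁻¹ b * cm a b := cm_mul_left hsq a a⁻¹ b
    have h0 : cm (a * a⁻¹) b = 1 := by unfold cm; group
    rw [h0] at h1
    calc cm a⁻¹ b = cm a⁻¹ b * (cm a b * cm a b) := by rw [hsqcm, mul_one]
      _ = (cm a⁻¹ b * cm a b) * cm a b := by rw [mul_assoc]
      _ = cm a b := by rw [← h1, one_mul]
  obtain ⟨com, hcom⟩ : ∃ com : T → T → ↥(Subgroup.center T), ∀ a b, (com a b : T) = cm a b :=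
    ⟨fun a b => ⟨cm a b, cm_mem hsq a b⟩, fun _ _ => rfl⟩
  have sq : ∀ x : ↥(Subgroup.center T), x * x = 1 := fun x => Subtype.ext (hZ x.1 x.2)
  have h1 : com s (ρ t) * com (ρ s) (ρ (ρ t)) * com (ρ (ρ s)) t = 1 := by
    apply Subtype.ext
    simp only [Subgroup.coe_mul, hcom, Subgroup.coe_one]
    have := (hF (cm s (ρ t))).1
    rw [hρcm s (ρ t), hρcm (ρ s) (ρ (ρ t)), hρ3] at this
    exact this
  have h2 : com s t * com (ρ s) (ρ t) * com (ρ (ρ s)) (ρ (ρ t)) = 1 := by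
    apply Subtype.ext
    simp only [Subgroup.coe_mul, hcom, Subgroup.coe_one]
    have := (hF (cm s t)).1
    rw [hρcm s t, hρcm (ρ s) (ρ t)] at this
    exact this
  have h3 : com (ρ (ρ s)) t = com s t * (com (ρ s) (ρ (ρ t)) * com (ρ s) (ρ t)) := by
    apply Subtype.ext
    simp only [Subgroup.coe_mul, hcom]
    have hB : cm (ρ s) (ρ (ρ t)) = cm (ρ s) t * cm (ρ s) (ρ t) := by
      rw [hρ2 t, hinv_r, cm_mul_right hsq]
    have hB' : cm (ρ s) t = cm (ρ s) (ρ (ρ t)) * cm (ρ s) (ρ t) := by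
      rw [hB, mul_assoc, hsqcm, mul_one]
    rw [hρ2 s, hinv_l, cm_mul_left hsq, hB']
    exact Subgroup.mem_center_iff.mp (cm_mem hsq s t) _
  have h4 : com s (ρ t) * com s t * com (ρ s) (ρ t) = 1 := by
    have e : com s (ρ t) * com (ρ s) (ρ (ρ t)) * (com s t * (com (ρ s) (ρ (ρ t)) *
        com (ρ s) (ρ t))) = com s (ρ t) * com s t * com (ρ s) (ρ t) *
        (com (ρ s) (ρ (ρ t)) * com (ρ s) (ρ (ρ t))) := by ac_rfl
    rw [h3, e, sq, mul_one] at h1
    exact h1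
  have h5 : com s (ρ t) = com (ρ (ρ s)) (ρ (ρ t)) := by
    calc com s (ρ t) = com s (ρ t) * (com s t * com (ρ s) (ρ t) * com (ρ (ρ s)) (ρ (ρ t))) := by
          rw [h2, mul_one]
      _ = (com s (ρ t) * com s t * com (ρ s) (ρ t)) * com (ρ (ρ s)) (ρ (ρ t)) := by ac_rfl
      _ = com (ρ (ρ s)) (ρ (ρ t)) := by rw [h4, one_mul]
  have h6 := congrArg Subtype.val h5
  rw [hcom, hcom] at h6
  show s * ρ t * s⁻¹ * (ρ t)⁻¹ = ρ (ρ (s * t * s⁻¹ * t⁻¹))
  have e2 : ρ (ρ (s * t * s⁻¹ * t⁻¹)) = cm (ρ (ρ s)) (ρ (ρ t)) := by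
    unfold cm; simp only [map_mul, map_inv]
  rw [e2]; exact h6

end Cfsg.Agent.Lib.Helper66.T64COMMID
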